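import Cfsg.Agent.H465.Nonab

/-!
# Elements of order `p ^ a` with `n < φ(p ^ a)` (helper465)

`centralize`: if `y` of order `p ^ a` normalises a `t`-group `T` of linear transformations in dimension `n` over a field of
characteristic `≠ t` and `n < p ^ a - p ^ (a - 1)` (or `p = n + 1` and not `t = 2`, `n = 2 ^ k`), then the element of
order `p` of `⟨y⟩` centralises `T`.
-/

set_option autoImplicit false
set_option linter.unusedSectionVars false

namespace Cfsg.Agent.H465.LinSolv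

open Module Cfsg.Agent.H465.Weights Cfsg.Agent.H465.Bounds

/-! ### coprime action -/

section Cop

variable {G : Type*} [Group G]

theorem conj_pow {y1 r c : G} (hr : y1 * r * y1⁻¹ = r * c) (hc : y1 * c = c * y1) (i : ℕ) :
    y1 ^ i * r * (y1 ^ i)⁻¹ = r * c ^ i := by
  induction i with
  | zero => simp
  | succ i ih =>
    have h1 : y1 * c ^ i * y1⁻¹ = c ^ i := by
      have : Commute y1 (c ^ i) := Commute.pow_right hc i
      rw [this.eq, mul_inv_cancel_right]
    calc y1 ^ (i + 1) * r * (y1 ^ (i + 1))⁻¹ = y1 * (y1 ^ i * r * (y1 ^ i)⁻¹) * y1⁻¹ := by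
          rw [pow_succ']; group
      _ = (y1 * r * y1⁻¹) * (y1 * c ^ i * y1⁻¹) := by rw [ih]; group
      _ = r * c * c ^ i := by rw [hr, h1]
      _ = r * c ^ (i + 1) := by rw [mul_assoc, ← pow_succ']

theorem pow_eq_one {y1 r c : G} {p : ℕ} (hy : y1 ^ p = 1) (hr : y1 * r * y1⁻¹ = r * c) (hc : y1 * c = c * y1) :
    c ^ p = 1 := by
  have h := conj_pow hr hc p
  rw [hy, inv_one, one_mul, mul_one] at h
  exact (mul_eq_left.1 h.symm)

theorem eq_one_of_coprime {p n : ℕ} (hpn : p.Coprime n) {c : G} (h1 : c ^ p = 1) (h2 : c ^ n = 1) : c = 1 := by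
  have := pow_gcd_eq_one.2 ⟨h1, h2⟩
  rwa [hpn, pow_one] at this

variable [Finite G]

/-- Structure of a minimal invariant subgroup on which `y₁` acts non-trivially. -/
theorem exists_min {p t : ℕ} [Fact p.Prime] [Fact t.Prime] (htp : t ≠ p) {y y1 : G} (hyy : y1 ∈ Subgroup.zpowers y)
    (hy1 : y1 ^ p = 1) {T : Subgroup G} (hT : IsPGroup t T) (hyT : ∀ u ∈ T, y * u * y⁻¹ ∈ T)
    (hne : ¬ ∀ u ∈ T, y1 * u = u * y1) :
    ∃ R ≤ T, (∀ u ∈ R, y * u * y⁻¹ ∈ R) ∧
      (((∀ u ∈ R, ∀ v ∈ R, u * v = v * u) ∧ (∀ u ∈ R, y1 * u = u * y1 → u = 1) ∧ ∃ u ∈ R, u ≠ 1) ∨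
        ((∀ u ∈ R, ∀ v ∈ R, u * v * u⁻¹ * v⁻¹ ∈ Zc R) ∧ (∀ u ∈ R, y1 * u = u * y1 ↔ u ∈ Zc R) ∧
          ∃ u ∈ R, ∃ v ∈ R, u * v * u⁻¹ * v⁻¹ ≠ 1)) := by
  classical
  have hp : p.Prime := Fact.out
  have ht : t.Prime := Fact.out
  obtain ⟨R, hR⟩ := Set.Finite.exists_minimal
    (s := {R : Subgroup G | R ≤ T ∧ (∀ u ∈ R, y * u * y⁻¹ ∈ R) ∧ ¬ ∀ u ∈ R, y1 * u = u * y1})
    (Set.toFinite _) ⟨T, le_rfl, hyT, hne⟩
  obtain ⟨hRT, hyR, hRne⟩ := hR.1
  have hmin : ∀ S : Subgroup G, S ≤ R → (∀ u ∈ S, y * u * y⁻¹ ∈ S) → S ≠ R → ∀ u ∈ S, y1 * u = u * y1 := by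
    intro S hSR hyS hne
    by_contra hcon
    exact hne (le_antisymm hSR (hR.2 ⟨hSR.trans hRT, hyS, hcon⟩ hSR))
  have hRp : IsPGroup t R := hT.to_le hRT
  obtain ⟨k, hk⟩ := IsPGroup.iff_card.1 hRp
  have hcop : p.Coprime (Nat.card R) := by
    rw [hk]
    exact Nat.Coprime.pow_right k ((Nat.coprime_primes hp ht).2 htp.symm)
  have hpow : ∀ c ∈ R, c ^ p = 1 → c = 1 := by
    intro c hc h1
    refine eq_one_of_coprime hcop h1 ?_
    have := pow_card_eq_one' (x := (⟨c, hc⟩ : R))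
    exact congrArg Subtype.val this
  have hycomm : y * y1 = y1 * y := by
    obtain ⟨i, rfl⟩ := Subgroup.mem_zpowers_iff.1 hyy
    exact (Commute.self_zpow y i).eq
  -- `y` and its powers normalise
  have hyi : ∀ S : Subgroup G, (∀ u ∈ S, y * u * y⁻¹ ∈ S) → ∀ g ∈ Subgroup.zpowers y, ∀ u ∈ S, g * u * g⁻¹ ∈ S := by
    intro S hS g hg u hu
    have h1 : y ∈ Subgroup.normalizer (S : Set G) := by
      rw [Subgroup.mem_normalizer_iff_map_conj_eq]
      refine Subgroup.eq_of_le_of_card_ge ?_ (le_of_eq (Subgroup.card_map_of_injective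
        (K := S) (MulAut.conj y).injective).symm)
      rintro _ ⟨a, ha, rfl⟩
      exact hS a ha
    have h2 := (Subgroup.zpowers_le.2 h1) hg
    exact (Subgroup.mem_normalizer_iff.1 h2 u).1 hu
  have hy1R : ∀ u ∈ R, y1 * u * y1⁻¹ ∈ R := hyi R hyR y1 hyy
  -- `R = [R, y₁]`
  set D : Subgroup G := Subgroup.closure {c | ∃ r ∈ R, c = r⁻¹ * (y1 * r * y1⁻¹)} with hD
  have hDR : D ≤ R := by
    rw [hD, Subgroup.closure_le]
    rintro _ ⟨r, hr, rfl⟩
    exact mul_mem (inv_mem hr) (hy1R r hr)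
  have hDy : ∀ u ∈ D, y * u * y⁻¹ ∈ D := by
    intro u hu
    have h1 : D.map (MulAut.conj y).toMonoidHom ≤ D := by
      rw [hD, MonoidHom.map_closure, Subgroup.closure_le]
      rintro _ ⟨_, ⟨r, hr, rfl⟩, rfl⟩
      refine Subgroup.subset_closure ⟨y * r * y⁻¹, hyR r hr, ?_⟩
      show y * (r⁻¹ * (y1 * r * y1⁻¹)) * y⁻¹ = (y * r * y⁻¹)⁻¹ * (y1 * (y * r * y⁻¹) * y1⁻¹)
      have e1 : y * y1 * r * (y * y1)⁻¹ = y1 * y * r * (y1 * y)⁻¹ := by rw [hycomm]
      calc y * (r⁻¹ * (y1 * r * y1⁻¹)) * y⁻¹ = (y * r⁻¹ * y⁻¹) * (y * y1 * r * (y * y1)⁻¹) := by group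
        _ = (y * r⁻¹ * y⁻¹) * (y1 * y * r * (y1 * y)⁻¹) := by rw [e1]
        _ = _ := by group
    exact h1 ⟨u, hu, rfl⟩
  have hDeq : D = R := by
    by_contra h
    have h1 := hmin D hDR hDy h
    apply hRne
    intro r hr
    have h2 : r⁻¹ * (y1 * r * y1⁻¹) ∈ D := Subgroup.subset_closure ⟨r, hr, rfl⟩
    have h3 := pow_eq_one (p := p) hy1 (r := r) (c := r⁻¹ * (y1 * r * y1⁻¹)) (by group) (h1 _ h2)
    have h4 := hpow _ (hDR h2) h3
    have h5 : y1 * r * y1⁻¹ = r := by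
      rw [inv_mul_eq_one] at h4
      exact h4.symm
    exact mul_inv_eq_iff_eq_mul.1 h5
  -- proper normal invariant subgroups are central
  have hcentral : ∀ S : Subgroup G, S ≤ R → (∀ u ∈ S, y * u * y⁻¹ ∈ S) → S ≠ R →
      (∀ r ∈ R, ∀ s ∈ S, r * s * r⁻¹ ∈ S) → S ≤ Zc R := by
    intro S hSR hyS hne hn s hs
    have h1 := hmin S hSR hyS hne
    rw [mem_Zc]
    refine ⟨hSR hs, ?_⟩
    have h2 : R ≤ Subgroup.centralizer ({s} : Set G) := by
      rw [← hDeq, hD, Subgroup.closure_le]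
      rintro _ ⟨r, hr, rfl⟩
      rw [SetLike.mem_coe, Subgroup.mem_centralizer_singleton_iff]
      have h3 := h1 _ (hn r hr s hs)
      have h4 := h1 s hs
      -- `r⁻¹ y₁ r` commutes with `s`
      have h5 : (r⁻¹ * y1 * r) * s = s * (r⁻¹ * y1 * r) := by
        calc (r⁻¹ * y1 * r) * s = r⁻¹ * (y1 * (r * s * r⁻¹)) * r := by group
          _ = r⁻¹ * ((r * s * r⁻¹) * y1) * r := by rw [h3]
          _ = _ := by group
      have h6 : y1⁻¹ * s = s * y1⁻¹ := by
        rw [inv_mul_eq_iff_eq_mul, ← mul_assoc, h4, mul_inv_cancel_right]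
      calc r⁻¹ * (y1 * r * y1⁻¹) * s = (r⁻¹ * y1 * r) * (y1⁻¹ * s) := by group
        _ = ((r⁻¹ * y1 * r) * s) * y1⁻¹ := by rw [h6]; group
        _ = s * (r⁻¹ * (y1 * r * y1⁻¹)) := by rw [h5]; group
    intro v hv
    exact Subgroup.mem_centralizer_singleton_iff.1 (h2 hv)
  refine ⟨R, hRT, hyR, ?_⟩
  by_cases hab : ∀ u ∈ R, ∀ v ∈ R, u * v = v * u
  · -- the abelian case
    left
    refine ⟨hab, ?_, ?_⟩
    · -- the norm map
      intro u hu hu1
      -- on `R` the product of the conjugates is trivial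
      have hconjR : ∀ i : ℕ, ∀ r ∈ R, y1 ^ i * r * (y1 ^ i)⁻¹ ∈ R := fun i r hr =>
        hyi R hyR _ (pow_mem hyy i) r hr
      let cR : CommGroup R := { (inferInstance : Group R) with mul_comm := fun a b => Subtype.ext (hab a a.2 b b.2) }
      let cj : ℕ → R →* R := fun i => MonoidHom.mk' (fun r => ⟨y1 ^ i * r * (y1 ^ i)⁻¹, hconjR i r r.2⟩) (by
        intro r r'
        apply Subtype.ext
        show y1 ^ i * (r * r' : G) * (y1 ^ i)⁻¹ = y1 ^ i * r * (y1 ^ i)⁻¹ * (y1 ^ i * r' * (y1 ^ i)⁻¹)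
        group)
      let Nm : R →* R := ∏ i ∈ Finset.range p, cj i
      have hNm : ∀ r : R, Nm r = ∏ i ∈ Finset.range p, cj i r := fun r => by
        simp only [Nm, MonoidHom.finsetProd_apply]
      have hcj1 : ∀ (i : ℕ) (r : R), cj i (cj 1 r) = cj (i + 1) r := by
        intro i r
        apply Subtype.ext
        show y1 ^ i * (y1 ^ 1 * (r : G) * (y1 ^ 1)⁻¹) * (y1 ^ i)⁻¹ = y1 ^ (i + 1) * r * (y1 ^ (i + 1))⁻¹
        rw [pow_one, pow_succ]
        group
      have hcjp : ∀ r : R, cj p r = cj 0 r := by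
        intro r
        apply Subtype.ext
        show y1 ^ p * (r : G) * (y1 ^ p)⁻¹ = y1 ^ 0 * r * (y1 ^ 0)⁻¹
        rw [hy1, pow_zero]
      have hNm1 : ∀ r : R, Nm (r⁻¹ * cj 1 r) = 1 := by
        intro r
        have h1 : Nm (cj 1 r) = Nm r := by
          rw [hNm, hNm, Finset.prod_congr rfl fun i _ => hcj1 i r]
          have h2 := Finset.prod_range_succ (fun i => cj i r) p
          have h3 := Finset.prod_range_succ' (fun i => cj i r) p
          rw [h2, hcjp r] at h3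
          exact (mul_right_cancel h3).symm
        rw [map_mul, map_inv, h1, inv_mul_cancel]
      have hNmD : ∀ r : R, Nm r = 1 := by
        have h1 : D ≤ (Nm.ker).map R.subtype := by
          rw [hD, Subgroup.closure_le]
          rintro _ ⟨r, hr, rfl⟩
          refine ⟨(⟨r, hr⟩ : R)⁻¹ * cj 1 ⟨r, hr⟩, hNm1 _, ?_⟩
          show r⁻¹ * (y1 ^ 1 * r * (y1 ^ 1)⁻¹) = r⁻¹ * (y1 * r * y1⁻¹)
          rw [pow_one]
        intro r
        have h2 : (r : G) ∈ D := by rw [hDeq]; exact r.2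
        obtain ⟨r', hr', he⟩ := h1 h2
        rw [← Subtype.ext he]
        exact hr'
      have h1 := hNmD ⟨u, hu⟩
      rw [hNm] at h1
      have h2 : ∀ i ∈ Finset.range p, cj i ⟨u, hu⟩ = ⟨u, hu⟩ := by
        intro i _
        apply Subtype.ext
        show y1 ^ i * u * (y1 ^ i)⁻¹ = u
        have : Commute (y1 ^ i) u := Commute.pow_left hu1 i
        rw [this.eq, mul_inv_cancel_right]
      rw [Finset.prod_congr rfl h2, Finset.prod_const, Finset.card_range] at h1
      exact hpow u hu (congrArg Subtype.val h1)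
    · by_contra hcon
      push Not at hcon
      apply hRne
      intro u hu
      rw [hcon u hu, mul_one, one_mul]
  · -- the nonabelian case
    right
    push Not at hab
    obtain ⟨u0, hu0, v0, hv0, hne0⟩ := hab
    have hRnil : Group.IsNilpotent R := hRp.isNilpotent
    set N : Subgroup G := ⁅R, R⁆ with hN
    have hNR : N ≤ R := by
      rw [hN, Subgroup.commutator_le]
      intro u hu v hv
      rw [commutatorElement_def]
      exact mul_mem (mul_mem (mul_mem hu hv) (inv_mem hu)) (inv_mem hv)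
    have hNy : ∀ u ∈ N, y * u * y⁻¹ ∈ N := by
      intro u hu
      have h1 : N.map (MulAut.conj y).toMonoidHom ≤ N := by
        rw [hN, Subgroup.map_commutator]
        have h2 : R.map (MulAut.conj y).toMonoidHom ≤ R := by
          rintro _ ⟨r, hr, rfl⟩
          exact hyR r hr
        exact Subgroup.commutator_mono h2 h2
      exact h1 ⟨u, hu, rfl⟩
    have hNne : N ≠ R := by
      intro h
      have hRnt : Nontrivial R := ⟨⟨⟨u0, hu0⟩, ⟨v0, hv0⟩, fun h => hne0 (by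
        have h' : u0 = v0 := congrArg Subtype.val h
        rw [h'])⟩⟩
      have h1 := Group.IsSolvable.commutator_lt_top_of_nontrivial R
      apply h1.ne
      apply Subgroup.map_injective R.subtype_injective
      rw [Subgroup.map_subtype_commutator, ← MonoidHom.range_eq_map, R.range_subtype]
      exact h
    have hNn : ∀ r ∈ R, ∀ s ∈ N, r * s * r⁻¹ ∈ N := by
      intro r hr s hs
      have h1 : N.map (MulAut.conj r).toMonoidHom ≤ N := by
        rw [hN, Subgroup.map_commutator]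
        have h2 : R.map (MulAut.conj r).toMonoidHom ≤ R := by
          rintro _ ⟨x, hx, rfl⟩
          exact mul_mem (mul_mem hr hx) (inv_mem hr)
        exact Subgroup.commutator_mono h2 h2
      exact h1 ⟨s, hs, rfl⟩
    have hNZ : N ≤ Zc R := hcentral N hNR hNy hNne hNn
    have hNmem : ∀ u ∈ R, ∀ v ∈ R, u * v * u⁻¹ * v⁻¹ ∈ N := by
      intro u hu v hv
      rw [← commutatorElement_def]
      exact Subgroup.commutator_mem_commutator hu hv
    have hNfix := hmin N hNR hNy hNne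
    -- the centraliser of `y₁`
    set C : Subgroup G := R ⊓ Subgroup.centralizer ({y1} : Set G) with hC
    have memC : ∀ u, u ∈ C ↔ u ∈ R ∧ y1 * u = u * y1 := by
      intro u
      rw [hC, Subgroup.mem_inf, Subgroup.mem_centralizer_singleton_iff]
      exact and_congr_right fun _ => eq_comm
    have hCy : ∀ u ∈ C, y * u * y⁻¹ ∈ C := by
      intro u hu
      rw [memC] at hu ⊢
      refine ⟨hyR u hu.1, ?_⟩
      calc y1 * (y * u * y⁻¹) = (y1 * y) * u * y⁻¹ := by group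
        _ = y * (y1 * u) * y⁻¹ := by rw [← hycomm]; group
        _ = y * u * (y1 * y⁻¹) := by rw [hu.2]; group
        _ = y * u * (y⁻¹ * y1) := by
            have : y1 * y⁻¹ = y⁻¹ * y1 := by
              rw [mul_inv_eq_iff_eq_mul, mul_assoc, ← hycomm, inv_mul_cancel_left]
            rw [this]
        _ = _ := by group
    have hCne : C ≠ R := by
      intro h
      apply hRne
      intro u hu
      rw [← h] at hu
      exact ((memC u).1 hu).2
    have hCZ : C ≤ Zc R := by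
      refine hcentral C inf_le_left hCy hCne ?_
      intro r hr s hs
      have h1 : r * s * r⁻¹ * s⁻¹ ∈ N := hNmem r hr s ((memC s).1 hs).1
      have h2 : r * s * r⁻¹ * s⁻¹ ∈ C := (memC _).2 ⟨hNR h1, hNfix _ h1⟩
      have h3 := mul_mem h2 hs
      rwa [inv_mul_cancel_right] at h3
    have hZne : Zc R ≠ R := by
      intro h
      have : v0 ∈ Zc R := by rw [h]; exact hv0
      exact hne0 ((mem_Zc.1 this).2 u0 hu0)
    have hZy : ∀ u ∈ Zc R, y * u * y⁻¹ ∈ Zc R := by
      intro u hu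
      rw [mem_Zc] at hu ⊢
      refine ⟨hyR u hu.1, fun v hv => ?_⟩
      have h1 := hyi R hyR y⁻¹ (inv_mem (Subgroup.mem_zpowers y)) v hv
      rw [inv_inv] at h1
      have h2 := hu.2 _ h1
      calc v * (y * u * y⁻¹) = y * ((y⁻¹ * v * y) * u) * y⁻¹ := by group
        _ = y * (u * (y⁻¹ * v * y)) * y⁻¹ := by rw [h2]
        _ = _ := by group
    refine ⟨fun u hu v hv => hNZ (hNmem u hu v hv), fun u hu => ⟨fun h => hCZ ((memC u).2 ⟨hu, h⟩), fun h =>
      hmin (Zc R) (fun x hx => (mem_Zc.1 hx).1) hZy hZne u h⟩, u0, hu0, v0, hv0, ?_⟩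
    intro h
    apply hne0
    rw [mul_inv_eq_one, mul_inv_eq_iff_eq_mul] at h
    exact h

end Cop

/-! ### arithmetic -/

theorem le_of_dvd_sq {p b d : ℕ} (hp : p.Prime) (hp2 : p ≠ 2) (hd : 1 < d) (h : p ^ b ∣ d * d - 1) : p ^ b ≤ d + 1 := by
  have h1 : d * d - 1 = (d - 1) * (d + 1) := by
    obtain ⟨e, rfl⟩ : ∃ e, d = e + 1 := ⟨d - 1, by omega⟩
    rw [Nat.add_sub_cancel]
    have : (e + 1) * (e + 1) = e * (e + 1 + 1) + 1 := by ring
    omega
  rw [h1] at h
  by_cases h2 : p ∣ d - 1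
  · have h3 : ¬ p ∣ d + 1 := by
      intro h3
      have h4 := Nat.dvd_sub h3 h2
      have h5 : d + 1 - (d - 1) = 2 := by omega
      rw [h5] at h4
      exact hp2 ((Nat.prime_dvd_prime_iff_eq hp Nat.prime_two).1 h4)
    have h4 : (p ^ b).Coprime (d + 1) := Nat.Coprime.pow_left b ((Nat.Prime.coprime_iff_not_dvd hp).2 h3)
    have h5 := Nat.le_of_dvd (by omega) (h4.dvd_of_dvd_mul_right h)
    omega
  · have h4 : (p ^ b).Coprime (d - 1) := Nat.Coprime.pow_left b ((Nat.Prime.coprime_iff_not_dvd hp).2 h2)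
    exact Nat.le_of_dvd (by omega) (h4.dvd_of_dvd_mul_left h)

theorem arith {p a n t' c d q m : ℕ} (hp : p.Prime) (hp2 : p ≠ 2) (ha : 1 ≤ a) (hq : q.Prime) (h1 : t' * c = p ^ a)
    (h2 : p ∣ c) (h3 : c ∣ d * d - 1) (h4 : t' * d ≤ n) (h5 : d * d ∣ q ^ m) (h6 : d ≠ 1)
    (hn : n + p ^ (a - 1) < p ^ a ∨ (a = 1 ∧ n + 1 = p ∧ ¬ (q = 2 ∧ ∃ k, n = 2 ^ k))) : False := by
  have hd0 : d ≠ 0 := by
    rintro rfl
    rw [zero_mul, zero_dvd_iff] at h5
    exact pow_ne_zero _ hq.ne_zero h5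
  have hd : 1 < d := by omega
  obtain ⟨b, hb, rfl⟩ := (Nat.dvd_prime_pow hp).1 (Dvd.intro_left t' h1)
  have h7 := le_of_dvd_sq hp hp2 hd h3
  have hb1 : 1 ≤ b := by
    rcases Nat.eq_zero_or_pos b with h | h
    · rw [h, pow_zero] at h2
      exact absurd (Nat.dvd_one.1 h2) hp.one_lt.ne'
    · exact h
  have ht' : t' = p ^ (a - b) := by
    have h8 : t' * p ^ b = p ^ (a - b) * p ^ b := by rw [h1, ← pow_add, Nat.sub_add_cancel hb]
    exact Nat.eq_of_mul_eq_mul_right (pow_pos hp.pos b) h8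
  rcases hn with hn | ⟨ha1, hn, hq2⟩
  · have h8 : t' ≤ p ^ (a - 1) := by
      rw [ht']
      exact Nat.pow_le_pow_right hp.pos (by omega)
    have h9 : t' * (d + 1) ≤ n + p ^ (a - 1) := by
      rw [mul_add, mul_one]
      omega
    have h10 : t' * p ^ b ≤ t' * (d + 1) := Nat.mul_le_mul_left _ h7
    omega
  · subst ha1
    have hb' : b = 1 := by omega
    subst hb'
    rw [Nat.sub_self, pow_zero] at ht'
    subst ht'
    rw [pow_one] at h7
    rw [one_mul] at h4
    have hdn : d = n := by omega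
    obtain ⟨k, -, hk⟩ := (Nat.dvd_prime_pow hq).1 ((Dvd.intro _ rfl : d ∣ d * d).trans h5)
    have hodd : Odd p := hp.odd_of_ne_two hp2
    have hev : Even d := by
      rw [hdn]
      rw [← hn] at hodd
      exact (Nat.odd_add_one.1 hodd |> Nat.not_odd_iff_even.1)
    have hk0 : k ≠ 0 := by
      rintro rfl
      rw [pow_zero] at hk
      exact h6 hk
    have hq2' : q = 2 := by
      rw [hk, Nat.even_pow] at hev
      exact (Nat.Prime.even_iff hq).1 hev.1
    exact hq2 ⟨hq2', k, by rw [← hdn, hk, hq2']⟩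

/-! ### the theorem over an algebraically closed field -/

section Alg

variable {K V : Type*} [Field K] [IsAlgClosed K] [AddCommGroup V] [Module K V] [FiniteDimensional K V]
variable {G : Type*} [Group G] [Finite G] (ρ : G →* End K V)

theorem centralize_alg (hρ : Function.Injective ρ) {p a t : ℕ} (hp : p.Prime) (hp2 : p ≠ 2) (ha : 1 ≤ a)
    (ht : t.Prime) (htp : t ≠ p) (htK : (t : K) ≠ 0) {y : G} (hy : orderOf y = p ^ a) {T : Subgroup G}
    (hT : IsPGroup t T) (hyT : ∀ u ∈ T, y * u * y⁻¹ ∈ T)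
    (hn : finrank K V + p ^ (a - 1) < p ^ a ∨
      (a = 1 ∧ finrank K V + 1 = p ∧ ¬ (t = 2 ∧ ∃ k, finrank K V = 2 ^ k))) :
    ∀ u ∈ T, y ^ p ^ (a - 1) * u = u * y ^ p ^ (a - 1) := by
  classical
  have : Fact p.Prime := ⟨hp⟩
  have : Fact t.Prime := ⟨ht⟩
  by_contra hcon
  set y1 := y ^ p ^ (a - 1) with hy1
  have hy1p : y1 ^ p = 1 := by
    rw [hy1, ← pow_mul, ← pow_succ, Nat.sub_add_cancel ha, ← hy, pow_orderOf_eq_one]
  obtain ⟨R, hRT, hyR, hcase⟩ := exists_min htp (Subgroup.npow_mem_zpowers y _) hy1p hT hyT hcon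
  have hyN : y ∈ Subgroup.normalizer (R : Set G) := by
    rw [Subgroup.mem_normalizer_iff_map_conj_eq]
    refine Subgroup.eq_of_le_of_card_ge ?_ (le_of_eq (Subgroup.card_map_of_injective
      (K := R) (MulAut.conj y).injective).symm)
    rintro _ ⟨x, hx, rfl⟩
    exact hyR x hx
  obtain ⟨k, hk⟩ := IsPGroup.iff_card.1 (hT.to_le hRT)
  have hRK : (Nat.card R : K) ≠ 0 := by
    rw [hk, Nat.cast_pow]
    exact pow_ne_zero k htK
  have hcop : p.Coprime (Nat.card R) := by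
    rw [hk]
    exact Nat.Coprime.pow_right k ((Nat.coprime_primes hp ht).2 htp.symm)
  rcases hcase with ⟨hab, hfix, u0, hu0, hne⟩ | ⟨hZ, hfix, u0, hu0, v0, hv0, hne⟩
  · have h1 := abelian_bound ρ R hab hRK hyN (y1 := y1) (fun g hg hg1 => socle_mem hy ha hg hg1) hfix hu0
      (fun h => hne (hρ (by rw [h, map_one])))
    rw [hy] at h1
    have h2 : p ^ (a - 1) * p = p ^ a := by rw [← pow_succ, Nat.sub_add_cancel ha]
    rcases hn with hn | ⟨rfl, hn, -⟩
    · omega
    · rw [pow_one] at h1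
      omega
  · -- pass to the normaliser of `R`
    set H := Subgroup.normalizer (R : Set G) with hH
    have hRH : R ≤ H := Subgroup.le_normalizer
    have hRn : (R.subgroupOf H).Normal := Subgroup.normal_in_normalizer
    let ρ' : H →* End K V := ρ.comp H.subtype
    have hcard : Nat.card (R.subgroupOf H) = Nat.card R := Nat.card_congr (Subgroup.subgroupOfEquivOfLe hRH).toEquiv
    have hZc : ∀ u : H, u ∈ Zc (R.subgroupOf H) ↔ (u : G) ∈ Zc R := by
      intro u
      rw [mem_Zc, mem_Zc, Subgroup.mem_subgroupOf]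
      refine and_congr_right fun _ => ⟨fun h v hv => ?_, fun h v hv => ?_⟩
      · exact congrArg Subtype.val (h ⟨v, hRH hv⟩ (Subgroup.mem_subgroupOf.2 hv))
      · exact Subtype.ext (h v (Subgroup.mem_subgroupOf.1 hv))
    obtain ⟨t', c, d, h1, h2, h3, h4, h5, h6⟩ := nonabelian_bound ρ' (R.subgroupOf H) (by rw [hcard]; exact hRK)
      (p := p) (a := a) (y := ⟨y, hyN⟩) (by rw [← hy, ← Subgroup.orderOf_coe]) ha (by rw [hcard]; exact hcop)
      (by
        intro u hu v hv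
        rw [hZc]
        exact hZ u (Subgroup.mem_subgroupOf.1 hu) v (Subgroup.mem_subgroupOf.1 hv))
      (by
        intro u hu
        rw [hZc, ← hfix u (Subgroup.mem_subgroupOf.1 hu)]
        exact ⟨fun h => congrArg Subtype.val h, fun h => Subtype.ext h⟩)
      ⟨⟨u0, hRH hu0⟩, Subgroup.mem_subgroupOf.2 hu0, ⟨v0, hRH hv0⟩, Subgroup.mem_subgroupOf.2 hv0, fun h =>
        hne (hρ (by rw [map_one]; exact h))⟩
    rw [hcard, hk] at h5
    exact arith hp hp2 ha ht h1 h2 h3 h4 h5 h6 hn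

end Alg

/-! ### the theorem over any field -/

section Gen

variable {F V : Type*} [Field F] [AddCommGroup V] [Module F V] [FiniteDimensional F V]

/-- base change to the algebraic closure -/
noncomputable def bc (F : Type*) [Field F] (n : ℕ) :
    Matrix (Fin n) (Fin n) F →* End (AlgebraicClosure F) (Fin n → AlgebraicClosure F) :=
  ((Matrix.toLinAlgEquiv' : Matrix (Fin n) (Fin n) (AlgebraicClosure F) ≃ₐ[AlgebraicClosure F] _) :
    Matrix (Fin n) (Fin n) (AlgebraicClosure F) →* _).comp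
    (RingHom.toMonoidHom ((algebraMap F (AlgebraicClosure F)).mapMatrix (m := Fin n)))

theorem bc_injective (n : ℕ) : Function.Injective (bc F n) := by
  intro A B h
  have h1 : (algebraMap F (AlgebraicClosure F)).mapMatrix A = (algebraMap F (AlgebraicClosure F)).mapMatrix B :=
    (Matrix.toLinAlgEquiv' : Matrix (Fin n) (Fin n) (AlgebraicClosure F) ≃ₐ[AlgebraicClosure F] _).injective h
  ext i j
  have h2 := congrFun (congrFun h1 i) j
  exact (algebraMap F (AlgebraicClosure F)).injective h2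

variable {G : Type*} [Group G] [Finite G]

theorem centralize_matrix {n : ℕ} (ρ : G →* Matrix (Fin n) (Fin n) F) (hρ : Function.Injective ρ) {p a t : ℕ}
    (hp : p.Prime) (hp2 : p ≠ 2) (ha : 1 ≤ a) (ht : t.Prime) (htp : t ≠ p) (htF : (t : F) ≠ 0) {y : G}
    (hy : orderOf y = p ^ a) {T : Subgroup G} (hT : IsPGroup t T) (hyT : ∀ u ∈ T, y * u * y⁻¹ ∈ T)
    (hn : n + p ^ (a - 1) < p ^ a ∨ (a = 1 ∧ n + 1 = p ∧ ¬ (t = 2 ∧ ∃ k, n = 2 ^ k))) :
    ∀ u ∈ T, y ^ p ^ (a - 1) * u = u * y ^ p ^ (a - 1) := by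
  refine centralize_alg ((bc F n).comp ρ) ((bc_injective n).comp hρ) hp hp2 ha ht htp ?_ hy hT hyT ?_
  · intro h
    apply htF
    apply (algebraMap F (AlgebraicClosure F)).injective
    rw [map_natCast, map_zero]
    exact h
  · rw [Module.finrank_fin_fun]
    exact hn

/-- **Main theorem.** -/
theorem centralize (ρ : G →* (V ≃ₗ[F] V)) (hρ : Function.Injective ρ) {p a t : ℕ} (hp : p.Prime) (hp2 : p ≠ 2)
    (ha : 1 ≤ a) (ht : t.Prime) (htp : t ≠ p) (htF : (t : F) ≠ 0) {y : G} (hy : orderOf y = p ^ a)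
    {T : Subgroup G} (hT : IsPGroup t T) (hyT : ∀ u ∈ T, y * u * y⁻¹ ∈ T)
    (hn : finrank F V + p ^ (a - 1) < p ^ a ∨
      (a = 1 ∧ finrank F V + 1 = p ∧ ¬ (t = 2 ∧ ∃ k, finrank F V = 2 ^ k))) :
    ∀ u ∈ T, y ^ p ^ (a - 1) * u = u * y ^ p ^ (a - 1) := by
  let b := Module.finBasis F V
  let φ : (V ≃ₗ[F] V) →* Matrix (Fin (finrank F V)) (Fin (finrank F V)) F :=
    ((LinearMap.toMatrixAlgEquiv b : _ ≃ₐ[F] _) : End F V →* _).comp LinearEquiv.automorphismGroup.toLinearMapMonoidHom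
  have hφ : Function.Injective φ := by
    intro A B h
    have h1 : (A : End F V) = (B : End F V) := (LinearMap.toMatrixAlgEquiv b).injective h
    exact LinearEquiv.toLinearMap_injective h1
  exact centralize_matrix (φ.comp ρ) (hφ.comp hρ) hp hp2 ha ht htp htF hy hT hyT hn

end Gen

end Cfsg.Agent.H465.LinSolv
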