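import Mathlib
import Cfsg.Agent.H465.SU

/-!
# Solvably unique elements of prime order by arithmetic (helper465)

* `HasSU.of_arith` : `p ∥ |G|`, `p` odd, `p ∤ t^k - 1` whenever `t^k` divides `|G|` (`t ≠ p` prime, `k > 0`).
* `HasSU.of_elem` : `p ∥ |G|`, `p` odd, no element of prime order `t ≠ p` commutes with an element of order `p`, and there is
  no elementary abelian `t`-subgroup `E` of order `t^k`, `p ∣ t^k - 1`, normalised by an element of order `p`.
-/

set_option autoImplicit false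

namespace Cfsg.Agent.H465.SU

open Subgroup

variable {G : Type*} [Group G] [Finite G]

theorem isCyclic_sylow {p : ℕ} [Fact p.Prime] (h1 : ¬ p ^ 2 ∣ Nat.card G) (P : Sylow p G) : IsCyclic P := by
  have hp : p.Prime := Fact.out
  obtain ⟨n, hn⟩ := IsPGroup.iff_card.1 P.2
  have hn1 : n ≤ 1 := by
    by_contra h
    exact h1 ((pow_dvd_pow p (by omega : 2 ≤ n)).trans (hn ▸ card_subgroup_dvd_card (P : Subgroup G)))
  rcases Nat.le_one_iff_eq_zero_or_eq_one.1 hn1 with h | h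
  · rw [h, pow_zero] at hn
    have : Subsingleton (P : Subgroup G) := (Nat.card_eq_one_iff_unique.1 hn).1
    exact isCyclic_of_subsingleton
  · rw [h, pow_one] at hn
    exact isCyclic_of_prime_card hn

/-- fixed points of an element of prime order acting on a `t`-group -/
theorem card_fixed {p t k : ℕ} (hp : p.Prime) (ht : t.Prime) (htp : t ≠ p) {y : G} (hy : orderOf y = p)
    {T : Subgroup G} (hT : Nat.card T = t ^ k) (hyT : ∀ u ∈ T, y * u * y⁻¹ ∈ T) :
    ∃ j, j ≤ k ∧ Nat.card ↥(T ⊓ centralizer ({y} : Set G)) = t ^ (k - j) ∧ p ∣ t ^ j - 1 := by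
  have : Fact p.Prime := ⟨hp⟩
  have : Fact t.Prime := ⟨ht⟩
  -- the action of `⟨y⟩` on `T`
  have hyn : y ∈ normalizer (T : Set G) := by
    rw [mem_normalizer_iff_map_conj_eq]
    refine eq_of_le_of_card_ge ?_ (le_of_eq (card_map_of_injective (MulAut.conj y).injective).symm)
    rintro _ ⟨u, hu, rfl⟩
    exact hyT u hu
  have hle : zpowers y ≤ normalizer (T : Set G) := by rwa [zpowers_le]
  let _ : MulAction ↥(zpowers y) ↥T :=
    { smul := fun g u => ⟨g * u * (g : G)⁻¹, (mem_normalizer_iff.1 (hle g.2) u).1 u.2⟩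
      one_smul := fun u => Subtype.ext (by show (1 : G) * u * (1 : G)⁻¹ = u; group)
      mul_smul := fun g h u => Subtype.ext (by
        show ((g : G) * h) * u * ((g : G) * h)⁻¹ = g * (h * u * (h : G)⁻¹) * (g : G)⁻¹
        group) }
  have hPg : IsPGroup p ↥(zpowers y) := IsPGroup.of_card (n := 1) (by rw [Nat.card_zpowers, hy, pow_one])
  have h1 := hPg.card_modEq_card_fixedPoints (α := ↥T)
  have h2 : Nat.card (MulAction.fixedPoints ↥(zpowers y) ↥T) = Nat.card ↥(T ⊓ centralizer ({y} : Set G)) := by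
    refine Nat.card_congr
      { toFun := fun u => ⟨(u : T), u.1.2, ?_⟩
        invFun := fun u => ⟨⟨u, u.2.1⟩, ?_⟩
        left_inv := fun u => rfl
        right_inv := fun u => rfl }
    · show ((u : T) : G) ∈ centralizer ({y} : Set G)
      rw [mem_centralizer_singleton_iff]
      have h3 : (y : G) * ((u : T) : G) * y⁻¹ = (u : T) := congrArg Subtype.val (u.2 ⟨y, mem_zpowers y⟩)
      exact (mul_inv_eq_iff_eq_mul.1 h3).symm
    · rintro ⟨g, hg⟩
      obtain ⟨i, rfl⟩ := mem_zpowers_iff.1 hg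
      apply Subtype.ext
      show (y ^ i : G) * u * (y ^ i)⁻¹ = u
      have h3 : Commute (u : G) y := mem_centralizer_singleton_iff.1 u.2.2
      rw [(h3.symm.zpow_left i).eq, mul_assoc, mul_inv_cancel, mul_one]
  rw [h2, hT] at h1
  have h3 : Nat.card ↥(T ⊓ centralizer ({y} : Set G)) ∣ t ^ k := by
    rw [← hT]
    exact card_dvd_of_le inf_le_left
  obtain ⟨c, hc, hcard⟩ := (Nat.dvd_prime_pow ht).1 h3
  refine ⟨k - c, by omega, ?_, ?_⟩
  · rw [hcard]
    congr 1
    omega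
  · rw [hcard] at h1
    have h4 : t ^ k = t ^ c * t ^ (k - c) := by rw [← pow_add]; congr 1; omega
    have h5 : p ∣ t ^ k - t ^ c := (Nat.modEq_iff_dvd' (Nat.pow_le_pow_right ht.pos hc)).1 h1.symm
    have h6 : t ^ k - t ^ c = t ^ c * (t ^ (k - c) - 1) := by rw [h4, Nat.mul_sub, mul_one]
    rw [h6] at h5
    refine (Nat.Coprime.dvd_of_dvd_mul_left ?_ h5)
    exact Nat.Coprime.pow_right c ((Nat.coprime_primes hp ht).2 (Ne.symm htp))

/-- `y` of prime order `p ∥ |G|` centralising all `y`-invariant `t`-subgroups, `t ≠ p` -/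
theorem SUel.of_prime {p : ℕ} (hp : p.Prime) (h1 : ¬ p ^ 2 ∣ Nat.card G) {y : G} (hy : orderOf y = p)
    (h : ∀ t : ℕ, t.Prime → t ≠ p → ∀ T : Subgroup G, IsPGroup t T → (∀ u ∈ T, y * u * y⁻¹ ∈ T) →
      ∀ u ∈ T, y * u = u * y) : SUel p y := by
  have : Fact p.Prime := ⟨hp⟩
  refine ⟨fun h0 => ?_, ⟨1, by rw [hy, pow_one]⟩, fun M hM hyM A B hA hB hAc hBc => ?_⟩
  · rw [h0, orderOf_one] at hy
    exact hp.one_lt.ne hy
  · refine unique_of_centralize hM (le_refl 1) (by rw [hy, pow_one]) hyM (isCyclic_sylow h1)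
      (fun t ht htp T _ hT hyT u hu => ?_) A B hA hB hAc hBc
    rw [Nat.sub_self, pow_zero, pow_one]
    exact h t ht htp T hT hyT u hu

/-- **arithmetic criterion** -/
theorem SUel.of_arith {p : ℕ} (hp : p.Prime) (h1 : ¬ p ^ 2 ∣ Nat.card G)
    (h : ∀ t k : ℕ, t.Prime → t ≠ p → 0 < k → t ^ k ∣ Nat.card G → ¬ p ∣ t ^ k - 1) {y : G} (hy : orderOf y = p) :
    SUel p y := by
  refine SUel.of_prime hp h1 hy fun t ht htp T hT hyT u hu => ?_
  have : Fact t.Prime := ⟨ht⟩
  obtain ⟨k, hk⟩ := IsPGroup.iff_card.1 hT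
  obtain ⟨j, hjk, hj, hdvd⟩ := card_fixed hp ht htp hy hk hyT
  have hj0 : j = 0 := by
    by_contra hj0
    refine h t j ht htp (Nat.pos_of_ne_zero hj0) ?_ hdvd
    exact (pow_dvd_pow t hjk).trans (hk ▸ card_subgroup_dvd_card T)
  rw [hj0, Nat.sub_zero, ← hk] at hj
  have h2 : T ⊓ centralizer ({y} : Set G) = T := eq_of_le_of_card_ge inf_le_left hj.ge
  have h3 : u ∈ T ⊓ centralizer ({y} : Set G) := by rw [h2]; exact hu
  exact (mem_centralizer_singleton_iff.1 h3.2).symm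

theorem HasSU.of_arith {p : ℕ} (hp : p.Prime) (hp2 : p ≠ 2) (hd : p ∣ Nat.card G) (h1 : ¬ p ^ 2 ∣ Nat.card G)
    (h : ∀ t k : ℕ, t.Prime → t ≠ p → 0 < k → t ^ k ∣ Nat.card G → ¬ p ∣ t ^ k - 1) : HasSU G := by
  have : Fact p.Prime := ⟨hp⟩
  obtain ⟨y, hy⟩ := exists_prime_orderOf_dvd_card' (G := G) p hd
  exact ⟨p, hp, hp2, y, SUel.of_arith hp h1 h hy⟩

/-- **no elementary abelian subgroup** -/
theorem SUel.of_elem {p : ℕ} (hp : p.Prime) (h1 : ¬ p ^ 2 ∣ Nat.card G) {y : G} (hy : orderOf y = p)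
    (hc : ∀ u : G, (orderOf u).Prime → orderOf u ≠ p → y * u ≠ u * y)
    (h : ∀ (t k : ℕ) (E : Subgroup G), t.Prime → t ≠ p → 0 < k → Nat.card E = t ^ k → t ^ k ∣ Nat.card G →
      p ∣ t ^ k - 1 → (∀ u ∈ E, u ^ t = 1) → (∀ u ∈ E, ∀ v ∈ E, u * v = v * u) → (∀ u ∈ E, y * u * y⁻¹ ∈ E) →
      False) : SUel p y := by
  refine SUel.of_prime hp h1 hy fun t ht htp T hT hyT u hu => ?_
  have hft : Fact t.Prime := ⟨ht⟩
  by_cases hT1 : T = ⊥
  · rw [hT1, mem_bot] at hu
    rw [hu, mul_one, one_mul]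
  exfalso
  -- `E = Ω₁(Z(T))`
  let E : Subgroup G :=
    { carrier := {u | u ∈ T ∧ (∀ v ∈ T, u * v = v * u) ∧ u ^ t = 1}
      one_mem' := ⟨T.one_mem, fun v _ => by rw [one_mul, mul_one], one_pow _⟩
      mul_mem' := by
        rintro a b ⟨ha1, ha2, ha3⟩ ⟨hb1, hb2, hb3⟩
        refine ⟨T.mul_mem ha1 hb1, fun v hv => ?_, ?_⟩
        · rw [mul_assoc, hb2 v hv, ← mul_assoc, ha2 v hv, mul_assoc]
        · have : Commute a b := ha2 b hb1
          rw [this.mul_pow, ha3, hb3, one_mul]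
      inv_mem' := by
        rintro a ⟨ha1, ha2, ha3⟩
        refine ⟨T.inv_mem ha1, fun v hv => ?_, ?_⟩
        · have : Commute a v := ha2 v hv
          exact this.inv_left
        · rw [inv_pow, ha3, inv_one] }
  have hEmem : ∀ u, u ∈ E ↔ u ∈ T ∧ (∀ v ∈ T, u * v = v * u) ∧ u ^ t = 1 := fun u => Iff.rfl
  have hET : E ≤ T := fun u hu => hu.1
  -- `y⁻¹ T y = T`
  have hyT' : ∀ u ∈ T, y⁻¹ * u * y ∈ T := by
    intro u hu
    have h1 : T.map (MulAut.conj y).toMonoidHom = T := by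
      refine eq_of_le_of_card_ge ?_ (le_of_eq (card_map_of_injective (MulAut.conj y).injective).symm)
      rintro _ ⟨v, hv, rfl⟩
      exact hyT v hv
    rw [← h1] at hu
    obtain ⟨v, hv, rfl⟩ := hu
    have : y⁻¹ * ((MulAut.conj y).toMonoidHom v) * y = v := by
      show y⁻¹ * (y * v * y⁻¹) * y = v
      group
    rw [this]
    exact hv
  have hyE : ∀ u ∈ E, y * u * y⁻¹ ∈ E := by
    rintro u ⟨hu1, hu2, hu3⟩
    refine ⟨hyT u hu1, fun v hv => ?_, ?_⟩
    · have h2 := hu2 _ (hyT' v hv)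
      calc y * u * y⁻¹ * v = y * (u * (y⁻¹ * v * y)) * y⁻¹ := by group
        _ = y * ((y⁻¹ * v * y) * u) * y⁻¹ := by rw [h2]
        _ = v * (y * u * y⁻¹) := by group
    · rw [conj_pow, hu3, mul_one, mul_inv_cancel]
  have hEp : IsPGroup t E := hT.to_le hET
  obtain ⟨k, hk⟩ := IsPGroup.iff_card.1 hEp
  -- `E ≠ 1`
  have hE1 : E ≠ ⊥ := by
    have hnt : Nontrivial T := (nontrivial_iff_ne_bot T).2 hT1
    have hcn : Nontrivial (center T) := hT.center_nontrivial
    obtain ⟨z, hz⟩ := exists_ne (1 : center T)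
    -- an element of order `t`
    have h2 : t ∣ Nat.card (center T) := by
      have h3 : IsPGroup t (center T) := hT.to_subgroup _
      obtain ⟨m, hm⟩ := IsPGroup.iff_card.1 h3
      have h4 : m ≠ 0 := by
        rintro rfl
        rw [pow_zero] at hm
        have := Finite.one_lt_card (α := center T)
        omega
      rw [hm]
      exact dvd_pow_self t h4
    obtain ⟨w, hw⟩ := exists_prime_orderOf_dvd_card' (G := center T) t h2
    intro hbot
    have h5 : ((w : T) : G) ∈ E := by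
      refine ⟨(w : T).2, fun v hv => ?_, ?_⟩
      · have := mem_center_iff.1 w.2 ⟨v, hv⟩
        exact (congrArg Subtype.val this).symm
      · have : w ^ t = 1 := by rw [← hw, pow_orderOf_eq_one]
        exact congrArg (fun z : center T => ((z : T) : G)) this
    rw [hbot, mem_bot] at h5
    have h6 : w = 1 := Subtype.ext (Subtype.ext h5)
    rw [h6, orderOf_one] at hw
    exact ht.one_lt.ne hw
  -- `C_E(y) = 1`
  have hCE : E ⊓ centralizer ({y} : Set G) = ⊥ := by
    rw [eq_bot_iff]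
    rintro u ⟨hu1, hu2⟩
    rw [mem_bot]
    by_contra hu0
    have h2 : orderOf u = t := orderOf_eq_prime hu1.2.2 hu0
    exact hc u (h2 ▸ ht) (h2 ▸ htp) (mem_centralizer_singleton_iff.1 hu2).symm
  obtain ⟨j, hjk, hj, hdvd⟩ := card_fixed hp ht htp hy hk hyE
  rw [hCE, card_bot] at hj
  have hkj : k - j = 0 := by
    by_contra h0
    exact (Nat.one_lt_pow h0 ht.one_lt).ne hj
  have hjk' : j = k := by omega
  rw [hjk'] at hdvd
  have hk0 : 0 < k := by
    rcases Nat.eq_zero_or_pos k with h0 | h0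
    · rw [h0, pow_zero] at hk
      exact absurd (Subgroup.card_eq_one.1 hk) hE1
    · exact h0
  exact h t k E ht htp hk0 hk (hk ▸ card_subgroup_dvd_card E) hdvd (fun u hu => hu.2.2)
    (fun u hu v hv => hu.2.1 v (hET hv)) hyE

/-- checking the arithmetic: `|G| = p ∏ sᵢ^eᵢ` -/
theorem arith_of_list {N p : ℕ} (L : List (ℕ × ℕ)) (hL : ∀ x ∈ L, x.1.Prime)
    (hN : N = p * (L.map fun x => x.1 ^ x.2).prod) (hp : p.Prime) (hnd : (L.map Prod.fst).Nodup)
    (h : ∀ x ∈ L, ∀ k ∈ List.range (x.2 + 1), 0 < k → ¬ p ∣ x.1 ^ k - 1) :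
    ∀ t k : ℕ, t.Prime → t ≠ p → 0 < k → t ^ k ∣ N → ¬ p ∣ t ^ k - 1 := by
  intro t k ht htp hk hd
  -- `t ^ k` divides the product
  have h1 : t ^ k ∣ (L.map fun x => x.1 ^ x.2).prod := by
    rw [hN] at hd
    exact (Nat.Coprime.pow_left k ((Nat.coprime_primes ht hp).2 htp)).dvd_of_dvd_mul_left hd
  have key : ∀ L : List (ℕ × ℕ), (∀ x ∈ L, x.1.Prime) → (L.map Prod.fst).Nodup →
      t ^ k ∣ (L.map fun x => x.1 ^ x.2).prod → ∃ x ∈ L, x.1 = t ∧ k ≤ x.2 := by
    intro L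
    induction L with
    | nil =>
      intro _ _ h2
      exfalso
      rw [List.map_nil, List.prod_nil, Nat.dvd_one] at h2
      exact (Nat.one_lt_pow hk.ne' ht.one_lt).ne h2.symm
    | cons x L ih =>
      intro h2 h3 h4
      rw [List.map_cons, List.prod_cons] at h4
      rw [List.map_cons, List.nodup_cons] at h3
      by_cases hx : x.1 = t
      · refine ⟨x, List.mem_cons_self, hx, ?_⟩
        -- the rest is prime to `t`
        have h5 : (t ^ k).Coprime (L.map fun x => x.1 ^ x.2).prod := by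
          apply Nat.Coprime.pow_left
          rw [Nat.coprime_list_prod_right_iff]
          intro n hn
          obtain ⟨z, hz, rfl⟩ := List.mem_map.1 hn
          apply Nat.Coprime.pow_right
          refine (Nat.coprime_primes ht (h2 z (List.mem_cons_of_mem _ hz))).2 fun h6 => h3.1 ?_
          rw [hx, h6]
          exact List.mem_map_of_mem hz
        have h6 : t ^ k ∣ t ^ x.2 := by
          rw [hx] at h4
          exact h5.dvd_of_dvd_mul_right h4
        exact (Nat.pow_dvd_pow_iff_le_right ht.one_lt).1 h6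
      · have h5 : (t ^ k).Coprime (x.1 ^ x.2) :=
          Nat.Coprime.pow_left k (Nat.Coprime.pow_right _
            ((Nat.coprime_primes ht (h2 x List.mem_cons_self)).2 (Ne.symm hx)))
        obtain ⟨z, hz, h6, h7⟩ := ih (fun z hz => h2 z (List.mem_cons_of_mem _ hz)) h3.2
          (h5.dvd_of_dvd_mul_left h4)
        exact ⟨z, List.mem_cons_of_mem _ hz, h6, h7⟩
  obtain ⟨x, hx, rfl, hxk⟩ := key L hL hnd h1
  exact h x hx k (List.mem_range.2 (by omega)) hk

/-- a solvably unique element of prime order `p ≥ 5`, `p ∥ |G|` -/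
def HasSU1 (G : Type*) [Group G] : Prop :=
  ∃ (p : ℕ) (y : G), p.Prime ∧ 5 ≤ p ∧ orderOf y = p ∧ ¬ p ^ 2 ∣ Nat.card G ∧ SUel p y

omit [Finite G] in
theorem HasSU1.hasSU (h : HasSU1 G) : HasSU G := by
  obtain ⟨p, y, hp, hp5, -, -, h⟩ := h
  exact ⟨p, hp, by omega, y, h⟩

/-- arithmetic rows -/
theorem of_list {N p : ℕ} (L : List (ℕ × ℕ)) (hG : Nat.card G = N) (hp : p.Prime) (hp5 : 5 ≤ p)
    (hN : N = p * (L.map fun x => x.1 ^ x.2).prod) (hL : ∀ x ∈ L, x.1.Prime) (hnd : (p :: L.map Prod.fst).Nodup)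
    (h : ∀ x ∈ L, ∀ k ∈ List.range (x.2 + 1), 0 < k → ¬ p ∣ x.1 ^ k - 1) (h1 : ¬ p ^ 2 ∣ N) : HasSU1 G := by
  subst hG
  have : Fact p.Prime := ⟨hp⟩
  obtain ⟨y, hy⟩ := exists_prime_orderOf_dvd_card' (G := G) p (by rw [hN]; exact dvd_mul_right _ _)
  rw [List.nodup_cons] at hnd
  exact ⟨p, y, hp, hp5, hy, h1, SUel.of_arith hp h1 (arith_of_list L hL hN hp hnd.2 h) hy⟩

end Cfsg.Agent.H465.SU
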