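import Mathlib
import Cfsg.Prelude.Def_Classical
import Cfsg.Agent.H465.Red
import Cfsg.Agent.H465.SpArith
import Cfsg.Agent.Mrg.Omega.TwoF.AltRk

/-!
# The alternating groups satisfy `PE` (helper465)

`not_solvable_cert`: elements `u`, `v` with `u^a = v^b = (uv)^c = 1`, `a, b, c` pairwise coprime.
-/

set_option autoImplicit false
set_option linter.unusedSectionVars false

namespace Cfsg.Agent.H465.AltPE

open Equiv Subgroup Cfsg.Agent.H465.Red Cfsg.Agent.H465.SU

/-- a certificate of non-solvability -/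
theorem not_solvable_cert {G : Type*} [Group G] {H : Subgroup G} {u v : G} (hu : u ∈ H) (hv : v ∈ H) {a b c : ℕ}
    (h1 : u ^ a = 1) (h2 : v ^ b = 1) (h3 : (u * v) ^ c = 1) (hab : a.Coprime b) (hac : a.Coprime c)
    (hbc : b.Coprime c) (hne : u ≠ 1) : ¬ Group.IsSolvable H := by
  intro hs
  set K := closure ({u, v} : Set G) with hK
  have hKH : K ≤ H := by
    rw [hK, closure_le]
    rintro x (rfl | rfl)
    · exact hu
    · exact hv
  have hKs : Group.IsSolvable K := Group.isSolvable_of_isSolvable_injective (f := inclusion hKH) (inclusion_injective hKH)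
  have huK : u ∈ K := subset_closure (by simp)
  have hvK : v ∈ K := subset_closure (by simp)
  -- every homomorphism into an abelian group is trivial
  have key : ∀ (A : Type _) [CommGroup A] (f : K →* A), ∀ k : K, f k = 1 := by
    intro A _ f
    set x := f ⟨u, huK⟩ with hx
    set y := f ⟨v, hvK⟩ with hy
    have e1 : x ^ a = 1 := by
      rw [hx, ← map_pow, ← map_one f]; congr 1; exact Subtype.ext h1
    have e2 : y ^ b = 1 := by
      rw [hy, ← map_pow, ← map_one f]; congr 1; exact Subtype.ext h2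
    have e3 : (x * y) ^ c = 1 := by
      rw [hx, hy, ← map_mul, ← map_pow, ← map_one f]; congr 1; exact Subtype.ext h3
    rw [mul_pow] at e3
    have e4 : (x ^ c) ^ b = 1 := by
      have : x ^ c = (y ^ c)⁻¹ := eq_inv_of_mul_eq_one_left e3
      rw [this, inv_pow, ← pow_mul, mul_comm, pow_mul, e2, one_pow, inv_one]
    have e5 : orderOf x ∣ 1 := by
      have d1 : orderOf x ∣ a := orderOf_dvd_of_pow_eq_one e1
      have d2 : orderOf x ∣ c * b := orderOf_dvd_of_pow_eq_one (by rw [pow_mul]; exact e4)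
      have : Nat.Coprime a (c * b) := Nat.Coprime.mul_right hac hab
      rw [← this]
      exact Nat.dvd_gcd d1 d2
    have ex : x = 1 := orderOf_eq_one_iff.1 (Nat.dvd_one.1 e5)
    rw [ex, one_pow, one_mul] at e3
    have e6 : orderOf y ∣ 1 := by
      rw [← hbc]
      exact Nat.dvd_gcd (orderOf_dvd_of_pow_eq_one e2) (orderOf_dvd_of_pow_eq_one e3)
    have ey : y = 1 := orderOf_eq_one_iff.1 (Nat.dvd_one.1 e6)
    rintro ⟨k, hk⟩
    have : ∀ k ∈ K, ∀ hk : k ∈ K, f ⟨k, hk⟩ = 1 := by
      intro k hk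
      induction hk using closure_induction with
      | mem z hz =>
        intro hz'
        rcases hz with rfl | rfl
        · exact ex
        · exact ey
      | one => intro h; exact map_one f
      | mul x y hx hy ih1 ih2 =>
        intro h
        have : (⟨x * y, h⟩ : K) = ⟨x, hx⟩ * ⟨y, hy⟩ := rfl
        rw [this, map_mul, ih1 hx, ih2 hy, one_mul]
      | inv x hx ih =>
        intro h
        have : (⟨x⁻¹, h⟩ : K) = (⟨x, hx⟩)⁻¹ := rfl
        rw [this, map_inv, ih hx, inv_one]
    exact this k hk hk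
  have hperf : commutator K = ⊤ := by
    rw [eq_top_iff]
    intro k _
    have h4 := key (Abelianization K) Abelianization.of k
    have h5 : k ∈ (Abelianization.of (G := K)).ker := h4
    rwa [Abelianization.ker_of] at h5
  have hnt : Nontrivial K := ⟨⟨⟨u, huK⟩, 1, fun h => hne (congrArg Subtype.val h)⟩⟩
  exact (hKs.commutator_lt_top_of_nontrivial K).ne hperf

/-! ### permutations of five or six points -/

/-- the cycle `p → q → r → p` -/
def cyc {α : Type*} [DecidableEq α] (p q r : α) : Perm α := swap p q * swap q r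

/-- the cycle `p → q → r → s → t → p` -/
def cyc5 {α : Type*} [DecidableEq α] (p q r s t : α) : Perm α := swap p q * swap q r * swap r s * swap s t

section

variable {α β : Type*} [DecidableEq α] [DecidableEq β]

theorem conj_cyc (σ : Perm α) (p q r : α) : σ * cyc p q r * σ⁻¹ = cyc (σ p) (σ q) (σ r) := by
  unfold cyc
  rw [swap_apply_apply, swap_apply_apply]
  group

theorem conj_cyc5 (σ : Perm α) (p q r s t : α) :
    σ * cyc5 p q r s t * σ⁻¹ = cyc5 (σ p) (σ q) (σ r) (σ s) (σ t) := by
  unfold cyc5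
  rw [swap_apply_apply, swap_apply_apply, swap_apply_apply, swap_apply_apply]
  group

theorem via_swap (ι : α ↪ β) (i j : α) : Perm.viaEmbeddingHom ι (swap i j) = swap (ι i) (ι j) := by
  rw [Perm.viaEmbeddingHom_apply]
  ext x
  by_cases hx : x ∈ Set.range ι
  · obtain ⟨k, rfl⟩ := hx
    rw [Perm.viaEmbedding_apply]
    by_cases h1 : k = i
    · subst h1; rw [swap_apply_left, swap_apply_left]
    · by_cases h2 : k = j
      · subst h2; rw [swap_apply_right, swap_apply_right]
      · rw [swap_apply_of_ne_of_ne h1 h2, swap_apply_of_ne_of_ne (fun h => h1 (ι.injective h))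
          (fun h => h2 (ι.injective h))]
  · rw [Perm.viaEmbedding_apply_of_notMem _ _ _ hx, swap_apply_of_ne_of_ne]
    · rintro rfl; exact hx ⟨i, rfl⟩
    · rintro rfl; exact hx ⟨j, rfl⟩

theorem via_cyc (ι : α ↪ β) (p q r : α) : Perm.viaEmbeddingHom ι (cyc p q r) = cyc (ι p) (ι q) (ι r) := by
  unfold cyc
  rw [map_mul, via_swap, via_swap]

theorem via_cyc5 (ι : α ↪ β) (p q r s t : α) :
    Perm.viaEmbeddingHom ι (cyc5 p q r s t) = cyc5 (ι p) (ι q) (ι r) (ι s) (ι t) := by
  unfold cyc5
  rw [map_mul, map_mul, map_mul, via_swap, via_swap, via_swap, via_swap]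

/-- transport of non-solvability along an embedding -/
theorem ns_via (ι : α ↪ β) {u v : Perm α} (h : ¬ Group.IsSolvable (closure ({u, v} : Set (Perm α)))) :
    ¬ Group.IsSolvable (closure ({Perm.viaEmbeddingHom ι u, Perm.viaEmbeddingHom ι v} : Set (Perm β))) := by
  intro hs
  apply h
  have h1 : (closure ({u, v} : Set (Perm α))).map (Perm.viaEmbeddingHom ι) =
      closure ({Perm.viaEmbeddingHom ι u, Perm.viaEmbeddingHom ι v} : Set (Perm β)) := by
    rw [MonoidHom.map_closure, Set.image_pair]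
  rw [← h1] at hs
  exact Group.isSolvable_of_isSolvable_injective
    (f := ((closure ({u, v} : Set (Perm α))).equivMapOfInjective _ (Perm.viaEmbeddingHom_injective ι)).toMonoidHom)
    (MulEquiv.injective _)

end

/-- the certificate `u`, `v u⁻¹ v` of orders 3, 5, 2 -/
theorem ns_one {G : Type*} [Group G] {u v : G} (h1 : u ^ 3 = 1) (h2 : (v * u⁻¹ * v) ^ 5 = 1)
    (h3 : (u * (v * u⁻¹ * v)) ^ 2 = 1) (hne : u ≠ 1) : ¬ Group.IsSolvable (closure ({u, v} : Set G)) := by
  have hu : u ∈ closure ({u, v} : Set G) := subset_closure (by simp)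
  have hv : v ∈ closure ({u, v} : Set G) := subset_closure (by simp)
  exact not_solvable_cert hu (mul_mem (mul_mem hv (inv_mem hu)) hv) h1 h2 h3 (by norm_num) (by norm_num) (by norm_num)
    hne

/-- two 3-cycles with one common point -/
theorem ns_five {α : Type*} [DecidableEq α] {s a b c d : α} (h : [s, a, b, c, d].Nodup) :
    ¬ Group.IsSolvable (closure ({cyc s a b, cyc s c d} : Set (Perm α))) := by
  let ι : Fin 5 ↪ α := ⟨![s, a, b, c, d], by
    intro i j hij
    simp only [List.nodup_cons, List.mem_cons, List.not_mem_nil, or_false, not_or] at h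
    fin_cases i <;> fin_cases j <;> simp_all⟩
  have h1 := ns_via ι (u := cyc 0 1 2) (v := cyc 0 3 4) (ns_one (by decide +kernel) (by decide +kernel)
    (by decide +kernel) (by decide +kernel))
  rw [via_cyc, via_cyc] at h1
  exact h1

theorem cyc_rot {α : Type*} [DecidableEq α] {p q r : α} (hpq : p ≠ q) (hpr : p ≠ r) : cyc p q r = cyc q r p := by
  unfold cyc
  have h1 := swap_apply_apply (swap q r) r p
  rw [swap_apply_right, swap_apply_of_ne_of_ne hpq hpr] at h1
  rw [swap_comm p q, h1, swap_inv, mul_assoc, swap_mul_self, mul_one]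

theorem isThreeCycle {α : Type*} [DecidableEq α] [Fintype α] {p q r : α} (hpq : p ≠ q) (hpr : p ≠ r) (hqr : q ≠ r) :
    (cyc p q r).IsThreeCycle := by
  unfold cyc
  rw [swap_comm p q]
  exact Perm.isThreeCycle_swap_mul_swap_same hpq.symm hqr hpr

theorem oddPow_cyc {α : Type*} [DecidableEq α] [Fintype α] {p q r : α} (hpq : p ≠ q) (hpr : p ≠ r) (hqr : q ≠ r) :
    OddPow (cyc p q r) :=
  ⟨3, 1, by norm_num, by norm_num, by rw [(isThreeCycle hpq hpr hqr).orderOf, pow_one]⟩

theorem mem_cyc {α : Type*} [DecidableEq α] [Fintype α] {p q r : α} (hpq : p ≠ q) (hpr : p ≠ r) (hqr : q ≠ r) :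
    cyc p q r ∈ alternatingGroup α := (isThreeCycle hpq hpr hqr).mem_alternatingGroup

theorem oddPow_cyc5 {α : Type*} [DecidableEq α] [Fintype α] {p q r s t : α} (h : [p, q, r, s, t].Nodup) :
    OddPow (cyc5 p q r s t) ∧ cyc5 p q r s t ∈ alternatingGroup α := by
  let ι : Fin 5 ↪ α := ⟨![p, q, r, s, t], by
    intro i j hij
    simp only [List.nodup_cons, List.mem_cons, List.not_mem_nil, or_false, not_or] at h
    fin_cases i <;> fin_cases j <;> simp_all⟩
  have h1 := via_cyc5 ι 0 1 2 3 4
  have h2 : orderOf (cyc5 (0 : Fin 5) 1 2 3 4) = 5 :=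
    orderOf_eq_prime (hp := ⟨by norm_num⟩) (by decide +kernel) (by decide +kernel)
  have h3 : orderOf (cyc5 p q r s t) = 5 := by
    have h4 := orderOf_injective _ (Perm.viaEmbeddingHom_injective ι) (cyc5 (0 : Fin 5) 1 2 3 4)
    rw [h1, h2] at h4
    exact h4
  refine ⟨⟨5, 1, by norm_num, by norm_num, by rw [h3, pow_one]⟩, ?_⟩
  simp only [List.nodup_cons, List.mem_cons, List.not_mem_nil, or_false, not_or] at h
  rw [Perm.mem_alternatingGroup]
  unfold cyc5
  rw [map_mul, map_mul, map_mul, Perm.sign_swap h.1.1, Perm.sign_swap h.2.1.1, Perm.sign_swap h.2.2.1.1,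
    Perm.sign_swap h.2.2.2.1]
  decide

/-- a transposition and a 5-cycle -/
theorem ns_swap {α : Type*} [DecidableEq α] {a b c d e : α} (h : [a, b, c, d, e].Nodup) :
    ¬ Group.IsSolvable (closure ({swap a b, cyc5 a b c d e} : Set (Perm α))) := by
  let ι : Fin 5 ↪ α := ⟨![a, b, c, d, e], by
    intro i j hij
    simp only [List.nodup_cons, List.mem_cons, List.not_mem_nil, or_false, not_or] at h
    fin_cases i <;> fin_cases j <;> simp_all⟩
  have h0 : ¬ Group.IsSolvable (closure ({swap (0 : Fin 5) 1, cyc5 0 1 2 3 4} : Set (Perm (Fin 5)))) := by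
    have hu : swap (0 : Fin 5) 1 ∈ closure ({swap (0 : Fin 5) 1, cyc5 0 1 2 3 4} : Set (Perm (Fin 5))) :=
      subset_closure (by simp)
    have hv : cyc5 (0 : Fin 5) 1 2 3 4 ∈ closure ({swap (0 : Fin 5) 1, cyc5 0 1 2 3 4} : Set (Perm (Fin 5))) :=
      subset_closure (by simp)
    refine not_solvable_cert (a := 5) (b := 3) (c := 2) hv
      (mul_mem (mul_mem (mul_mem (mul_mem hu (inv_mem hv)) (inv_mem hv)) hu) hv) ?_ ?_ ?_ (by norm_num) (by norm_num)
      (by norm_num) ?_ <;> decide +kernel
  have h1 := ns_via ι h0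
  rw [via_cyc5, via_swap] at h1
  exact h1

/-- two 5-cycles on six points -/
theorem ns_six {α : Type*} [DecidableEq α] {a b c d e f : α} (h : [a, b, c, d, e, f].Nodup) :
    ¬ Group.IsSolvable (closure ({cyc5 a b c d e, cyc5 b a d c f} : Set (Perm α))) := by
  let ι : Fin 6 ↪ α := ⟨![a, b, c, d, e, f], by
    intro i j hij
    simp only [List.nodup_cons, List.mem_cons, List.not_mem_nil, or_false, not_or] at h
    fin_cases i <;> fin_cases j <;> simp_all⟩
  have h0 : ¬ Group.IsSolvable (closure ({cyc5 (0 : Fin 6) 1 2 3 4, cyc5 1 0 3 2 5} : Set (Perm (Fin 6)))) := by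
    have hu : cyc5 (0 : Fin 6) 1 2 3 4 ∈ closure ({cyc5 (0 : Fin 6) 1 2 3 4, cyc5 1 0 3 2 5} : Set (Perm (Fin 6))) :=
      subset_closure (by simp)
    have hv : cyc5 (1 : Fin 6) 0 3 2 5 ∈ closure ({cyc5 (0 : Fin 6) 1 2 3 4, cyc5 1 0 3 2 5} : Set (Perm (Fin 6))) :=
      subset_closure (by simp)
    refine not_solvable_cert (a := 5) (b := 3) (c := 2) hu
      (mul_mem (mul_mem hu (inv_mem hv)) (inv_mem hv)) ?_ ?_ ?_ (by norm_num) (by norm_num)
      (by norm_num) ?_ <;> decide +kernel
  have h1 := ns_via ι h0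
  rw [via_cyc5, via_cyc5] at h1
  exact h1

/-- from `σ y σ⁻¹` to `σ` -/
theorem ns_of_conj {G : Type*} [Group G] {σ y : G} (h : ¬ Group.IsSolvable (closure ({y, σ * y * σ⁻¹} : Set G))) :
    ¬ Group.IsSolvable (closure ({σ, y} : Set G)) := by
  intro hs
  apply h
  have h1 : closure ({y, σ * y * σ⁻¹} : Set G) ≤ closure ({σ, y} : Set G) := by
    rw [closure_le]
    have hσ : σ ∈ closure ({σ, y} : Set G) := subset_closure (by simp)
    have hy : y ∈ closure ({σ, y} : Set G) := subset_closure (by simp)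
    rintro z (rfl | rfl)
    · exact hy
    · exact mul_mem (mul_mem hσ hy) (inv_mem hσ)
  exact Group.isSolvable_of_isSolvable_injective (f := inclusion h1) (inclusion_injective h1)

/-- a list of fresh points -/
theorem exists_fresh {n : ℕ} (L : List (Fin n)) (h : L.length < n) : ∃ x, x ∉ L := by
  by_contra hcon
  push Not at hcon
  have h1 : (Finset.univ : Finset (Fin n)) ⊆ L.toFinset := fun x _ => List.mem_toFinset.2 (hcon x)
  have h2 := Finset.card_le_card h1
  rw [Finset.card_univ, Fintype.card_fin] at h2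
  have h3 := L.toFinset_card_le
  omega

/-- powers of an element of prime order moving `a` -/
theorem pow_ne {n : ℕ} {σ : Perm (Fin n)} (hσ : (orderOf σ).Prime) {a : Fin n} (ha : σ a ≠ a) {i j : ℕ}
    (hij : i < j) (hj : j < i + orderOf σ) : (σ ^ i) a ≠ (σ ^ j) a := by
  intro h
  obtain ⟨k, rfl⟩ : ∃ k, j = i + k := ⟨j - i, by omega⟩
  rw [pow_add, Perm.mul_apply] at h
  have h1 : (σ ^ k) a = a := ((σ ^ i).injective h).symm
  apply ha
  have hcop : Nat.Coprime k (orderOf σ) := by
    rw [Nat.coprime_comm]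
    exact (Nat.Prime.coprime_iff_not_dvd hσ).2 fun hd => by
      have := Nat.le_of_dvd (by omega) hd
      omega
  -- `σ` is a power of `σ ^ k`
  have h2 : σ ∈ zpowers (σ ^ k) := by
    rw [← Subgroup.zpowers_le]
    have : zpowers (σ ^ k) = zpowers σ := by
      refine eq_of_le_of_card_ge (zpowers_le.2 (npow_mem_zpowers _ _)) ?_
      rw [Nat.card_zpowers, Nat.card_zpowers, hcop.symm.orderOf_pow]
    rw [this]
  obtain ⟨m, hm⟩ := mem_zpowers_iff.1 h2
  rw [← hm]
  exact Function.IsFixedPt.perm_zpow h1 m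

theorem exists_y {n : ℕ} (hn : 8 ≤ n) {σ : Perm (Fin n)} (hσ : (orderOf σ).Prime) :
    ∃ y ∈ alternatingGroup (Fin n), OddPow y ∧ ¬ Group.IsSolvable (closure ({σ, y} : Set (Perm (Fin n)))) := by
  have hσ1 : σ ≠ 1 := by
    rintro rfl
    rw [orderOf_one] at hσ
    exact Nat.not_prime_one hσ
  obtain ⟨a, ha⟩ : ∃ a, σ a ≠ a := by
    by_contra h
    push Not at h
    exact hσ1 (Perm.ext h)
  by_cases h5 : 5 ≤ orderOf σ
  · -- at least five points in the orbit of `a`
    have key : ∀ i j : ℕ, i < j → j < 5 → (σ ^ i) a ≠ (σ ^ j) a := fun i j h1 h2 => pow_ne hσ ha h1 (by omega)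
    have e0 : (σ ^ 0) a = a := rfl
    have e1 : (σ ^ 1) a = σ a := rfl
    have e2 : (σ ^ 2) a = σ (σ a) := rfl
    have e3 : (σ ^ 3) a = σ (σ (σ a)) := rfl
    have e4 : (σ ^ 4) a = σ (σ (σ (σ a))) := rfl
    have n01 := key 0 1 (by norm_num) (by norm_num)
    have n02 := key 0 2 (by norm_num) (by norm_num)
    have n03 := key 0 3 (by norm_num) (by norm_num)
    have n04 := key 0 4 (by norm_num) (by norm_num)
    have n12 := key 1 2 (by norm_num) (by norm_num)
    have n13 := key 1 3 (by norm_num) (by norm_num)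
    have n14 := key 1 4 (by norm_num) (by norm_num)
    have n23 := key 2 3 (by norm_num) (by norm_num)
    have n24 := key 2 4 (by norm_num) (by norm_num)
    have n34 := key 3 4 (by norm_num) (by norm_num)
    rw [e0] at n01 n02 n03 n04
    rw [e1] at n01 n12 n13 n14
    rw [e2] at n02 n12 n23 n24
    rw [e3] at n03 n13 n23 n34
    rw [e4] at n04 n14 n24 n34
    refine ⟨cyc (σ a) (σ (σ (σ a))) a, mem_cyc n13 n01.symm n03.symm, oddPow_cyc n13 n01.symm n03.symm,
      ns_of_conj ?_⟩
    rw [conj_cyc, cyc_rot (p := σ (σ a)) (q := σ (σ (σ (σ a)))) n24 n12.symm,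
      cyc_rot (p := σ (σ (σ (σ a)))) (q := σ a) n14.symm n24.symm]
    apply ns_five
    simp only [List.nodup_cons, List.mem_cons, List.not_mem_nil, or_false, not_or, List.nodup_nil, and_true,
      not_false_eq_true]
    exact ⟨⟨n13, n01.symm, n12, n14⟩, ⟨n03.symm, n23.symm, n34⟩, ⟨n02, n04⟩, n24⟩
  · have hσ23 : orderOf σ = 2 ∨ orderOf σ = 3 := by
      have h1 := hσ.two_le
      have h4 : orderOf σ ≠ 4 := fun h => by rw [h] at hσ; norm_num at hσ
      omega
    rcases hσ23 with h2 | h3
    · -- involutions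
      have hinv : ∀ x, σ (σ x) = x := by
        intro x
        have : σ ^ 2 = 1 := by rw [← h2, pow_orderOf_eq_one]
        rw [← Perm.mul_apply, ← pow_two, this, Perm.one_apply]
      by_cases hc : ∃ c, c ≠ a ∧ c ≠ σ a ∧ σ c ≠ c
      · obtain ⟨c, hca, hcb, hcc⟩ := hc
        have hda : σ c ≠ a := fun h => hcb (by rw [← h, hinv])
        have hdb : σ c ≠ σ a := fun h => hca (σ.injective h)
        by_cases he : ∃ e, σ e = e
        · obtain ⟨e, he⟩ := he
          have hea : e ≠ a := fun h => ha (by rw [← h]; exact he)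
          have heb : e ≠ σ a := fun h => ha (by
            have := he; rw [h, hinv] at this; exact this.symm)
          have hec : e ≠ c := fun h => hcc (by rw [← h]; exact he)
          have hed : e ≠ σ c := fun h => hcc (by
            have := he; rw [h, hinv] at this; exact this.symm)
          refine ⟨cyc e a c, mem_cyc hea hec hca.symm, oddPow_cyc hea hec hca.symm, ns_of_conj ?_⟩
          rw [conj_cyc, he]
          apply ns_five
          simp only [List.nodup_cons, List.mem_cons, List.not_mem_nil, or_false, not_or, List.nodup_nil, and_true,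
            not_false_eq_true]
          exact ⟨⟨hea, hec, heb, hed⟩, ⟨hca.symm, ha.symm, hda.symm⟩, ⟨hcb, hcc.symm⟩, hdb.symm⟩
        · push Not at he
          obtain ⟨e, heL⟩ := exists_fresh [a, σ a, c, σ c] (by simp; omega)
          simp only [List.mem_cons, List.not_mem_nil, or_false, not_or] at heL
          obtain ⟨e1, e2, e3, e4⟩ := heL
          have hf1 : σ e ≠ a := fun h => e2 (by rw [← h, hinv])
          have hf2 : σ e ≠ σ a := fun h => e1 (σ.injective h)
          have hf3 : σ e ≠ c := fun h => e4 (by rw [← h, hinv])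
          have hf4 : σ e ≠ σ c := fun h => e3 (σ.injective h)
          have h5 := oddPow_cyc5 (p := a) (q := σ a) (r := c) (s := σ c) (t := e) (by
            simp only [List.nodup_cons, List.mem_cons, List.not_mem_nil, or_false, not_or, List.nodup_nil, and_true,
              not_false_eq_true]
            exact ⟨⟨ha.symm, hca.symm, hda.symm, Ne.symm e1⟩, ⟨Ne.symm hcb, hdb.symm, Ne.symm e2⟩,
              ⟨hcc.symm, Ne.symm e3⟩, Ne.symm e4⟩)
          refine ⟨cyc5 a (σ a) c (σ c) e, h5.2, h5.1, ns_of_conj ?_⟩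
          rw [conj_cyc5, hinv, hinv]
          apply ns_six
          simp only [List.nodup_cons, List.mem_cons, List.not_mem_nil, or_false, not_or, List.nodup_nil, and_true,
            not_false_eq_true]
          exact ⟨⟨ha.symm, hca.symm, hda.symm, Ne.symm e1, hf1.symm⟩, ⟨Ne.symm hcb, hdb.symm, Ne.symm e2, hf2.symm⟩,
              ⟨hcc.symm, Ne.symm e3, hf3.symm⟩, ⟨Ne.symm e4, hf4.symm⟩, (he e).symm⟩
      · -- a transposition
        push Not at hc
        have hs : σ = swap a (σ a) := by
          ext x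
          by_cases h1 : x = a
          · rw [h1, swap_apply_left]
          · by_cases h2 : x = σ a
            · rw [h2, swap_apply_right, hinv]
            · rw [swap_apply_of_ne_of_ne h1 h2, hc x h1 h2]
        obtain ⟨c, hc1⟩ := exists_fresh [a, σ a] (by simp; omega)
        obtain ⟨d, hd1⟩ := exists_fresh [a, σ a, c] (by simp; omega)
        obtain ⟨e, he1⟩ := exists_fresh [a, σ a, c, d] (by simp; omega)
        simp only [List.mem_cons, List.not_mem_nil, or_false, not_or] at hc1 hd1 he1
        have hnd : [a, σ a, c, d, e].Nodup := by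
          simp only [List.nodup_cons, List.mem_cons, List.not_mem_nil, or_false, not_or, List.nodup_nil, and_true,
              not_false_eq_true]
          exact ⟨⟨ha.symm, Ne.symm hc1.1, Ne.symm hd1.1, Ne.symm he1.1⟩,
            ⟨Ne.symm hc1.2, Ne.symm hd1.2.1, Ne.symm he1.2.1⟩, ⟨Ne.symm hd1.2.2, Ne.symm he1.2.2.1⟩,
            Ne.symm he1.2.2.2⟩
        have h5 := oddPow_cyc5 hnd
        refine ⟨cyc5 a (σ a) c d e, h5.2, h5.1, ?_⟩
        have h6 := ns_swap hnd
        rwa [← hs] at h6
    · -- order three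
      have hcub : ∀ x, σ (σ (σ x)) = x := by
        intro x
        have : σ ^ 3 = 1 := by rw [← h3, pow_orderOf_eq_one]
        have h4 : (σ ^ 3) x = σ (σ (σ x)) := rfl
        rw [← h4, this, Perm.one_apply]
      have n02 : a ≠ σ (σ a) := fun h => ha (by
        have h4 := congrArg σ h
        rw [hcub] at h4
        exact h4)
      have n12 : σ a ≠ σ (σ a) := fun h => ha (σ.injective h).symm
      by_cases hd : ∃ d, d ≠ a ∧ d ≠ σ a ∧ d ≠ σ (σ a) ∧ σ d ≠ d
      · obtain ⟨d, d0, d1, d2, hdd⟩ := hd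
        have f0 : σ d ≠ a := fun h => d2 (by
          rw [← h, hcub])
        have f1 : σ d ≠ σ a := fun h => d0 (σ.injective h)
        have f2 : σ d ≠ σ (σ a) := fun h => d1 (σ.injective h)
        refine ⟨cyc (σ a) a d, mem_cyc ha d1.symm d0.symm, oddPow_cyc ha d1.symm d0.symm, ns_of_conj ?_⟩
        rw [conj_cyc, cyc_rot (p := σ (σ a)) (q := σ a) n12.symm f2.symm]
        apply ns_five
        simp only [List.nodup_cons, List.mem_cons, List.not_mem_nil, or_false, not_or, List.nodup_nil, and_true,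
            not_false_eq_true]
        exact ⟨⟨ha, d1.symm, f1.symm, n12⟩, ⟨d0.symm, f0.symm, n02⟩, ⟨hdd.symm, d2⟩, f2⟩
      · push Not at hd
        have hs : σ = cyc a (σ a) (σ (σ a)) := by
          ext x
          unfold cyc
          rw [Perm.mul_apply]
          by_cases h1 : x = a
          · rw [h1, swap_apply_of_ne_of_ne ha.symm n02, swap_apply_left]
          · by_cases h2 : x = σ a
            · rw [h2, swap_apply_left, swap_apply_of_ne_of_ne n02.symm n12.symm]
            · by_cases h4 : x = σ (σ a)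
              · rw [h4, swap_apply_right, swap_apply_right, hcub]
              · rw [swap_apply_of_ne_of_ne h2 h4, swap_apply_of_ne_of_ne h1 h2, hd x h1 h2 h4]
        obtain ⟨d, hd1⟩ := exists_fresh [a, σ a, σ (σ a)] (by simp; omega)
        obtain ⟨e, he1⟩ := exists_fresh [a, σ a, σ (σ a), d] (by simp; omega)
        simp only [List.mem_cons, List.not_mem_nil, or_false, not_or] at hd1 he1
        refine ⟨cyc a d e, mem_cyc (Ne.symm hd1.1) (Ne.symm he1.1) (Ne.symm he1.2.2.2),
          oddPow_cyc (Ne.symm hd1.1) (Ne.symm he1.1) (Ne.symm he1.2.2.2), ?_⟩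
        have h6 := ns_five (s := a) (a := σ a) (b := σ (σ a)) (c := d) (d := e) (by
          simp only [List.nodup_cons, List.mem_cons, List.not_mem_nil, or_false, not_or, List.nodup_nil, and_true,
            not_false_eq_true]
          exact ⟨⟨ha.symm, n02, Ne.symm hd1.1, Ne.symm he1.1⟩, ⟨n12, Ne.symm hd1.2.1, Ne.symm he1.2.1⟩,
            ⟨Ne.symm hd1.2.2, Ne.symm he1.2.2.1⟩, Ne.symm he1.2.2.2⟩)
        rwa [← hs] at h6

/-- it suffices to consider automorphisms of prime order -/
theorem PE.of_prime {K : Type*} [Group K] [Finite K]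
    (haut : ∀ x : MulAut K, (orderOf x).Prime →
      ∃ y : K, OddPow y ∧ ¬ Group.IsSolvable (closure ({x, MulAut.conj y} : Set (MulAut K))))
    (hpair : ∃ p : ℕ, p.Prime ∧ p ≠ 2 ∧ ∃ a b : K, (∃ k, orderOf a = p ^ k) ∧ (∃ k, orderOf b = p ^ k) ∧
      ¬ Group.IsSolvable (closure ({a, b} : Set K))) : PE K := by
  refine ⟨fun x hx => ?_, hpair⟩
  have hfin : Finite (MulAut K) := inferInstance
  obtain ⟨q, hq, hqd⟩ := Nat.exists_prime_and_dvd (n := orderOf x) (fun h => hx (orderOf_eq_one_iff.1 h))
  have hox : orderOf (x ^ (orderOf x / q)) = q := by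
    rw [orderOf_pow_of_dvd (Nat.div_pos (Nat.le_of_dvd (orderOf_pos x) hqd) hq.pos).ne' (Nat.div_dvd_of_dvd hqd),
      Nat.div_div_self hqd (orderOf_pos x).ne']
  obtain ⟨y, hy, hns⟩ := haut _ (by rw [hox]; exact hq)
  refine ⟨y, hy, fun hs => hns ?_⟩
  have hle : closure ({x ^ (orderOf x / q), MulAut.conj y} : Set (MulAut K)) ≤
      closure ({x, MulAut.conj y} : Set (MulAut K)) := by
    rw [closure_le]
    rintro z (rfl | rfl)
    · exact pow_mem (subset_closure (by simp)) _
    · exact subset_closure (by simp)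
  exact Group.isSolvable_of_isSolvable_injective (f := inclusion hle) (inclusion_injective hle)

/-- a permutation commuting with the alternating group is trivial -/
theorem eq_one_of_comm {n : ℕ} (hn : 5 ≤ n) {c : Perm (Fin n)} (h : ∀ y ∈ alternatingGroup (Fin n), c * y = y * c) :
    c = 1 := by
  ext a
  rw [Perm.one_apply]
  by_contra hca
  have hca' : c a ≠ a := fun h => hca (by rw [h])
  obtain ⟨d, hd⟩ := exists_fresh [a, c a] (by simp; omega)
  obtain ⟨e, he⟩ := exists_fresh [a, c a, d] (by simp; omega)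
  simp only [List.mem_cons, List.not_mem_nil, or_false, not_or] at hd he
  have h1 := h _ (mem_cyc (p := a) (q := d) (r := e) (Ne.symm hd.1) (Ne.symm he.1) (Ne.symm he.2.2))
  have h2 := congrArg (fun σ : Perm (Fin n) => σ a) h1
  simp only [Perm.mul_apply] at h2
  have e1 : cyc a d e a = d := by
    unfold cyc
    rw [Perm.mul_apply, swap_apply_of_ne_of_ne (Ne.symm hd.1) (Ne.symm he.1), swap_apply_left]
  have e2 : cyc a d e (c a) = c a := by
    unfold cyc
    rw [Perm.mul_apply, swap_apply_of_ne_of_ne (Ne.symm hd.2) (Ne.symm he.2.1),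
      swap_apply_of_ne_of_ne hca' (Ne.symm hd.2)]
  rw [e1, e2] at h2
  exact hd.1 (c.injective h2)

theorem pair_of_nodup {α : Type*} [DecidableEq α] [Fintype α] {s a b c d : α} (hnd : [s, a, b, c, d].Nodup) :
    ∃ p : ℕ, p.Prime ∧ p ≠ 2 ∧ ∃ a b : alternatingGroup α, (∃ k, orderOf a = p ^ k) ∧ (∃ k, orderOf b = p ^ k) ∧
      ¬ Group.IsSolvable (closure ({a, b} : Set (alternatingGroup α))) := by
  have h1 := ns_five hnd
  simp only [List.nodup_cons, List.mem_cons, List.not_mem_nil, or_false, not_or, List.nodup_nil, and_true,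
            not_false_eq_true] at hnd
  have m1 : cyc s a b ∈ alternatingGroup α := mem_cyc hnd.1.1 hnd.1.2.1 hnd.2.1.1
  have m2 : cyc s c d ∈ alternatingGroup α := mem_cyc hnd.1.2.2.1 hnd.1.2.2.2 hnd.2.2.2
  refine ⟨3, by norm_num, by norm_num, ⟨_, m1⟩, ⟨_, m2⟩, ⟨1, ?_⟩, ⟨1, ?_⟩, fun hs => h1 ?_⟩
  · rw [Subgroup.orderOf_mk, (isThreeCycle hnd.1.1 hnd.1.2.1 hnd.2.1.1).orderOf, pow_one]
  · rw [Subgroup.orderOf_mk, (isThreeCycle hnd.1.2.2.1 hnd.1.2.2.2 hnd.2.2.2).orderOf, pow_one]
  · have h2 : (closure ({⟨_, m1⟩, ⟨_, m2⟩} : Set (alternatingGroup α))).map (alternatingGroup α).subtype =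
        closure ({cyc s a b, cyc s c d} : Set (Perm α)) := by
      rw [MonoidHom.map_closure, Set.image_pair]; rfl
    rw [← h2]
    exact Cfsg.Agent.SignalizersComponents.ComponentExists.isSolvable_map hs _

theorem pe_alt_ge {n : ℕ} (hn : 8 ≤ n) : PE (alternatingGroup (Fin n)) := by
  obtain ⟨ψ, hψ, hspec⟩ := Cfsg.Agent.Omega.TwoF.AltRk.exists_psi (n := n) (by omega)
  have hconj : ∀ y : alternatingGroup (Fin n), ψ (MulAut.conj y) = (y : Perm (Fin n)) := by
    intro y
    have h1 : (y : Perm (Fin n))⁻¹ * ψ (MulAut.conj y) = 1 := by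
      refine eq_one_of_comm (by omega) fun z hz => ?_
      have h2 := hspec (MulAut.conj y) ⟨z, hz⟩
      have h3 : ((MulAut.conj y ⟨z, hz⟩ : alternatingGroup (Fin n)) : Perm (Fin n)) = y * z * (y : Perm (Fin n))⁻¹ :=
        rfl
      rw [h3] at h2
      set w := ψ (MulAut.conj y)
      change (y : Perm (Fin n)) * z * (y : Perm (Fin n))⁻¹ = w * z * w⁻¹ at h2
      have h4 : w * z = (y : Perm (Fin n)) * z * (y : Perm (Fin n))⁻¹ * w := by
        rw [h2]; group
      rw [mul_assoc, h4]; group
    exact (inv_mul_eq_one.1 h1).symm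
  refine PE.of_prime ?_ ?_
  · intro x hx
    have hx' : (orderOf (ψ x)).Prime := by rwa [orderOf_injective ψ hψ]
    obtain ⟨y, hyA, ⟨p, k, hp, hp2, hy⟩, hns⟩ := exists_y hn hx'
    refine ⟨⟨y, hyA⟩, ⟨p, k, hp, hp2, by rw [Subgroup.orderOf_mk, hy]⟩, fun hs => hns ?_⟩
    have h1 : (closure ({x, MulAut.conj ⟨y, hyA⟩} : Set (MulAut (alternatingGroup (Fin n))))).map ψ =
        closure ({ψ x, y} : Set (Perm (Fin n))) := by
      rw [MonoidHom.map_closure, Set.image_pair, hconj]
    rw [← h1]
    exact Cfsg.Agent.SignalizersComponents.ComponentExists.isSolvable_map hs _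
  · exact pair_of_nodup (s := (⟨0, by omega⟩ : Fin n)) (a := ⟨1, by omega⟩) (b := ⟨2, by omega⟩)
      (c := ⟨3, by omega⟩) (d := ⟨4, by omega⟩) (by simp)

/-- **the alternating groups** -/
theorem pe_alternating {G : Type*} [Group G] [Finite G] [IsSimpleGroup G] (hG : ¬ IsMulCommutative G)
    (h : Cfsg.IsAlternating G) : PE G := by
  obtain ⟨n, hn, ⟨e⟩⟩ := h
  by_cases h8 : 8 ≤ n
  · exact (pe_alt_ge h8).congr e.symm
  · have hnt : Nontrivial (Fin n) := Fin.nontrivial_iff_two_le.2 (by omega)
    have hcard : 2 * Nat.card G = n.factorial := by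
      rw [Nat.card_congr e.toEquiv, Nat.card_eq_fintype_card, two_mul_card_alternatingGroup, Fintype.card_perm,
        Fintype.card_fin]
    have hn' : n = 5 ∨ n = 6 ∨ n = 7 := by omega
    have key : HasSU1 G := by
      rcases hn' with rfl | rfl | rfl
      · have h1 : Nat.card G = 60 := by
          have : Nat.factorial 5 = 120 := rfl
          omega
        exact of_list (p := 5) [(2, 2), (3, 1)] h1 (by norm_num) (by norm_num) (by norm_num) (by norm_num)
          (by decide +kernel) (by decide +kernel) (by norm_num)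
      · have h1 : Nat.card G = 360 := by
          have : Nat.factorial 6 = 720 := rfl
          omega
        exact of_list (p := 5) [(2, 3), (3, 2)] h1 (by norm_num) (by norm_num) (by norm_num) (by norm_num)
          (by decide +kernel) (by decide +kernel) (by norm_num)
      · have h1 : Nat.card G = 2520 := by
          have : Nat.factorial 7 = 5040 := rfl
          omega
        exact of_list (p := 5) [(2, 3), (3, 2), (7, 1)] h1 (by norm_num) (by norm_num) (by norm_num) (by norm_num)
          (by decide +kernel) (by decide +kernel) (by norm_num)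
    exact PE.of_P2 hG (P2.of_SU hG key.hasSU)

end Cfsg.Agent.H465.AltPE
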