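import Cfsg.Agent.H465.SpArith
import Cfsg.Agent.H839.SeventeenMain
import Cfsg.Agent.H837.Base23
import Cfsg.Agent.KFacts.FiTTh.Cent

/-!
# A solvably unique element of `Fi23` (helper837 for helper465)

`p = 17`. Let `y` of order 17 normalise the 2-group `E ≠ 1`. `17 ∤ |C(E)|`, so `y` normalises a Sylow 2-subgroup `P` of
`C(E)`; `E` commutes with a transposition, so `P` contains transpositions; they commute pairwise and `y` commutes with none of
them, so their number is a multiple of 17. A transposition commuting with all of them belongs to the unique basic set of 23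
transpositions containing them, so that `y` fixes a member of this basic set; contradiction.
-/

set_option autoImplicit false

namespace Cfsg.Agent.H465.SpFi23

open Cfsg Subgroup
open Cfsg.Agent.H465.SU

/-! ### Actions of an element of prime order -/

section gen

variable {G : Type*} [Group G] [Finite G]

omit [Finite G] in
theorem pow_conj_mem {y : G} {S : Set G} (hS : ∀ t ∈ S, y * t * y⁻¹ ∈ S) (n : ℕ) :
    ∀ t ∈ S, y ^ n * t * (y ^ n)⁻¹ ∈ S := by
  induction n with
  | zero =>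
    intro t ht
    rw [pow_zero, one_mul, inv_one, mul_one]
    exact ht
  | succ n ih =>
    intro t ht
    have h1 := hS _ (ih t ht)
    have h2 : y * (y ^ n * t * (y ^ n)⁻¹) * y⁻¹ = y ^ (n + 1) * t * (y ^ (n + 1))⁻¹ := by
      rw [pow_succ']
      group
    rwa [h2] at h1

/-- an element of prime order acting on a set of elements has a fixed point if the number of elements is not divisible -/
theorem exists_comm {p : ℕ} (hp : p.Prime) {y : G} (hy : orderOf y = p) {S : Set G}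
    (hS : ∀ t ∈ S, y * t * y⁻¹ ∈ S) (hn : ¬ p ∣ S.ncard) : ∃ t ∈ S, y * t = t * y := by
  have : Fact p.Prime := ⟨hp⟩
  have hz : ∀ g ∈ zpowers y, ∀ t ∈ S, g * t * g⁻¹ ∈ S := by
    intro g hg
    obtain ⟨n, rfl⟩ := mem_powers_iff_mem_zpowers.2 hg
    exact pow_conj_mem hS n
  let _ : MulAction ↥(zpowers y) ↥S :=
    { smul := fun g u => ⟨g * u * (g : G)⁻¹, hz g g.2 u u.2⟩
      one_smul := fun u => Subtype.ext (by show (1 : G) * u * (1 : G)⁻¹ = u; group)
      mul_smul := fun g h u => Subtype.ext (by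
        show ((g : G) * h) * u * ((g : G) * h)⁻¹ = g * (h * u * (h : G)⁻¹) * (g : G)⁻¹
        group) }
  have hPg : IsPGroup p ↥(zpowers y) := IsPGroup.of_card (n := 1) (by rw [Nat.card_zpowers, hy, pow_one])
  obtain ⟨u, hu⟩ := hPg.nonempty_fixed_point_of_prime_not_dvd_card ↥S hn
  refine ⟨u, u.2, ?_⟩
  have h3 : (y : G) * (u : G) * y⁻¹ = u := congrArg Subtype.val (hu ⟨y, mem_zpowers y⟩)
  exact mul_inv_eq_iff_eq_mul.1 h3

/-- the automorphism of `C` induced by an element normalising it -/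
def conjOn (C : Subgroup G) (y : G) (hy : ∀ u, u ∈ C ↔ y * u * y⁻¹ ∈ C) : MulAut C where
  toFun u := ⟨y * u * y⁻¹, (hy u).1 u.2⟩
  invFun u := ⟨y⁻¹ * u * y, (hy _).2 (by
    have : y * (y⁻¹ * (u : G) * y) * y⁻¹ = u := by group
    rw [this]; exact u.2)⟩
  left_inv u := Subtype.ext (by show y⁻¹ * (y * (u : G) * y⁻¹) * y = u; group)
  right_inv u := Subtype.ext (by show y * (y⁻¹ * (u : G) * y) * y⁻¹ = u; group)
  map_mul' u v := Subtype.ext (by
    show y * ((u : G) * v) * y⁻¹ = y * u * y⁻¹ * (y * v * y⁻¹)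
    group)

omit [Finite G] in
theorem conjOn_pow (C : Subgroup G) (y : G) (hy : ∀ u, u ∈ C ↔ y * u * y⁻¹ ∈ C) (n : ℕ) (u : C) :
    (((conjOn C y hy) ^ n) u : G) = y ^ n * u * (y ^ n)⁻¹ := by
  induction n with
  | zero => rw [pow_zero, pow_zero, one_mul, inv_one, mul_one]; rfl
  | succ n ih =>
    rw [pow_succ', MulAut.mul_apply]
    show y * (((conjOn C y hy) ^ n) u : G) * y⁻¹ = _
    rw [ih, pow_succ']
    group

/-- **an element of prime order `p` normalising `C`, `p ∤ |C|`, normalises a Sylow subgroup of `C`** -/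
theorem exists_sylow_inv {p q : ℕ} [hp : Fact p.Prime] [hq : Fact q.Prime] {C : Subgroup G} {y : G}
    (hyp : y ^ p = 1) (hC : ¬ p ∣ Nat.card C) (hy : ∀ u, u ∈ C ↔ y * u * y⁻¹ ∈ C) :
    ∃ P : Sylow q C, ∀ u ∈ P, (conjOn C y hy) u ∈ P := by
  set α := conjOn C y hy with hα
  have hαp : α ^ p = 1 := by
    ext u
    rw [conjOn_pow, hyp, one_mul, inv_one, mul_one]
    rfl
  have hPg : IsPGroup p ↥(zpowers α) := by
    intro g
    obtain ⟨i, hi⟩ := mem_zpowers_iff.1 g.2
    refine ⟨1, Subtype.ext ?_⟩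
    show (g : MulAut C) ^ p ^ 1 = 1
    rw [← hi, pow_one, ← zpow_natCast, ← zpow_mul, mul_comm, zpow_mul, zpow_natCast, hαp, one_zpow]
  have hn : ¬ p ∣ Nat.card (Sylow q C) := by
    intro h
    obtain ⟨P⟩ : Nonempty (Sylow q C) := inferInstance
    rw [P.card_eq_index_normalizer] at h
    exact hC (h.trans (index_dvd_card _))
  obtain ⟨P, hP⟩ := hPg.nonempty_fixed_point_of_prime_not_dvd_card (Sylow q C) hn
  refine ⟨P, fun u hu => ?_⟩
  have h1 : (⟨α, mem_zpowers α⟩ : zpowers α) • P = P := hP ⟨α, mem_zpowers α⟩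
  have h2 : α • u ∈ (α • P : Sylow q C) := Subgroup.smul_mem_pointwise_smul u α (P : Subgroup C) hu
  have h3 : (α • P : Sylow q C) = P := h1
  rw [h3] at h2
  exact h2

omit [Finite G] in
/-- `y` normalises `E` => `y` normalises `C(E)` -/
theorem conj_mem_centralizer {y : G} {E : Set G} (hE : ∀ t, t ∈ E ↔ y * t * y⁻¹ ∈ E) (u : G) :
    u ∈ centralizer E ↔ y * u * y⁻¹ ∈ centralizer E := by
  rw [mem_centralizer_iff, mem_centralizer_iff]
  constructor
  · intro h t ht
    have h1 : y⁻¹ * t * y ∈ E := (hE _).2 (by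
      have : y * (y⁻¹ * t * y) * y⁻¹ = t := by group
      rwa [this])
    have h2 := h _ h1
    calc t * (y * u * y⁻¹) = y * ((y⁻¹ * t * y) * u) * y⁻¹ := by group
      _ = y * (u * (y⁻¹ * t * y)) * y⁻¹ := by rw [h2]
      _ = (y * u * y⁻¹) * t := by group
  · intro h t ht
    have h2 := h _ ((hE t).1 ht)
    have h3 : y * (t * u) * y⁻¹ = y * (u * t) * y⁻¹ := by
      calc y * (t * u) * y⁻¹ = (y * t * y⁻¹) * (y * u * y⁻¹) := by group
        _ = (y * u * y⁻¹) * (y * t * y⁻¹) := h2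
        _ = y * (u * t) * y⁻¹ := by group
    exact mul_left_cancel (mul_right_cancel h3)

/-- a set mapped into itself by conjugation is invariant -/
theorem conj_iff {y : G} {E : Set G} (hE : ∀ t ∈ E, y * t * y⁻¹ ∈ E) (t : G) :
    t ∈ E ↔ y * t * y⁻¹ ∈ E := by
  refine ⟨hE t, fun h => ?_⟩
  have h1 := pow_conj_mem hE (orderOf y - 1) _ h
  have h2 : y ^ (orderOf y - 1) = y⁻¹ := by
    rw [eq_inv_iff_mul_eq_one, ← pow_succ, Nat.sub_add_cancel (orderOf_pos y), pow_orderOf_eq_one]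
  rw [h2] at h1
  have h3 : y⁻¹ * (y * t * y⁻¹) * y⁻¹⁻¹ = t := by group
  rwa [h3] at h1

end gen

/-! ### `Fi23` -/

open Cfsg.Agent.KFacts.FiTTh.BasDef Cfsg.Agent.KFacts.FiTTh.BasFi
open Cfsg.Agent.KFacts.FiTTh.Cent (card_K K_eq)
open Cfsg.Agent.Fischer.Fi23Simple (card_Fi23)
open Cfsg.Agent.H837.Base23
open Cfsg.Agent.Fischer.Fi23Z (z0)
open Cfsg.Spor (Fi23)

theorem finF : Finite Fi23 := Cfsg.Agent.KFacts.FiTTh.BasInv.finite

/-- elements of order 17 are self-centralising -/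
theorem self_cent {y : Fi23} (hy : orderOf y = 17) {u : Fi23} (h : y * u = u * y) : u ^ 17 = 1 := by
  have := finF
  have h1 := (Cfsg.Agent.H839.Fi23.seventeen_main (zpowers y) (by rw [Nat.card_zpowers, hy])).2
  have h2 : u ∈ centralizer ((zpowers y : Subgroup Fi23) : Set Fi23) := by
    rw [mem_centralizer_iff]
    rintro g hg
    obtain ⟨i, rfl⟩ := mem_zpowers_iff.1 hg
    exact (Commute.zpow_left (show Commute y u from h) i).eq
  rw [h1] at h2
  rw [← hy]
  exact orderOf_dvd_iff_pow_eq_one.1 (orderOf_dvd_of_mem_zpowers h2)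

/-- ... and commute with no transposition -/
theorem not_comm {y : Fi23} (hy : orderOf y = 17) {t : Fi23} (ht : IsConj z0 t) : ¬ y * t = t * y := by
  intro h
  have h1 := self_cent hy h
  have h2 := sq_of ht
  apply ne_one_of ht
  have h3 : t ^ 2 = 1 := by rw [pow_two]; exact h2
  calc t = t ^ 17 * ((t ^ 2) ^ 8)⁻¹ := by group
    _ = 1 := by rw [h1, h3, one_pow, inv_one, mul_one]

/-- every 2-subgroup commutes with a transposition -/
theorem exists_transp {E : Subgroup Fi23} (hE : IsPGroup 2 E) : ∃ t, IsConj z0 t ∧ t ∈ centralizer (E : Set Fi23) := by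
  have := finF
  have hodd : ¬ 2 ∣ (centralizer ({z0} : Set Fi23)).index := by
    have h1 := card_mul_index (centralizer ({z0} : Set Fi23))
    rw [← K_eq, card_K, card_Fi23] at h1
    rw [← K_eq]
    omega
  obtain ⟨P0, hP0⟩ := Cfsg.Agent.KFacts.FiTTh.Uniq.Loc.exists_sylow hodd
  obtain ⟨P, hP⟩ := hE.exists_le_sylow
  obtain ⟨g, hg⟩ := MulAction.exists_smul_eq Fi23 P P0
  refine ⟨g⁻¹ * z0 * g⁻¹⁻¹, isConj_conj (IsConj.refl _) g⁻¹, ?_⟩
  rw [mem_centralizer_iff]
  intro u hu
  have h1 : u ∈ (P : Subgroup Fi23) := hP hu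
  have h2 : g * u * g⁻¹ ∈ centralizer ({z0} : Set Fi23) := by
    apply hP0
    rw [← hg]
    exact Subgroup.smul_mem_pointwise_smul u (MulAut.conj g) _ h1
  rw [mem_centralizer_singleton_iff] at h2
  calc u * (g⁻¹ * z0 * g⁻¹⁻¹) = g⁻¹ * ((g * u * g⁻¹) * z0) * g := by group
    _ = g⁻¹ * (z0 * (g * u * g⁻¹)) * g := by rw [h2]
    _ = g⁻¹ * z0 * g⁻¹⁻¹ * u := by group

/-- transpositions in a 2-group commute -/
theorem comm_of_two {P : Subgroup Fi23} (hP : IsPGroup 2 P) {s t : Fi23} (hs : IsConj z0 s) (ht : IsConj z0 t)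
    (hsP : s ∈ P) (htP : t ∈ P) : Commute s t := by
  by_contra hc
  have hb := braid_of hs ht hc
  have hs2 := sq_of hs
  have ht2 := sq_of ht
  have h3 : (s * t) ^ 3 = 1 := by
    calc (s * t) ^ 3 = (s * t * s) * (t * s * t) := by simp only [pow_succ, pow_zero, one_mul, mul_assoc]
      _ = (t * s * t) * (t * s * t) := by rw [hb]
      _ = t * s * (t * t) * s * t := by group
      _ = t * (s * s) * t := by rw [ht2, mul_one]; group
      _ = 1 := by rw [hs2, mul_one, ht2]
  obtain ⟨k, hk⟩ := hP ⟨s * t, P.mul_mem hsP htP⟩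
  have hk' : (s * t) ^ 2 ^ k = 1 := congrArg Subtype.val hk
  have h4 : orderOf (s * t) ∣ Nat.gcd 3 (2 ^ k) :=
    Nat.dvd_gcd (orderOf_dvd_of_pow_eq_one h3) (orderOf_dvd_of_pow_eq_one hk')
  have h5 : Nat.gcd 3 (2 ^ k) = 1 := Nat.Coprime.pow_right k (by norm_num)
  rw [h5, Nat.dvd_one, orderOf_eq_one_iff] at h4
  apply hc
  have h6 : s = t := by
    calc s = s * t * t := by rw [mul_assoc, ht2, mul_one]
      _ = t := by rw [h4, one_mul]
  rw [h6]

/-- **an element of order 17 normalises no non-trivial 2-subgroup** -/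
theorem no_two {y : Fi23} (hy : orderOf y = 17) {E : Subgroup Fi23} (hE : IsPGroup 2 E) (hE1 : E ≠ ⊥)
    (hyE : ∀ u ∈ E, y * u * y⁻¹ ∈ E) : False := by
  classical
  have := finF
  have h17 : Nat.Prime 17 := by norm_num
  have : Fact (Nat.Prime 17) := ⟨h17⟩
  have : Fact (Nat.Prime 2) := ⟨Nat.prime_two⟩
  have hyp : y ^ 17 = 1 := by rw [← hy]; exact pow_orderOf_eq_one y
  -- `17 ∤ |C(E)|`
  set C := centralizer (E : Set Fi23) with hCdef
  have hC : ¬ 17 ∣ Nat.card C := by
    intro h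
    obtain ⟨x, hx⟩ := exists_prime_orderOf_dvd_card' (G := C) 17 h
    obtain ⟨u, hu, hu1⟩ := (Subgroup.ne_bot_iff_exists_ne_one.1 hE1 |> fun ⟨u, hu⟩ =>
      (⟨(u : Fi23), u.2, fun h => hu (Subtype.ext h)⟩ : ∃ u : Fi23, u ∈ E ∧ u ≠ 1))
    have hx' : orderOf (x : Fi23) = 17 := by rw [orderOf_coe]; exact hx
    have h1 := self_cent hx' (u := u) ((mem_centralizer_iff.1 x.2 u hu).symm)
    obtain ⟨k, hk⟩ := hE ⟨u, hu⟩
    have hk' : u ^ 2 ^ k = 1 := congrArg Subtype.val hk
    have h4 : orderOf u ∣ Nat.gcd 17 (2 ^ k) :=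
      Nat.dvd_gcd (orderOf_dvd_of_pow_eq_one h1) (orderOf_dvd_of_pow_eq_one hk')
    have h5 : Nat.gcd 17 (2 ^ k) = 1 := Nat.Coprime.pow_right k (by norm_num)
    rw [h5, Nat.dvd_one, orderOf_eq_one_iff] at h4
    exact hu1 h4
  have hyC := conj_mem_centralizer (conj_iff hyE)
  obtain ⟨P, hP⟩ := exists_sylow_inv (q := 2) hyp hC hyC
  -- the transpositions in `P`
  set P' : Subgroup Fi23 := (P : Subgroup C).map C.subtype with hP'
  have hP2 : IsPGroup 2 P' := P.isPGroup'.map C.subtype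
  have hyP : ∀ u ∈ P', y * u * y⁻¹ ∈ P' := by
    rintro _ ⟨u, hu, rfl⟩
    exact ⟨_, hP u hu, rfl⟩
  set K : Set Fi23 := {t | IsConj z0 t ∧ t ∈ P'} with hK
  have hKn : K.Nonempty := by
    obtain ⟨t, ht, htC⟩ := exists_transp hE
    have h1 : IsPGroup 2 (zpowers (⟨t, htC⟩ : C)) := by
      intro g
      obtain ⟨i, hi⟩ := mem_zpowers_iff.1 g.2
      refine ⟨1, Subtype.ext ?_⟩
      show (g : C) ^ 2 ^ 1 = 1
      have h2 : (⟨t, htC⟩ : C) ^ 2 = 1 := Subtype.ext (by
        show t ^ 2 = 1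
        rw [pow_two]; exact sq_of ht)
      rw [← hi, pow_one, ← zpow_natCast, ← zpow_mul, mul_comm, zpow_mul, zpow_natCast, h2, one_zpow]
    obtain ⟨Q, hQ⟩ := h1.exists_le_sylow
    obtain ⟨g, hg⟩ := MulAction.exists_smul_eq C Q P
    refine ⟨(g : Fi23) * t * (g : Fi23)⁻¹, isConj_conj ht _, g * ⟨t, htC⟩ * g⁻¹, ?_, rfl⟩
    rw [← hg]
    exact Subgroup.smul_mem_pointwise_smul _ (MulAut.conj g) _ (hQ (mem_zpowers _))
  have hKy : ∀ t ∈ K, y * t * y⁻¹ ∈ K := fun t ht => ⟨isConj_conj ht.1 y, hyP t ht.2⟩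
  have hK17 : 17 ∣ K.ncard := by
    by_contra h
    obtain ⟨t, ht, hc⟩ := exists_comm h17 hy hKy h
    exact not_comm hy ht.1 hc
  have hKc : 17 ≤ K.ncard := Nat.le_of_dvd ((Set.ncard_pos (Set.toFinite K)).2 hKn) hK17
  obtain ⟨g, hg⟩ := exists_conj_base (E := K) (fun t ht => ht.1)
    (fun s hs t ht => comm_of_two hP2 hs.1 ht.1 hs.2 ht.2)
  choose! f hf using hg
  -- the basic set
  set B : Set Fi23 := {t | IsConj z0 t ∧ ∀ s ∈ K, Commute t s} with hB
  have hyB : ∀ t ∈ B, y * t * y⁻¹ ∈ B := by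
    rintro t ⟨ht, hc⟩
    refine ⟨isConj_conj ht y, fun s hs => ?_⟩
    have h1 : y⁻¹ * s * y ∈ K := (conj_iff hKy _).2 (by
      have : y * (y⁻¹ * s * y) * y⁻¹ = s := by group
      rwa [this])
    have h2 := hc _ h1
    have h3 : (MulAut.conj y) (y⁻¹ * s * y) = s := by
      show y * (y⁻¹ * s * y) * y⁻¹ = s
      group
    have h4 := h2.map (MulAut.conj y)
    rw [h3] at h4
    exact h4
  have hBeq : B = Set.range fun i : ZMod 23 => g⁻¹ * e (some i) * g := by
    ext t
    constructor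
    · rintro ⟨ht, hc⟩
      let S : Finset (ZMod 23) := Finset.univ.filter fun i => ∃ s ∈ K, g * s * g⁻¹ = e (some i)
      have hS : K.ncard ≤ S.card := by
        rw [← Set.ncard_coe_finset]
        apply Set.ncard_le_ncard_of_injOn f
        · intro s hs
          rw [Finset.mem_coe, Finset.mem_filter]
          exact ⟨Finset.mem_univ _, s, hs, hf s hs⟩
        · intro s hs t ht hst
          have h1 := hf s hs
          rw [hst, ← hf t ht] at h1
          exact mul_left_cancel (mul_right_cancel h1)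
      obtain ⟨i, hi⟩ := mem_base_of_eight (t := g * t * g⁻¹) (isConj_conj ht g) (S := S) (by omega)
        (by
          intro i hi
          obtain ⟨s, hs, hsi⟩ := (Finset.mem_filter.1 hi).2
          rw [← hsi]
          exact (hc s hs).map (MulAut.conj g))
      refine ⟨i, ?_⟩
      show g⁻¹ * e (some i) * g = t
      rw [← hi]
      group
    · rintro ⟨i, rfl⟩
      refine ⟨?_, fun s hs => ?_⟩
      · have := isConj_conj (isConj_e i) g⁻¹
        rwa [inv_inv] at this
      · have h1 : s = g⁻¹ * e (some (f s)) * g := by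
          rw [← hf s hs]
          group
        have h2 : Commute (e (some i)) (e (some (f s))) := e_comm _ _
        have h3 := h2.map (MulAut.conj g⁻¹)
        have h4 : ∀ x : Fi23, (MulAut.conj g⁻¹) x = g⁻¹ * x * g := by
          intro x
          show g⁻¹ * x * g⁻¹⁻¹ = _
          rw [inv_inv]
        rw [h4, h4, ← h1] at h3
        exact h3
  have hB23 : B.ncard = 23 := by
    rw [hBeq, ← Set.image_univ, Set.ncard_image_of_injective, Set.ncard_univ, Nat.card_zmod]
    intro i j hij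
    have h1 : e (some i) = e (some j) := mul_left_cancel (mul_right_cancel hij)
    exact Option.some_injective _ (e_inj h1)
  obtain ⟨t, ht, hc⟩ := exists_comm h17 hy hyB (by rw [hB23]; norm_num)
  exact not_comm hy ht.1 hc

/-- **`Fi23` has a solvably unique element** -/
theorem fi23_aux : HasSU1 Fi23 := by
  have := finF
  have h17 : Nat.Prime 17 := by norm_num
  have : Fact (Nat.Prime 17) := ⟨h17⟩
  have h1 : ¬ 17 ^ 2 ∣ Nat.card Fi23 := by rw [card_Fi23]; norm_num
  obtain ⟨y, hy⟩ := exists_prime_orderOf_dvd_card' (G := Fi23) 17 (by rw [card_Fi23]; norm_num)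
  refine ⟨17, y, h17, by norm_num, hy, h1, SUel.of_elem h17 h1 hy ?_ ?_⟩
  · intro u hu hu17 hc
    have h2 := self_cent hy hc
    exact hu17 ((Nat.prime_dvd_prime_iff_eq hu h17).1 (orderOf_dvd_of_pow_eq_one h2))
  · intro t k E ht ht17 hk hEc hd hdvd hpow hcomm hyE
    by_cases ht2 : t = 2
    · subst ht2
      have : Fact (Nat.Prime 2) := ⟨Nat.prime_two⟩
      refine no_two hy (IsPGroup.of_card hEc) ?_ hyE
      rintro rfl
      rw [card_bot] at hEc
      exact (Nat.one_lt_pow hk.ne' (by norm_num)).ne hEc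
    · refine arith_of_list (N := 17 * (([(3, 13), (5, 2), (7, 1), (11, 1), (13, 1), (23, 1)] :
        List (ℕ × ℕ)).map fun x => x.1 ^ x.2).prod) (p := 17)
        [(3, 13), (5, 2), (7, 1), (11, 1), (13, 1), (23, 1)] (by norm_num) (by norm_num) h17 (by norm_num)
        (by decide +kernel) t k ht ht17 hk ?_ hdvd
      rw [card_Fi23] at hd
      have h5 : (4089470473293004800 : ℕ) = 2 ^ 18 * (17 *
        (([(3, 13), (5, 2), (7, 1), (11, 1), (13, 1), (23, 1)] : List (ℕ × ℕ)).map fun x => x.1 ^ x.2).prod) := by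
        norm_num
      rw [h5] at hd
      exact (Nat.Coprime.pow k 18 ((Nat.coprime_primes ht Nat.prime_two).2 ht2)).dvd_of_dvd_mul_left hd

theorem fi23 {G : Type*} [Group G] [Finite G] (h : Spor.IsoFi23 G) : HasSU1 G := by
  obtain ⟨e⟩ := h
  obtain ⟨p, y, hp, hp5, hy, h1, hu⟩ := fi23_aux
  refine ⟨p, e.symm y, hp, hp5, by rw [MulEquiv.orderOf_eq, hy], ?_, hu.congr e.symm⟩
  rwa [Nat.card_congr e.toEquiv]

end Cfsg.Agent.H465.SpFi23
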