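import Cfsg.Agent.H465.OENormal
import Cfsg.Agent.AutOrth.Final
import Cfsg.Agent.ClassicalGeometry.TrialityIndex

/-!
# Similitudes and automorphisms of `PΩ⁺₈` (helper465)
-/

set_option autoImplicit false
set_option linter.unusedSectionVars false

namespace Cfsg.Agent.H465.OEight

open Module QuadraticMap Cfsg.Agent.LieClassical.OrthCore Cfsg.Agent.LieClassical.OrthTrans
  Cfsg.Agent.ClassicalGeometry.OrthAut1 Cfsg.Agent.LieClassical.QuadForms Cfsg.Agent.ClassicalGeometry.TrialityOct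
  Cfsg.Agent.ClassicalGeometry.Triality Cfsg.Agent.ClassicalGeometry.OrthSemi Cfsg.Agent.H198.TriAut

universe u

variable {F : Type u} [Field F]

theorem sim_one : Sim (1 : V8 F ≃ₗ[F] V8 F) := ⟨1, one_ne_zero, fun v => by rw [one_mul]; rfl⟩

theorem Sim.mul {a b : V8 F ≃ₗ[F] V8 F} (ha : Sim a) (hb : Sim b) : Sim (a * b) := by
  obtain ⟨c, hc, h⟩ := ha
  obtain ⟨d, hd, h'⟩ := hb
  refine ⟨c * d, mul_ne_zero hc hd, fun v => ?_⟩
  show plusForm 4 F (a (b v)) = _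
  rw [h, h', mul_assoc]

theorem Sim.inv {a : V8 F ≃ₗ[F] V8 F} (ha : Sim a) : Sim a⁻¹ := by
  obtain ⟨c, hc, h⟩ := ha
  refine ⟨c⁻¹, inv_ne_zero hc, fun v => ?_⟩
  have h1 := h (a⁻¹ v)
  have h2 : a (a⁻¹ v) = v := a.apply_symm_apply v
  rw [h2] at h1
  rw [h1, inv_mul_cancel_left₀ hc]

/-- the group of similitudes -/
def SG (F : Type u) [Field F] : Subgroup (V8 F ≃ₗ[F] V8 F) where
  carrier := {b | Sim b}
  mul_mem' ha hb := Sim.mul ha hb
  one_mem' := sim_one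
  inv_mem' ha := Sim.inv ha

theorem mem_SG {b : V8 F ≃ₗ[F] V8 F} : b ∈ SG F ↔ Sim b := Iff.rfl

theorem sim_of_O {b : V8 F ≃ₗ[F] V8 F} (hb : b ∈ O (plusForm 4 F)) : Sim b :=
  ⟨1, one_ne_zero, fun v => by rw [one_mul]; exact hb v⟩

theorem sim_of_E {b : V8 F ≃ₗ[F] V8 F} (hb : b ∈ E (plusForm 4 F)) : Sim b := sim_of_O (E_le_O hb)

theorem E_le_SG : E (plusForm 4 F) ≤ SG F := fun _ hb => sim_of_E hb

/-- a similitude as an element of `Gam` -/
def toGam : SG F →* Gam (plusForm 4 F) where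
  toFun b := ⟨(b : V8 F ≃ₗ[F] V8 F).toEquiv, by
    obtain ⟨c, hc, h⟩ := b.2
    exact ⟨RingEquiv.refl F, c, hc, fun u v => map_add (b : V8 F ≃ₗ[F] V8 F) u v,
      fun a v => map_smul (b : V8 F ≃ₗ[F] V8 F) a v, h⟩⟩
  map_one' := rfl
  map_mul' _ _ := rfl

theorem toGam_apply (b : SG F) (v : V8 F) : (toGam b).1 v = (b : V8 F ≃ₗ[F] V8 F) v := rfl

theorem toGam_injective : Function.Injective (toGam (F := F)) := by
  intro a b h
  apply Subtype.ext
  ext1 v
  rw [← toGam_apply, h, toGam_apply]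

/-- the automorphism of `P8 F` induced by a similitude -/
def psi : SG F →* MulAut (P8 F) := (Psi (plusForm 4 F)).comp toGam

theorem conj_mem_E (b : SG F) {h : V8 F ≃ₗ[F] V8 F} (hh : h ∈ E (plusForm 4 F)) :
    (b : V8 F ≃ₗ[F] V8 F) * h * (b : V8 F ≃ₗ[F] V8 F)⁻¹ ∈ E (plusForm 4 F) := conjLin_mem_E (toGam b) hh

theorem psi_mk (b : SG F) (h : ↥(E (plusForm 4 F))) :
    psi b (h : P8 F) = ((⟨b.1 * h.1 * b.1⁻¹, conj_mem_E b h.2⟩ : ↥(E (plusForm 4 F))) : P8 F) := rfl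

theorem psi_of_E (g : ↥(E (plusForm 4 F))) : psi ⟨g.1, E_le_SG g.2⟩ = MulAut.conj (g : P8 F) := by
  ext k
  obtain ⟨k, rfl⟩ := QuotientGroup.mk_surjective k
  rw [psi_mk]
  rfl

theorem exists_scalar {b : SG F} (hG : Good (plusForm 4 F)) (h : psi b = 1) : ∃ a : F, ∀ v, b.1 v = a • v := by
  have h1 : toGam b ∈ (Psi (plusForm 4 F)).ker := h
  rw [ker_Psi hG] at h1
  obtain ⟨a, ha⟩ := h1
  refine ⟨a, fun v => ?_⟩
  rw [← toGam_apply, ← ha]
  rfl

/-- over a prime field -/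
theorem ringEquiv_apply [Fintype F] (hq : (Fintype.card F).Prime) (σ : F ≃+* F) (a : F) : σ a = a := by
  have : Fact (Fintype.card F).Prime := ⟨hq⟩
  obtain ⟨b, rfl⟩ := (ZMod.ringEquivOfPrime F hq rfl).surjective a
  have h1 : (σ : F →+* F).comp (ZMod.ringEquivOfPrime F hq rfl : ZMod (Fintype.card F) →+* F) =
      (ZMod.ringEquivOfPrime F hq rfl : ZMod (Fintype.card F) →+* F) := Subsingleton.elim _ _
  exact RingHom.congr_fun h1 b

theorem toGam_surjective [Fintype F] (hq : (Fintype.card F).Prime) : Function.Surjective (toGam (F := F)) := by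
  rintro ⟨m, σ, c, hm⟩
  let b : V8 F ≃ₗ[F] V8 F :=
    { toFun := m
      invFun := m.symm
      map_add' := hm.add
      map_smul' := fun a v => by
        rw [hm.smul, ringEquiv_apply hq σ a]
        rfl
      left_inv := m.left_inv
      right_inv := m.right_inv }
  have hb : Sim b := ⟨c, hm.ne, fun v => by
    have h1 := hm.form v
    rw [ringEquiv_apply hq σ] at h1
    exact h1⟩
  refine ⟨⟨b, hb⟩, ?_⟩
  apply Subtype.ext
  ext1 v
  rfl

theorem range_psi [Fintype F] (hq : (Fintype.card F).Prime) : (psi (F := F)).range = (Psi (plusForm 4 F)).range := by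
  apply le_antisymm
  · rintro _ ⟨b, rfl⟩
    exact ⟨toGam b, rfl⟩
  · rintro _ ⟨m, rfl⟩
    obtain ⟨b, rfl⟩ := toGam_surjective hq m
    exact ⟨b, rfl⟩

theorem card_dvd_Gam {M : Subgroup (V8 F ≃ₗ[F] V8 F)} (hM : ∀ m ∈ M, Sim m) :
    Nat.card M ∣ Nat.card (Gam (plusForm 4 F)) :=
  Subgroup.card_dvd_of_injective (toGam.comp (Subgroup.inclusion (K := SG F) hM))
    (toGam_injective.comp (Subgroup.inclusion_injective _))

theorem finite_equiv [Finite F] : Finite (V8 F ≃ₗ[F] V8 F) :=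
  Finite.of_injective (fun g => (g : V8 F → V8 F)) DFunLike.coe_injective

theorem solvable_of {M : Subgroup (V8 F ≃ₗ[F] V8 F)} (hG : Good (plusForm 4 F)) (hM : ∀ m ∈ M, Sim m)
    {H : Subgroup (MulAut (P8 F))} (hH : Group.IsSolvable H) (hMH : ∀ (m : V8 F ≃ₗ[F] V8 F) (hm : m ∈ M),
      psi ⟨m, hM m hm⟩ ∈ H) : Group.IsSolvable M := by
  let f : M →* H := ((psi (F := F)).comp (Subgroup.inclusion (K := SG F) hM)).codRestrict H (fun m => hMH m.1 m.2)
  have hcomm : ∀ a b : f.ker, a * b = b * a := by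
    intro a b
    have ha : psi ⟨a.1.1, hM _ a.1.2⟩ = 1 := congrArg (Subtype.val : H → MulAut (P8 F)) a.2
    have hb : psi ⟨b.1.1, hM _ b.1.2⟩ = 1 := congrArg (Subtype.val : H → MulAut (P8 F)) b.2
    obtain ⟨s, hs⟩ := exists_scalar hG ha
    obtain ⟨t, ht⟩ := exists_scalar hG hb
    apply Subtype.ext
    apply Subtype.ext
    ext1 v
    show a.1.1 (b.1.1 v) = b.1.1 (a.1.1 v)
    rw [hs, hs, ht, ht, smul_comm]
  have hker : Group.IsSolvable f.ker := Group.isSolvable_of_comm hcomm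
  exact Group.isSolvable_of_ker_le_range (f.ker.subtype) f (by rw [Subgroup.range_subtype])

theorem mapHom_eq_im (b : V8 F ≃ₗ[F] V8 F) (S : Submodule F (V8 F)) : mapHom b S = im b S := rfl

theorem im_mul (a b : V8 F ≃ₗ[F] V8 F) (S : Submodule F (V8 F)) : im (a * b) S = im a (im b S) := by
  rw [← mapHom_eq_im, map_mul]
  rfl

theorem im_one (S : Submodule F (V8 F)) : im (1 : V8 F ≃ₗ[F] V8 F) S = S := Submodule.map_id S

theorem im_inv_im (a : V8 F ≃ₗ[F] V8 F) (S : Submodule F (V8 F)) : im a⁻¹ (im a S) = S := by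
  rw [← im_mul, inv_mul_cancel, im_one]

theorem im_im_inv (a : V8 F ≃ₗ[F] V8 F) (S : Submodule F (V8 F)) : im a (im a⁻¹ S) = S := by
  rw [← im_mul, mul_inv_cancel, im_one]

theorem map_stab (hG : Good (plusForm 4 F)) (b : SG F) (S : Submodule F (V8 F)) :
    (stab hG S).map (psi b).toMonoidHom = stab hG (im b.1 S) := by
  have key : ∀ (b : SG F) (S : Submodule F (V8 F)) (k : P8 F), k ∈ stab hG S → psi b k ∈ stab hG (im b.1 S) := by
    intro b S k hk
    obtain ⟨k, rfl⟩ := QuotientGroup.mk_surjective k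
    rw [mem_stab] at hk
    have hk' : im k.1 S = S := hk
    rw [psi_mk, mem_stab, pact_mk]
    show im (b.1 * k.1 * b.1⁻¹) (im b.1 S) = im b.1 S
    rw [im_mul, im_mul, im_inv_im, hk']
  apply le_antisymm
  · rintro _ ⟨k, hk, rfl⟩
    exact key b S k hk
  · intro k hk
    have h1 := key b⁻¹ (im b.1 S) k hk
    have h2 : im (b⁻¹ : SG F).1 (im b.1 S) = S := im_inv_im b.1 S
    rw [h2] at h1
    refine ⟨psi b⁻¹ k, h1, ?_⟩
    show psi b (psi b⁻¹ k) = k
    rw [← MulAut.mul_apply, ← map_mul, mul_inv_cancel, map_one]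
    rfl

end Cfsg.Agent.H465.OEight
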