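import Cfsg.Agent.H465.PiBSFour
import Cfsg.Agent.H465.PiBSSporB
import Cfsg.Agent.H609.Inv.MThirC
import Cfsg.Agent.H70.MSeven
import Cfsg.Agent.H131.T5M13
import Cfsg.Agent.NotCT.Orders

/-!
# The Monster and the Suzuki groups (helper465, for S3876)

* `seven_thirteen` : an element of order 7 commuting with a conjugate of `z` commutes with no element of order 13;
* `no_seven` : no element of order 7 commutes with an element of order 13 which is central in a Sylow 13-subgroup;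
* `no_five` : `5 ^ 6` does not divide `|C(y)|`, `y` of order 41.
-/

set_option autoImplicit false
set_option maxRecDepth 100000
set_option linter.unusedSectionVars false
set_option linter.style.haveILetI false

namespace Cfsg.Agent.H465.SporB.Mon

open Cfsg Cfsg.Agent.MonsterX Cfsg.Agent.MonsterX.InstData Cfsg.Agent.MonsterX.MainPack Cfsg.Agent.MonsterU
open Cfsg.Agent.MonsterP Cfsg.Agent.MonsterN Cfsg.Agent.LThreeMB
open Cfsg.Agent.MonsterX.MainBasic Cfsg.Agent.MonsterX.MainSimple Cfsg.Agent.MonsterX.Model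
open Cfsg.Agent.MonsterU.Lam2 Cfsg.Agent.MonsterU.TwoCls
open Cfsg.Agent.BpSpor.MBigModel
open Cfsg.Agent.H199.NSmMon
open Cfsg.Spor (Co1)
open Subgroup

/-- **order 7, commuting with a conjugate of `z`** -/
theorem seven_thirteen {x : MG} (hx : orderOf x = 7) (he : Ev x) :
    ¬ 13 ∣ Nat.card ↥(centralizer ({x} : Set MG)) := by
  have := finite
  have : Fact (Nat.Prime 13) := ⟨by norm_num⟩
  have : Fact (Nat.Prime 5) := ⟨Nat.prime_five⟩
  have : Fact (Nat.Prime 7) := ⟨by norm_num⟩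
  obtain ⟨x', hx', hc⟩ := exists_in hx he
  rw [← hc]
  have hxo : orderOf (x' : MG) = 7 := by rw [Subgroup.orderOf_coe, hx']
  rcases CpAutMSeven.Ranks.hranks (pi x') (MFive.orderOf_pi chart (by norm_num) (by decide) hx') with hfr | hfr
  · have hx7 : x' ^ 7 = 1 := by rw [← hx', pow_orderOf_eq_one]
    obtain ⟨hs, -, hcx⟩ := Cfsg.Agent.H961.SevX.xx_facts (MFive.orderOf_pi chart (by norm_num) (by decide) hx') hfr
    have hz := BpRankZero.Seven.only_zD KDone.lft LThreeB.Row.cent hx7 hfr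
    have h4 : 4 ∣ Nat.card ↥(centralizer ({zD x'} : Set ↥(centralizer ({(x' : MG)} : Set MG)))) := by
      refine Dvd.dvd.trans (by norm_num : 4 ∣ 2520) ?_
      rw [← hcx]
      exact Subgroup.card_dvd_of_surjective _ (MFive.toXX_surj chart (by norm_num) (by decide) hx7)
    obtain ⟨k, hk⟩ := H70.MSeven.exists_sqrt (z := (⟨zD x', mem_centralizer_singleton_iff.2 rfl⟩ :
      ↥(centralizer ({zD x'} : Set ↥(centralizer ({(x' : MG)} : Set MG)))))) (by
        intro t ht
        rcases hz (t : ↥(centralizer ({(x' : MG)} : Set MG))) (congrArg Subtype.val ht)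
          (mem_centralizer_singleton_iff.1 t.2) with h | h
        · exact Or.inl (Subtype.ext h)
        · exact Or.inr (Subtype.ext h)) h4
    refine MThirteen.not_dvd_zero (r := 7) (p := 13) (q := 5) (m := 3) (by norm_num) (by decide) (by norm_num)
      (by norm_num) (by norm_num) ?_ ?_ chart hx' hfr ?_ hs ?_ ?_ ?_ ?_
    · intro i hi1 hi3
      interval_cases i <;> norm_num
    · rw [card_M]; norm_num
    · intro d hd hcd
      have h1 := hz ⟨d * zz * d⁻¹, mem_centralizer_singleton_iff.2 (by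
        have h2 : (x' : MG) * zz = zz * x' := mem_centralizer_singleton_iff.1 x'.2
        calc d * zz * d⁻¹ * (x' : MG) = d * zz * (d⁻¹ * (x' * d)) * d⁻¹ := by group
          _ = d * zz * (d⁻¹ * (d * x')) * d⁻¹ := by rw [hd]
          _ = d * (zz * x') * d⁻¹ := by group
          _ = d * (x' * zz) * d⁻¹ := by rw [h2]
          _ = (d * x') * zz * d⁻¹ := by group
          _ = (x' * d) * zz * d⁻¹ := by rw [hd]
          _ = (x' : MG) * (d * zz * d⁻¹) := by group)⟩
        (Subtype.ext (by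
          show d * zz * d⁻¹ * (d * zz * d⁻¹) = 1
          calc d * zz * d⁻¹ * (d * zz * d⁻¹) = d * (zz * zz) * d⁻¹ := by group
            _ = 1 := by rw [zz_sq]; group)) (Subtype.ext hcd)
      rcases h1 with h1 | h1
      · exfalso
        have h2 : d * zz * d⁻¹ = 1 := congrArg Subtype.val h1
        rw [conj_eq_one_iff] at h2
        exact zz_ne h2
      · exact congrArg Subtype.val h1
    · rw [hcx]; decide
    · rw [hcx]; norm_num
    · rw [hcx]; norm_num
    · refine ⟨((k : ↥(centralizer ({(x' : MG)} : Set MG))) : MG), ?_, ?_⟩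
      · exact mem_centralizer_singleton_iff.1 (k : ↥(centralizer ({(x' : MG)} : Set MG))).2
      · have h1 := congrArg Subtype.val hk
        exact congrArg Subtype.val h1
  · obtain ⟨e⟩ := CpAutMSeven.ZeroComps.heSix x' hx' hfr
    rw [card_XX, hxo, Nat.card_congr e.toEquiv, Cfsg.Agent.S1695.result.2]
    norm_num

/-- an element of order 7 commuting with an involution and an element of order 13 -/
theorem false_of_comm {x y w : MG} (hx : orderOf x = 13) (hy : orderOf y = 7) (hww : w * w = 1) (hw1 : w ≠ 1)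
    (hwy : w * y = y * w) (hyx : y * x = x * y) : False := by
  have := finite
  have hwo : orderOf w = 2 := orderOf_eq_prime (by rw [pow_two, hww]) hw1
  have h2 : 2 ∣ Nat.card ↥(centralizer ({y} : Set MG)) := by
    rw [← hwo]
    exact Subgroup.orderOf_dvd_natCard _ (mem_centralizer_singleton_iff.2 hwy)
  refine seven_thirteen hy (MSevenT.hex7 y hy h2) ?_
  rw [← hx]
  exact Subgroup.orderOf_dvd_natCard _ (mem_centralizer_singleton_iff.2 hyx.symm)

open Cfsg.Agent.H131.T5M13 in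
/-- **type B** -/
theorem no_seven_x {x z t : MG} {Q : Subgroup MG} (h : D x z t Q) : ¬ 7 ∣ Nat.card ↥(centralizer ({x} : Set MG)) := by
  classical
  intro h7
  have := finite
  haveI : Fact (Nat.Prime 2) := ⟨Nat.prime_two⟩
  have hzz : z * z = 1 := by rw [← pow_two, ← h.hyp.hz, pow_orderOf_eq_one]
  have hz1 : z ≠ 1 := by
    intro h1
    have h2 := h.hyp.hz
    rw [h1, orderOf_one] at h2
    norm_num at h2
  -- the normalizer of `⟨x⟩`
  let M1 : Subgroup MG := normalizer ((zpowers x : Subgroup MG) : Set MG)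
  have hCM : centralizer ({x} : Set MG) ≤ M1 := by
    intro g hg
    rw [mem_centralizer_singleton_iff] at hg
    refine mem_normalizer_iff.2 fun c => ?_
    have key : ∀ {d : MG}, d ∈ zpowers x → g * d * g⁻¹ = d := by
      rintro d ⟨i, rfl⟩
      exact mul_inv_eq_iff_eq_mul.2 ((show Commute g x from hg).zpow_right i).eq
    constructor
    · intro hc
      rw [key hc]
      exact hc
    · intro hc
      have h1 := key hc
      have h2 : g * c * g⁻¹ = c := by
        have h3 : g * (g * c * g⁻¹) * g⁻¹ = g * c * g⁻¹ := h1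
        exact mul_left_cancel (mul_right_cancel h3)
      rwa [h2] at hc
  let x' : ↥M1 := ⟨x, le_normalizer (mem_zpowers x)⟩
  have hxn : (zpowers x').Normal := by
    refine ⟨fun c hc g => ?_⟩
    obtain ⟨i, rfl⟩ := mem_zpowers_iff.1 hc
    obtain ⟨j, hj⟩ := mem_zpowers_iff.1 ((mem_normalizer_iff.1 g.2 (x ^ i)).1 (zpow_mem (mem_zpowers x) i))
    exact mem_zpowers_iff.2 ⟨j, Subtype.ext (by
      show x ^ j = (g : MG) * x ^ i * (g : MG)⁻¹
      exact hj)⟩
  let C : Subgroup ↥M1 := centralizer ((zpowers x' : Subgroup ↥M1) : Set ↥M1)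
  have hCn : C.Normal := Subgroup.normal_centralizer
  have hC : ∀ g : ↥M1, g ∈ C ↔ (g : MG) * x = x * g := by
    intro g
    constructor
    · intro hg
      exact (congrArg Subtype.val (mem_centralizer_iff.1 hg x' (mem_zpowers x'))).symm
    · intro hg
      rw [mem_centralizer_iff]
      rintro _ ⟨i, rfl⟩
      exact ((show Commute g x' from Subtype.ext hg).zpow_right i).eq.symm
  have hCx : ∀ g : MG, g * x = x * g → ∃ hg : g ∈ M1, (⟨g, hg⟩ : ↥M1) ∈ C := fun g hg =>
    ⟨hCM (mem_centralizer_singleton_iff.2 hg), (hC _).2 hg⟩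
  -- the odd core
  let O : Subgroup ↥C := pPrimeCore 2 ↥C
  have hOodd : Odd (Nat.card ↥O) := by
    have h1 : (Nat.card ↥O).Coprime 2 := Lib.Cores.pPrimeCore_coprime 2
    exact Nat.Coprime.odd_of_right h1
  haveI hOc : O.Characteristic := Lib.Cores.pPrimeCore_characteristic 2
  let N : Subgroup ↥M1 := O.map C.subtype
  haveI hNn : N.Normal := ConjAct.normal_of_characteristic_of_normal
  have hNodd : Odd (Nat.card ↥N) := by
    rw [show Nat.card ↥N = Nat.card ↥O from card_map_of_injective C.subtype_injective]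
    exact hOodd
  have hNC : N ≤ C := map_subtype_le _
  -- `C = O C(z)`
  obtain ⟨hzM, hzC⟩ := hCx z h.hyp.zx
  let zC : ↥C := ⟨⟨z, hzM⟩, hzC⟩
  have hzCo : orderOf zC = 2 := by rw [← Subgroup.orderOf_coe, Subgroup.orderOf_mk, h.hyp.hz]
  obtain ⟨N0, hN0, hodd0, hsup⟩ := CpAut.TwoCov.exists_odd_sup (X := ↥C) (t := zC) hzCo (fun s hss hsz => by
    have h1 : ((s : ↥M1) : MG) * x = x * ((s : ↥M1) : MG) := (hC s).1 s.2
    have h2 : ((s : ↥M1) : MG) * z = z * ((s : ↥M1) : MG) := congrArg (fun g : ↥C => ((g : ↥M1) : MG)) hsz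
    have h3 : ((s : ↥M1) : MG) * ((s : ↥M1) : MG) = 1 := congrArg (fun g : ↥C => ((g : ↥M1) : MG)) hss
    rcases h.hyp.only _ h1 h2 h3 with h4 | h4
    · exact Or.inl (Subtype.ext (Subtype.ext h4))
    · exact Or.inr (Subtype.ext (Subtype.ext h4)))
  have hN0O : N0 ≤ O := Lib.Cores.le_pPrimeCore hN0 (Nat.Coprime.symm (Nat.coprime_two_left.2 hodd0))
  have hCcard : Nat.card ↥C = Nat.card ↥(centralizer ({x} : Set MG)) := by
    refine Nat.card_congr ⟨fun g => ⟨g, mem_centralizer_singleton_iff.2 ((hC g).1 g.2)⟩,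
      fun g => ⟨⟨g, hCM g.2⟩, (hC _).2 (mem_centralizer_singleton_iff.1 g.2)⟩, fun g => rfl, fun g => rfl⟩
  have h7C : 7 ∣ Nat.card ↥C := by rw [hCcard]; exact h7
  haveI : Fact (Nat.Prime 7) := ⟨by norm_num⟩
  -- the case `7 ∣ |O|`
  by_cases h7O : 7 ∣ Nat.card ↥O
  · -- the action on `⟨x⟩`
    obtain ⟨c, hc⟩ := h.four
    have hx13 : x ^ 13 = 1 := by rw [← h.hyp.hx, pow_orderOf_eq_one]
    have hcM : c ∈ M1 := by
      refine mem_normalizer_iff.2 fun g => ?_
      have hle : (zpowers x).map (MulAut.conj c).toMonoidHom = zpowers x := by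
        refine Subgroup.eq_of_le_of_card_ge ?_ ?_
        · rintro _ ⟨_, ⟨i, rfl⟩, rfl⟩
          show c * x ^ i * c⁻¹ ∈ zpowers x
          rw [← conj_zpow, hc]
          exact zpow_mem (pow_mem (mem_zpowers x) 5) i
        · rw [card_map_of_injective (MulAut.conj c).injective]
      constructor
      · intro hg
        rw [← hle]
        exact ⟨g, hg, rfl⟩
      · intro hg
        rw [← hle] at hg
        obtain ⟨g', hg', hgg⟩ := hg
        have h1 : c * g' * c⁻¹ = c * g * c⁻¹ := hgg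
        rwa [mul_left_cancel (mul_right_cancel h1)] at hg'
    -- the 2-part of `c`
    obtain ⟨k, m, hmo, hkm⟩ := Nat.exists_eq_two_pow_mul_odd (orderOf_pos c).ne'
    have hcp : ∀ n : ℕ, c ^ n * x * (c ^ n)⁻¹ = x ^ (5 ^ n) := by
      intro n
      induction n with
      | zero => rw [pow_zero, pow_zero, pow_one, one_mul, inv_one, mul_one]
      | succ n ih =>
        calc c ^ (n + 1) * x * (c ^ (n + 1))⁻¹ = c * (c ^ n * x * (c ^ n)⁻¹) * c⁻¹ := by
              rw [pow_succ' c n]; group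
          _ = (c * x * c⁻¹) ^ 5 ^ n := by rw [ih, conj_pow]
          _ = x ^ (5 ^ (n + 1)) := by rw [hc, ← pow_mul, pow_succ' 5 n]
    let c2 : ↥M1 := ⟨c ^ m, pow_mem hcM m⟩
    have hc2 : IsPGroup 2 ↥(zpowers c2) := by
      refine IsPGroup.of_card (n := k) ?_
      rw [Nat.card_zpowers, ← Subgroup.orderOf_coe]
      show orderOf (c ^ m) = 2 ^ k
      rw [orderOf_pow_of_dvd hmo.pos.ne' (hkm ▸ dvd_mul_left m (2 ^ k)), hkm, Nat.mul_div_cancel _ hmo.pos]
    obtain ⟨W, hW⟩ := hc2.exists_le_sylow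
    -- `W` is not abelian
    have hQ : ∀ q ∈ Q, ∃ hq : q ∈ M1, (⟨q, hq⟩ : ↥M1) ∈ C := fun q hq => hCx q (h.hyp.qx q hq)
    have hQM : Q ≤ M1 := fun q hq => (hQ q hq).1
    have hQp : IsPGroup 2 ↥(Q.subgroupOf M1) := h.hyp.q2.comap_of_injective M1.subtype M1.subtype_injective
    obtain ⟨W', hW'⟩ := hQp.exists_le_sylow
    obtain ⟨g, hg⟩ := MulAction.exists_smul_eq ↥M1 W' W
    have hconj : ∀ q ∈ (W' : Subgroup ↥M1), g * q * g⁻¹ ∈ (W : Subgroup ↥M1) := by
      intro q hq
      rw [← hg]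
      exact Subgroup.smul_mem_pointwise_smul q (MulAut.conj g) _ hq
    have hnc : ∃ a b : ↥(W : Subgroup ↥M1), a * b ≠ b * a := by
      obtain ⟨a, ha, b, hb, hab⟩ := h.hyp.nc
      have ha' := hconj ⟨a, hQM ha⟩ (hW' (mem_subgroupOf.2 ha))
      have hb' := hconj ⟨b, hQM hb⟩ (hW' (mem_subgroupOf.2 hb))
      refine ⟨⟨_, ha'⟩, ⟨_, hb'⟩, fun heq => hab ?_⟩
      have h1 : g * (⟨a, hQM ha⟩ : ↥M1) * g⁻¹ * (g * (⟨b, hQM hb⟩ : ↥M1) * g⁻¹) =
        g * (⟨b, hQM hb⟩ : ↥M1) * g⁻¹ * (g * (⟨a, hQM ha⟩ : ↥M1) * g⁻¹) := congrArg Subtype.val heq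
      have h2 : (⟨a, hQM ha⟩ : ↥M1) * ⟨b, hQM hb⟩ = ⟨b, hQM hb⟩ * ⟨a, hQM ha⟩ := by
        have h3 : g * ((⟨a, hQM ha⟩ : ↥M1) * ⟨b, hQM hb⟩) * g⁻¹ = g * ((⟨b, hQM hb⟩ : ↥M1) * ⟨a, hQM ha⟩) * g⁻¹ := by
          calc _ = g * (⟨a, hQM ha⟩ : ↥M1) * g⁻¹ * (g * (⟨b, hQM hb⟩ : ↥M1) * g⁻¹) := by group
            _ = g * (⟨b, hQM hb⟩ : ↥M1) * g⁻¹ * (g * (⟨a, hQM ha⟩ : ↥M1) * g⁻¹) := h1
            _ = _ := by group
        exact mul_left_cancel (mul_right_cancel h3)
      exact congrArg Subtype.val h2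
    -- the homomorphism
    haveI := hxn
    let f : ↥M1 →* MulAut ↥(zpowers x') := MulAut.conjNormal
    have hAc : ∀ a b : MulAut ↥(zpowers x'), a * b = b * a := by
      intro a b
      apply (IsCyclic.mulAutMulEquiv ↥(zpowers x')).injective
      rw [map_mul, map_mul, mul_comm]
    have hfc : (f.comp (W : Subgroup ↥M1).subtype) ⟨c2, hW (mem_zpowers c2)⟩ *
        (f.comp (W : Subgroup ↥M1).subtype) ⟨c2, hW (mem_zpowers c2)⟩ ≠ 1 := by
      intro h1
      rw [← map_mul] at h1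
      have h2 : f (c2 * c2) ⟨x', mem_zpowers x'⟩ = ⟨x', mem_zpowers x'⟩ := by
        have h3 : f (c2 * c2) = 1 := h1
        rw [h3]; rfl
      have h3 : (c ^ m * c ^ m) * x * (c ^ m * c ^ m)⁻¹ = x := by
        have h4 := congrArg (fun g : ↥(zpowers x') => ((g : ↥M1) : MG)) h2
        exact h4
      rw [← pow_add, hcp] at h3
      have h4 : x ^ (5 ^ (m + m)) = x ^ 1 := by rw [h3, pow_one]
      rw [pow_eq_pow_iff_modEq, h.hyp.hx] at h4
      have h5 : 5 ^ (m + m) ≡ 12 [MOD 13] := by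
        obtain ⟨i, rfl⟩ := hmo
        have h6 : 5 ^ (2 * i + 1 + (2 * i + 1)) = (5 ^ 4) ^ i * 25 := by
          rw [← pow_mul, show 25 = 5 ^ 2 by norm_num, ← pow_add]
          congr 1
          ring
        rw [h6]
        have h7 : (5 ^ 4) ^ i ≡ 1 ^ i [MOD 13] := Nat.ModEq.pow i (by decide)
        rw [one_pow] at h7
        exact (h7.mul_right 25).trans (by decide)
      exact absurd (h5.symm.trans h4) (by decide)
    obtain ⟨u, v, hu, hv, huv, hcuv⟩ := exists_four W.isPGroup' hnc hAc (f.comp (W : Subgroup ↥M1).subtype) hfc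
    have hne : ∀ {u : ↥(W : Subgroup ↥M1)}, orderOf u = 2 → (u : ↥M1) * u = 1 ∧ (u : ↥M1) ≠ 1 := by
      intro u hu
      have h1 : orderOf (u : ↥M1) = 2 := by rw [Subgroup.orderOf_coe, hu]
      have h3 := pow_orderOf_eq_one (u : ↥M1)
      rw [h1, pow_two] at h3
      refine ⟨h3, fun h2 => ?_⟩
      rw [h2, orderOf_one] at h1
      norm_num at h1
    have hnN : ∀ u : ↥M1, u ∈ normalizer (N : Set ↥M1) := fun u => by
      rw [normalizer_eq_top_iff.2 hNn]; exact mem_top u
    obtain ⟨w, y, hww, hw1, hyN, hyo, hwy⟩ := exists_comm_four (p := 7) (by norm_num) hNodd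
      (by rw [show Nat.card ↥N = Nat.card ↥O from card_map_of_injective C.subtype_injective]; exact h7O)
      (hne hu).1 (hne hv).1 (congrArg Subtype.val hcuv) (fun h1 => huv (Subtype.ext h1)) (hnN _) (hnN _)
      (hne hu).2 (hne hv).2
    exact false_of_comm (x := x) (y := y) (w := w) h.hyp.hx (by rw [Subgroup.orderOf_coe, hyo])
      (congrArg Subtype.val hww) (fun h1 => hw1 (Subtype.ext h1)) (congrArg Subtype.val hwy) ((hC y).1 (hNC hyN))
  · -- an element of order 7 commuting with `z`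
    have h1 : N0.index ∣ Nat.card ↥(centralizer ({zC} : Set ↥C)) := by
      have h2 : N0.relIndex (centralizer ({zC} : Set ↥C)) = N0.index := by
        rw [← Subgroup.relIndex_sup_right (H := centralizer ({zC} : Set ↥C)) (K := N0), sup_comm, hsup,
          Subgroup.relIndex_top_right]
      rw [← h2]
      exact Subgroup.relIndex_dvd_card _ _
    have h2 : 7 ∣ Nat.card ↥(centralizer ({zC} : Set ↥C)) := by
      rw [← N0.card_mul_index] at h7C
      rcases (Nat.Prime.dvd_mul (by norm_num)).1 h7C with h3 | h3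
      · exact absurd (h3.trans (card_dvd_of_le hN0O)) h7O
      · exact h3.trans h1
    obtain ⟨y, hy⟩ := exists_prime_orderOf_dvd_card' (G := ↥(centralizer ({zC} : Set ↥C))) 7 h2
    have hyz : z * (((y : ↥C) : ↥M1) : MG) = (((y : ↥C) : ↥M1) : MG) * z :=
      (congrArg (fun g : ↥C => ((g : ↥M1) : MG)) (mem_centralizer_singleton_iff.1 y.2)).symm
    exact false_of_comm (x := x) (y := (((y : ↥C) : ↥M1) : MG)) (w := z) h.hyp.hx
      (by rw [Subgroup.orderOf_coe, Subgroup.orderOf_coe, Subgroup.orderOf_coe, hy]) hzz hz1 hyz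
      ((hC _).1 (y : ↥C).2)

open Cfsg.Agent.H131.T5M13 Cfsg.Agent.H131.T5Cube Cfsg.Agent.H609.Inv.Thirteen in
/-- **No element of order 7 commutes with a 13-central element of order 13.** -/
theorem no_seven {y : MG} (hy : orderOf y = 13) (hi : ¬ 13 ∣ (centralizer ({y} : Set MG)).index) :
    ¬ 7 ∣ Nat.card ↥(centralizer ({y} : Set MG)) := by
  have := finite
  have h13 : Nat.Prime 13 := by norm_num
  haveI : Fact (Nat.Prime 13) := ⟨h13⟩
  obtain ⟨x, z, t, Q, hD⟩ := model_D
  obtain ⟨R, W, hr⟩ := exists_RW hD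
  by_cases hab : ∀ a ∈ R, ∀ b ∈ R, a * b = b * a
  · exact (Ab.false hD ⟨hr, hab⟩).elim
  push Not at hab
  have hcu : Cu 13 R x := ⟨hr.card, hD.hyp.hx, hr.mem, hr.cen, hab⟩
  -- a Sylow subgroup of `C(y)`
  have hd : 13 ^ 3 ∣ Nat.card ↥(centralizer ({y} : Set MG)) := by
    have h1 : 13 ^ 3 ∣ Nat.card ↥(centralizer ({y} : Set MG)) * (centralizer ({y} : Set MG)).index := by
      rw [Subgroup.card_mul_index, card_M]; norm_num
    exact (Nat.Coprime.pow_left 3 ((Nat.Prime.coprime_iff_not_dvd h13).2 hi)).dvd_of_dvd_mul_right h1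
  let y' : ↥(centralizer ({y} : Set MG)) := ⟨y, mem_centralizer_singleton_iff.2 rfl⟩
  obtain ⟨K, hK, hyK⟩ := Sylow.exists_subgroup_card_pow_prime_le 13 hd (zpowers y') (n := 1)
    (by rw [Nat.card_zpowers, ← Subgroup.orderOf_coe, pow_one]; exact hy) (by norm_num)
  set K' : Subgroup MG := K.map (centralizer ({y} : Set MG)).subtype with hK'
  have hK'c : Nat.card K' = 13 ^ 3 := by rw [hK', card_map_of_injective (subtype_injective _), hK]
  obtain ⟨g, hg⟩ := exists_conj_le hr.card hD.hyp.h4 (IsPGroup.of_card hK'c)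
  have hKR : K'.map (MulAut.conj g).toMonoidHom = R := by
    refine Subgroup.eq_of_le_of_card_ge ?_ ?_
    · rintro _ ⟨a, ha, rfl⟩
      exact hg a ha
    · rw [card_map_of_injective (MulAut.conj g).injective, hK'c, hr.card]
  have hyK' : y ∈ K' := ⟨y', hyK (mem_zpowers y'), rfl⟩
  have hcen : ∀ r ∈ R, r * (g * y * g⁻¹) = (g * y * g⁻¹) * r := by
    intro r hrR
    rw [← hKR] at hrR
    obtain ⟨a, ⟨b, hb, rfl⟩, rfl⟩ := hrR
    have h1 : (b : MG) * y = y * b := mem_centralizer_singleton_iff.1 b.2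
    show g * (b : MG) * g⁻¹ * (g * y * g⁻¹) = (g * y * g⁻¹) * (g * (b : MG) * g⁻¹)
    calc g * (b : MG) * g⁻¹ * (g * y * g⁻¹) = g * ((b : MG) * y) * g⁻¹ := by group
      _ = g * (y * b) * g⁻¹ := by rw [h1]
      _ = _ := by group
  have hmem := hcu.mem_of_central (hg y hyK') hcen
  rw [← mem_powers_iff_mem_zpowers] at hmem
  obtain ⟨i, hi⟩ := hmem
  obtain ⟨e⟩ := MFive.exists_cent_equiv h13 hy hD.hyp.hx (k := g) (i := i) hi.symm
  rw [← Nat.card_congr e.toEquiv]
  exact no_seven_x hD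

/-- **order 41** -/
theorem no_five {y : MG} (hy : orderOf y = 41) : ¬ 5 ^ 6 ∣ Nat.card ↥(centralizer ({y} : Set MG)) := by
  intro h
  have := finite
  obtain ⟨g, e, he, heN, heT⟩ := H199.NSmAbs.exists_common (p := 5) (n := 9) (a := 6) (b := 4) Nat.prime_five
    (by rw [card_M]; norm_num) (N := centralizer ({y} : Set MG)) (T := centralizer ({zz} : Set MG)) h
    (by rw [card_cent_z]; norm_num) (by norm_num)
  have hev : Ev e := by
    refine ⟨g⁻¹, ?_⟩
    have h1 := mem_centralizer_singleton_iff.1 heT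
    calc g⁻¹ * zz * g⁻¹⁻¹ * e = g⁻¹ * (zz * (g * e * g⁻¹)) * g := by group
      _ = g⁻¹ * (g * e * g⁻¹ * zz) * g := by rw [h1]
      _ = e * (g⁻¹ * zz * g⁻¹⁻¹) := by group
  have h41 : 41 ∣ Nat.card ↥(centralizer ({e} : Set MG)) := by
    rw [← hy]
    exact Subgroup.orderOf_dvd_natCard _ (mem_centralizer_singleton_iff.2 (mem_centralizer_singleton_iff.1 heN).symm)
  rcases five he hev with h1 | h1
  · rw [h1] at h41
    norm_num at h41
  · exact h1 41 (by unfold Big; simp) h41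

end Cfsg.Agent.H465.SporB.Mon
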