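import Cfsg.Agent.H465.SpArith
import Cfsg.Agent.NotCT.Orders

/-!
# Solvably unique elements of sporadic groups: the rows by arithmetic (helper465)

M11, M12, M22, M23, M24, Co3, J1, J3, J4, HN, Th, HS, O'N, Ru, Fi24', Ly, M.
-/

set_option autoImplicit false

namespace Cfsg.Agent.H465.SpRows

open Cfsg Cfsg.Agent Cfsg.Agent.H465.SU

theorem m11 {G : Type*} [Group G] [Finite G] (h : Spor.IsoM11 G) : HasSU1 G :=
  of_list (p := 11) [(2, 4), (3, 2), (5, 1)] (NotCT.Orders.m11 h) (by norm_num) (by norm_num)
    (by norm_num) (by norm_num) (by decide +kernel) (by decide +kernel) (by norm_num)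

theorem m12 {G : Type*} [Group G] [Finite G] (h : Spor.IsoM12 G) : HasSU1 G :=
  of_list (p := 11) [(2, 6), (3, 3), (5, 1)] (NotCT.Orders.m12 h) (by norm_num) (by norm_num)
    (by norm_num) (by norm_num) (by decide +kernel) (by decide +kernel) (by norm_num)

theorem m22 {G : Type*} [Group G] [Finite G] (h : Spor.IsoM22 G) : HasSU1 G :=
  of_list (p := 11) [(2, 7), (3, 2), (5, 1), (7, 1)] (NotCT.Orders.m22 h) (by norm_num) (by norm_num)
    (by norm_num) (by norm_num) (by decide +kernel) (by decide +kernel) (by norm_num)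

theorem m23 {G : Type*} [Group G] [Finite G] (h : Spor.IsoM23 G) : HasSU1 G :=
  of_list (p := 23) [(2, 7), (3, 2), (5, 1), (7, 1), (11, 1)] (NotCT.Orders.m23 h) (by norm_num) (by norm_num)
    (by norm_num) (by norm_num) (by decide +kernel) (by decide +kernel) (by norm_num)

theorem m24 {G : Type*} [Group G] [Finite G] (h : Spor.IsoM24 G) : HasSU1 G :=
  of_list (p := 23) [(2, 10), (3, 3), (5, 1), (7, 1), (11, 1)] (NotCT.Orders.m24 h) (by norm_num) (by norm_num)
    (by norm_num) (by norm_num) (by decide +kernel) (by decide +kernel) (by norm_num)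

theorem co3 {G : Type*} [Group G] [Finite G] (h : Spor.IsoCo3 G) : HasSU1 G :=
  of_list (p := 23) [(2, 10), (3, 7), (5, 3), (7, 1), (11, 1)] (NotCT.Orders.co3 h) (by norm_num) (by norm_num)
    (by norm_num) (by norm_num) (by decide +kernel) (by decide +kernel) (by norm_num)

theorem j1 {G : Type*} [Group G] [Finite G] (h : Spor.IsoJ1 G) : HasSU1 G :=
  of_list (p := 19) [(2, 3), (3, 1), (5, 1), (7, 1), (11, 1)] (NotCT.Orders.j1 h) (by norm_num) (by norm_num)
    (by norm_num) (by norm_num) (by decide +kernel) (by decide +kernel) (by norm_num)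

theorem j3 {G : Type*} [Group G] [Finite G] (h : Spor.IsoJ3 G) : HasSU1 G :=
  of_list (p := 19) [(2, 7), (3, 5), (5, 1), (17, 1)] (NotCT.Orders.j3 h) (by norm_num) (by norm_num)
    (by norm_num) (by norm_num) (by decide +kernel) (by decide +kernel) (by norm_num)

theorem hn {G : Type*} [Group G] [Finite G] (h : Spor.IsoHN G) : HasSU1 G :=
  of_list (p := 19) [(2, 14), (3, 6), (5, 6), (7, 1), (11, 1)] (NotCT.Orders.hn h) (by norm_num) (by norm_num)
    (by norm_num) (by norm_num) (by decide +kernel) (by decide +kernel) (by norm_num)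

theorem th {G : Type*} [Group G] [Finite G] (h : Spor.IsoTh G) : HasSU1 G :=
  of_list (p := 19) [(2, 15), (3, 10), (5, 3), (7, 2), (13, 1), (31, 1)] (NotCT.Orders.th h) (by norm_num) (by norm_num)
    (by norm_num) (by norm_num) (by decide +kernel) (by decide +kernel) (by norm_num)

theorem j4 {G : Type*} [Group G] [Finite G] (h : Spor.IsoJ4 G) : HasSU1 G :=
  of_list (p := 37) [(2, 21), (3, 3), (5, 1), (7, 1), (11, 3), (23, 1), (29, 1), (31, 1), (43, 1)] (NotCT.Orders.j4 h) (by norm_num) (by norm_num)
    (by norm_num) (by norm_num) (by decide +kernel) (by decide +kernel) (by norm_num)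

theorem hs {G : Type*} [Group G] [Finite G] (h : Spor.IsoHS G) : HasSU1 G :=
  of_list (p := 11) [(2, 9), (3, 2), (5, 3), (7, 1)] (NotCT.Orders.hs h) (by norm_num) (by norm_num)
    (by norm_num) (by norm_num) (by decide +kernel) (by decide +kernel) (by norm_num)

theorem on {G : Type*} [Group G] [Finite G] (h : Spor.IsoON G) : HasSU1 G :=
  of_list (p := 11) [(2, 9), (3, 4), (5, 1), (7, 3), (19, 1), (31, 1)] (NotCT.Orders.on h) (by norm_num) (by norm_num)
    (by norm_num) (by norm_num) (by decide +kernel) (by decide +kernel) (by norm_num)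

theorem ru {G : Type*} [Group G] [Finite G] (h : Spor.IsoRu G) : HasSU1 G :=
  of_list (p := 29) [(2, 14), (3, 3), (5, 3), (7, 1), (13, 1)] (NotCT.Orders.ru h) (by norm_num) (by norm_num)
    (by norm_num) (by norm_num) (by decide +kernel) (by decide +kernel) (by norm_num)

theorem fi24 {G : Type*} [Group G] [Finite G] (h : Spor.IsoFi24' G) : HasSU1 G :=
  of_list (p := 29) [(2, 21), (3, 16), (5, 2), (7, 3), (11, 1), (13, 1), (17, 1), (23, 1)] (NotCT.Orders.fi24 h) (by norm_num) (by norm_num)
    (by norm_num) (by norm_num) (by decide +kernel) (by decide +kernel) (by norm_num)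

theorem ly {G : Type*} [Group G] [Finite G] (h : Spor.IsoLy G) : HasSU1 G :=
  of_list (p := 67) [(2, 8), (3, 7), (5, 6), (7, 1), (11, 1), (31, 1), (37, 1)] (NotCT.Orders.ly h) (by norm_num) (by norm_num)
    (by norm_num) (by norm_num) (by decide +kernel) (by decide +kernel) (by norm_num)

theorem m {G : Type*} [Group G] [Finite G] (h : Spor.IsoM G) : HasSU1 G :=
  of_list (p := 59) [(2, 46), (3, 20), (5, 9), (7, 6), (11, 2), (13, 3), (17, 1), (19, 1), (23, 1), (29, 1), (31, 1), (41, 1), (47, 1), (71, 1)] (NotCT.Orders.m h) (by norm_num) (by norm_num)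
    (by norm_num) (by norm_num) (by decide +kernel) (by decide +kernel) (by norm_num)

end Cfsg.Agent.H465.SpRows
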