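import Mathlib

/-!
# Simultaneous eigenspaces, pairings, regular actions (helper465)

* `wsp f χ` : the simultaneous eigenspace of a family of endomorphisms; `indep_wsp`, `exists_wsp`;
* `card_mul_le` : independent subspaces of dimension at least `m`;
* `exists_lagrangian` : a finite commutative group with a nondegenerate alternating pairing has a subgroup `A` with
  `|A|² = |U|`;
* `card_dvd_of_free` : a group acting freely on a finite set.
-/

set_option autoImplicit false

namespace Cfsg.Agent.H465.Weights

open Module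

section Lin

variable {K V : Type*} [Field K] [AddCommGroup V] [Module K V]

theorem card_mul_le [FiniteDimensional K V] {κ : Type*} [Fintype κ] (W : κ → Submodule K V) (hW : iSupIndep W)
    (m : ℕ) (hm : ∀ i, m ≤ finrank K (W i)) : Fintype.card κ * m ≤ finrank K V := by
  classical
  have h1 := hW.dfinsupp_lsum_injective
  have h2 := LinearMap.finrank_le_finrank_of_injective h1
  have h3 : finrank K (DirectSum κ fun i => ↥(W i)) = ∑ i, finrank K (W i) := finrank_directSum K _
  have h4 : Fintype.card κ * m ≤ ∑ i, finrank K (W i) := by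
    have := Finset.card_nsmul_le_sum Finset.univ (fun i => finrank K (W i)) m (fun i _ => hm i)
    rwa [Finset.card_univ, smul_eq_mul] at this
  rw [← h3] at h4
  exact le_trans h4 h2

variable {ι : Type*}

/-- The simultaneous eigenspace. -/
def wsp (f : ι → End K V) (χ : ι → K) : Submodule K V := ⨅ i, (f i).eigenspace (χ i)

theorem mem_wsp {f : ι → End K V} {χ : ι → K} {v : V} : v ∈ wsp f χ ↔ ∀ i, f i v = χ i • v := by
  unfold wsp
  rw [Submodule.mem_iInf]
  exact forall_congr' fun i => by rw [End.mem_eigenspace_iff]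

theorem indep_wsp {f : ι → End K V} (hc : ∀ i j, Commute (f i) (f j)) : iSupIndep (wsp f) := by
  refine (End.independent_iInf_maxGenEigenspace_of_forall_mapsTo f fun i j φ =>
    End.mapsTo_maxGenEigenspace_of_comm (hc j i) φ).mono fun χ => ?_
  exact iInf_mono fun i => (End.eigenspace_le_maxGenEigenspace)

theorem exists_wsp [IsAlgClosed K] [FiniteDimensional K V] {f : ι → End K V} (hc : ∀ i j, Commute (f i) (f j)) :
    ∀ (d : ℕ) (W : Submodule K V), finrank K W = d → W ≠ ⊥ → (∀ i, ∀ w ∈ W, f i w ∈ W) →
      ∃ χ : ι → K, ∃ v ∈ W, v ≠ 0 ∧ v ∈ wsp f χ := by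
  intro d
  induction d using Nat.strong_induction_on with
  | _ d ih =>
    intro W hd hW hinv
    by_cases hsc : ∀ i, ∃ c : K, ∀ w ∈ W, f i w = c • w
    · choose χ hχ using hsc
      obtain ⟨v, hv, hv0⟩ := W.ne_bot_iff.1 hW
      exact ⟨χ, v, hv, hv0, mem_wsp.2 fun i => hχ i v hv⟩
    · push Not at hsc
      obtain ⟨i, hi⟩ := hsc
      -- an eigenvalue of the restriction
      let g : End K W := (f i).restrict (hinv i)
      have : Nontrivial W := Submodule.nontrivial_iff_ne_bot.2 hW
      obtain ⟨μ, hμ⟩ := End.exists_eigenvalue g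
      obtain ⟨w, hw⟩ := hμ.exists_hasEigenvector
      have hw1 : f i w = μ • (w : V) := by
        have := congrArg Subtype.val (End.HasEigenvector.apply_eq_smul hw)
        simpa [g] using this
      have hw0 : (w : V) ≠ 0 := by
        intro h
        exact hw.2 (Subtype.ext h)
      let W' : Submodule K V := (f i).eigenspace μ ⊓ W
      have hW' : W' ≠ ⊥ := by
        rw [Submodule.ne_bot_iff]
        exact ⟨w, ⟨End.mem_eigenspace_iff.2 hw1, w.2⟩, hw0⟩
      have hlt : W' < W := by
        refine lt_of_le_of_ne inf_le_right ?_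
        intro h
        obtain ⟨w1, hw1, hne⟩ := hi μ
        apply hne
        have : w1 ∈ W' := by rw [h]; exact hw1
        exact End.mem_eigenspace_iff.1 this.1
      have hfr := Submodule.finrank_lt_finrank_of_lt hlt
      obtain ⟨χ, v, hv, hv0, hv1⟩ := ih (finrank K W') (by omega) W' rfl hW' (by
        intro j w hw
        refine ⟨?_, hinv j w hw.2⟩
        show f j w ∈ (f i).eigenspace μ
        rw [End.mem_eigenspace_iff]
        have h1 := End.mem_eigenspace_iff.1 hw.1
        have h2 : f i (f j w) = f j (f i w) := by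
          have := hc i j
          exact LinearMap.congr_fun this w
        rw [h2, h1, map_smul])
      exact ⟨χ, v, hv.2, hv0, hv1⟩

end Lin

/-! ### pairings -/

section Pairing

variable {K : Type*} [Field K]

theorem card_hom_le (A : Type*) [Group A] [Finite A] : Finite (A →* Kˣ) ∧ Nat.card (A →* Kˣ) ≤ Nat.card A := by
  classical
  have : Fintype A := Fintype.ofFinite A
  have h1 := linearIndependent_monoidHom A K
  have h2 : Finite (A →* K) := h1.finite
  have h3 : Nat.card (A →* K) ≤ Nat.card A := by
    have : Fintype (A →* K) := Fintype.ofFinite _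
    have h4 := h1.fintype_card_le_finrank
    rw [Module.finrank_fintype_fun_eq_card] at h4
    rwa [Nat.card_eq_fintype_card, Nat.card_eq_fintype_card]
  let φ : (A →* Kˣ) → (A →* K) := fun f => (Units.coeHom K).comp f
  have hφ : Function.Injective φ := by
    intro f g h
    ext a
    exact DFunLike.congr_fun h a
  exact ⟨Finite.of_injective φ hφ, le_trans (Nat.card_le_card_of_injective φ hφ) h3⟩

/-- A finite commutative group with a nondegenerate alternating pairing has a self-orthogonal subgroup. -/
theorem exists_lagrangian {U : Type*} [CommGroup U] [Finite U] (β : U →* (U →* Kˣ)) (halt : ∀ u, β u u = 1)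
    (hnd : ∀ u, β u = 1 → u = 1) : ∃ A : Subgroup U, (∀ a ∈ A, ∀ b ∈ A, β a b = 1) ∧
      (∀ u, (∀ a ∈ A, β u a = 1) → u ∈ A) ∧ Nat.card A * Nat.card A = Nat.card U := by
  classical
  -- a maximal isotropic subgroup
  obtain ⟨A, hA1, hA2⟩ := Set.Finite.exists_maximal (s := {A : Subgroup U | ∀ a ∈ A, ∀ b ∈ A, β a b = 1})
    (Set.toFinite _) ⟨⊥, by
      intro a ha b hb
      rw [Subgroup.mem_bot] at ha hb
      rw [ha, hb]
      exact halt 1⟩
  have hskew : ∀ u v, β u v = (β v u)⁻¹ := by
    intro u v
    have h1 := halt (u * v)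
    rw [map_mul (β (u * v)), map_mul β, MonoidHom.mul_apply, MonoidHom.mul_apply, halt u, halt v, one_mul,
      mul_one] at h1
    exact eq_inv_of_mul_eq_one_right h1
  have hperp : ∀ u, (∀ a ∈ A, β u a = 1) → u ∈ A := by
    intro u hu
    let A' : Subgroup U := A ⊔ Subgroup.zpowers u
    have hA' : ∀ a ∈ A', ∀ b ∈ A', β a b = 1 := by
      intro a ha b hb
      obtain ⟨a1, ha1, x, hx, rfl⟩ := Subgroup.mem_sup.1 ha
      obtain ⟨b1, hb1, y, hy, rfl⟩ := Subgroup.mem_sup.1 hb
      obtain ⟨i, rfl⟩ := Subgroup.mem_zpowers_iff.1 hx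
      obtain ⟨j, rfl⟩ := Subgroup.mem_zpowers_iff.1 hy
      have e1 : β a1 b1 = 1 := hA1 a1 ha1 b1 hb1
      have e2 : β a1 u = 1 := by rw [hskew, hu a1 ha1, inv_one]
      have e3 : β u b1 = 1 := hu b1 hb1
      have e4 : β u u = 1 := halt u
      rw [map_mul β, MonoidHom.mul_apply, map_mul (β a1), map_mul (β (u ^ i)), map_zpow β, map_zpow (β a1)]
      have e5 : (β u ^ i) b1 = (β u b1) ^ i := by
        exact map_zpow (MonoidHom.eval b1 : (U →* Kˣ) →* Kˣ) (β u) i
      have e6 : (β u ^ i) (u ^ j) = ((β u u) ^ j) ^ i := by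
        have := map_zpow (MonoidHom.eval (u ^ j) : (U →* Kˣ) →* Kˣ) (β u) i
        rw [MonoidHom.eval_apply_apply, MonoidHom.eval_apply_apply] at this
        rw [this, map_zpow]
      rw [e5, e6, e1, e2, e3, e4]
      simp
    have hle : A ≤ A' := le_sup_left
    have := hA2 (show A' ∈ _ from hA') hle
    exact this (Subgroup.mem_sup_right (Subgroup.mem_zpowers u))
  refine ⟨A, hA1, hperp, le_antisymm ?_ ?_⟩
  · -- `A → Hom(U/A, Kˣ)` is injective
    have h0 : ∀ a : A, A ≤ (β (a : U)).ker := fun a b hb => by
      rw [MonoidHom.mem_ker]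
      exact hA1 a a.2 b hb
    let ψ : A → (U ⧸ A →* Kˣ) := fun a => QuotientGroup.lift A (β (a : U)) (h0 a)
    have hψ : Function.Injective ψ := by
      intro a b hab
      have h1 : β (a : U) = β (b : U) := by
        ext u
        have := DFunLike.congr_fun hab (QuotientGroup.mk u)
        simpa [ψ] using congrArg (Units.val) this
      have h2 : β ((a : U) * (b : U)⁻¹) = 1 := by
        rw [map_mul, map_inv, h1, mul_inv_cancel]
      have h3 := hnd _ h2
      exact Subtype.ext (mul_inv_eq_one.1 h3)
    obtain ⟨hfin, hle⟩ := card_hom_le (K := K) (U ⧸ A)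
    have h1 : Nat.card A ≤ Nat.card (U ⧸ A) := le_trans (Nat.card_le_card_of_injective ψ hψ) hle
    rw [Subgroup.card_eq_card_quotient_mul_card_subgroup A]
    exact Nat.mul_le_mul_right _ h1
  · -- the kernel of `U → Hom(A, Kˣ)` is `A`
    let φ : U →* (A →* Kˣ) :=
      { toFun := fun u => (β u).comp A.subtype
        map_one' := by ext a; simp
        map_mul' := fun u v => by ext a; simp }
    have hker : φ.ker = A := by
      ext u
      rw [MonoidHom.mem_ker]
      constructor
      · intro h
        refine hperp u fun a ha => ?_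
        exact DFunLike.congr_fun h ⟨a, ha⟩
      · intro hu
        ext a
        simpa [φ] using congrArg Units.val (hA1 u hu a a.2)
    obtain ⟨hfin, hle⟩ := card_hom_le (K := K) A
    have h1 : Nat.card (U ⧸ φ.ker) ≤ Nat.card A := by
      refine le_trans (Nat.card_le_card_of_injective (QuotientGroup.kerLift φ) (QuotientGroup.kerLift_injective φ)) hle
    rw [hker] at h1
    rw [Subgroup.card_eq_card_quotient_mul_card_subgroup A]
    exact Nat.mul_le_mul_right _ h1

end Pairing

/-! ### free actions -/

theorem card_dvd_of_free {S X : Type*} [Group S] [Finite S] [MulAction S X] [Finite X]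
    (hfree : ∀ (s : S) (x : X), s • x = x → s = 1) : Nat.card S ∣ Nat.card X := by
  classical
  have : Fintype S := Fintype.ofFinite S
  have : Fintype X := Fintype.ofFinite X
  have : Fintype (MulAction.orbitRel.Quotient S X) := Fintype.ofFinite _
  have h1 : X ≃ Σ ω : MulAction.orbitRel.Quotient S X, S ⧸ MulAction.stabilizer S ω.out :=
    MulAction.selfEquivSigmaOrbitsQuotientStabilizer S X
  have h2 : ∀ x : X, MulAction.stabilizer S x = ⊥ := by
    intro x
    rw [eq_bot_iff]
    intro s hs
    exact Subgroup.mem_bot.2 (hfree s x hs)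
  rw [Nat.card_congr h1, Nat.card_sigma]
  refine Finset.dvd_sum fun ω _ => ?_
  have h3 : Nat.card (S ⧸ MulAction.stabilizer S ω.out) = Nat.card S := by
    rw [h2]
    exact (Subgroup.index_bot : (⊥ : Subgroup S).index = Nat.card S)
  rw [h3]

end Cfsg.Agent.H465.Weights

namespace Cfsg.Agent.H465.Weights

section PairingR

variable {K : Type*} [Field K]

/-- The same for a pairing on any finite group: `β.ker` has index the square of the index of a self-orthogonal
subgroup. -/
theorem lagrangian_of_pairing {R : Type*} [Group R] [Finite R] (β : R →* (R →* Kˣ)) (halt : ∀ u, β u u = 1) :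
    ∃ A : Subgroup R, (∀ a ∈ A, ∀ b ∈ A, β a b = 1) ∧ (∀ u, (∀ a ∈ A, β u a = 1) → u ∈ A) ∧
      A.index * A.index = β.ker.index := by
  classical
  have hskew : ∀ u v, β u v = (β v u)⁻¹ := by
    intro u v
    have h1 := halt (u * v)
    rw [map_mul (β (u * v)), map_mul β, MonoidHom.mul_apply, MonoidHom.mul_apply, halt u, halt v, one_mul,
      mul_one] at h1
    exact eq_inv_of_mul_eq_one_right h1
  have hcomm : ∀ a b : R ⧸ β.ker, a * b = b * a := by
    intro a b
    apply QuotientGroup.kerLift_injective β
    rw [map_mul, map_mul]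
    exact mul_comm (QuotientGroup.kerLift β a) (QuotientGroup.kerLift β b)
  let U := R ⧸ β.ker
  let iU : CommGroup U :=
    { (inferInstance : Group (R ⧸ β.ker)) with
      mul_comm := hcomm }
  have hk : ∀ u : R, β.ker ≤ (β u).ker := by
    intro u w hw
    rw [MonoidHom.mem_ker] at hw ⊢
    rw [hskew, hw, MonoidHom.one_apply, inv_one]
  let γ : R →* (U →* Kˣ) :=
    { toFun := fun u => QuotientGroup.lift β.ker (β u) (hk u)
      map_one' := by
        ext q
        simp
      map_mul' := by
        intro u v
        ext q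
        simp }
  have hγ : ∀ u w : R, γ u (QuotientGroup.mk w) = β u w := fun u w => rfl
  have hγk : β.ker ≤ γ.ker := by
    intro u hu
    rw [MonoidHom.mem_ker] at hu ⊢
    ext w
    have : γ u (QuotientGroup.mk w) = 1 := by rw [hγ, hu]; rfl
    exact congrArg Units.val this
  let δ : U →* (U →* Kˣ) := QuotientGroup.lift β.ker γ hγk
  have hδ : ∀ u w : R, δ (QuotientGroup.mk u) (QuotientGroup.mk w) = β u w := fun u w => rfl
  obtain ⟨A, h1, h2, h3⟩ := exists_lagrangian (K := K) δ (by
    intro q
    induction q using QuotientGroup.induction_on with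
    | H w => exact (hδ w w).trans (halt w)) (by
    intro q
    induction q using QuotientGroup.induction_on with
    | H w =>
      intro h
      have : β w = 1 := by
        ext x
        have := DFunLike.congr_fun h (QuotientGroup.mk x)
        rw [hδ] at this
        rw [this]
        rfl
      exact (QuotientGroup.eq_one_iff w).2 ((MonoidHom.mem_ker).2 this))
  refine ⟨A.comap (QuotientGroup.mk' β.ker), ?_, ?_, ?_⟩
  · intro a ha b hb
    exact h1 _ ha _ hb
  · intro u hu
    refine h2 _ fun q hq => ?_
    induction q using QuotientGroup.induction_on with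
    | H w => exact hu w hq
  · have h4 : (A.comap (QuotientGroup.mk' β.ker)).index = A.index :=
      Subgroup.index_comap_of_surjective A (QuotientGroup.mk'_surjective _)
    rw [h4]
    have h5 : Nat.card A * A.index = Nat.card U := A.card_mul_index
    have h6 : A.index = Nat.card A := by
      have h7 : 0 < Nat.card A := Nat.card_pos
      exact Nat.eq_of_mul_eq_mul_left h7 (h5.trans h3.symm)
    rw [h6, h3]
    rfl

end PairingR

end Cfsg.Agent.H465.Weights
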