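import Mathlib
import Cfsg.Agent.H465.Weights

/-!
# Lower bounds for the dimension (helper465)

`y` of order `p ^ a` normalises `R` (of order prime to `p` and to the characteristic), `y₁ ∈ ⟨y⟩` of order `p`.
* `abelian_bound` : `R` abelian, `C_R(y₁) = 1`: `orderOf y ≤ dim V`;
* `nonabelian_bound` : `R' ≤ Z(R) = C_R(y₁)`, `R` not abelian on `V`: there are `t c = orderOf y`, `p ∣ c`,
  `c ∣ d² - 1`, `t d ≤ dim V`.
-/

set_option autoImplicit false
set_option linter.unusedSectionVars false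

namespace Cfsg.Agent.H465.Bounds

open Module Cfsg.Agent.H465.Weights

variable {K V : Type*} [Field K] [AddCommGroup V] [Module K V]
variable {G : Type*} [Group G] [Finite G] (ρ : G →* End K V)

/-- The part of `V` without fixed vectors of `N`. -/
theorem exists_moving (N : Subgroup G) (hN : (Nat.card N : K) ≠ 0) {u0 : G} (hu0 : u0 ∈ N) (hne : ρ u0 ≠ 1) :
    ∃ W : Submodule K V, W ≠ ⊥ ∧ (∀ v ∈ W, (∀ u ∈ N, ρ u v = v) → v = 0) ∧
      ∀ g ∈ Subgroup.normalizer (N : Set G), ∀ v ∈ W, ρ g v ∈ W := by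
  classical
  have : Fintype N := Fintype.ofFinite N
  let s : End K V := ∑ u : N, ρ (u : G)
  have hs : ∀ v, s v = ∑ u : N, ρ (u : G) v := fun v => by
    simp [s, LinearMap.sum_apply]
  have h1 : ∀ u ∈ N, ∀ v, s (ρ u v) = s v := by
    intro u hu v
    rw [hs, hs]
    refine Fintype.sum_equiv (Equiv.mulRight (⟨u, hu⟩ : N)) _ _ fun x => ?_
    rw [Equiv.coe_mulRight, Subgroup.coe_mul, map_mul]
    rfl
  refine ⟨LinearMap.ker s, ?_, ?_, ?_⟩
  · obtain ⟨v, hv⟩ : ∃ v, ρ u0 v ≠ v := by
      by_contra h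
      push Not at h
      exact hne (LinearMap.ext h)
    rw [Submodule.ne_bot_iff]
    refine ⟨ρ u0 v - v, ?_, sub_ne_zero.2 hv⟩
    rw [LinearMap.mem_ker, map_sub, h1 u0 hu0, sub_self]
  · intro v hv hfix
    rw [LinearMap.mem_ker, hs] at hv
    have h2 : ∑ u : N, ρ (u : G) v = (Nat.card N : K) • v := by
      rw [Finset.sum_congr rfl fun (u : N) _ => hfix u u.2, Finset.sum_const, Finset.card_univ,
        Nat.card_eq_fintype_card]
      exact (Nat.cast_smul_eq_nsmul K _ _).symm
    rw [h2] at hv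
    exact (smul_eq_zero.1 hv).resolve_left hN
  · intro g hg v hv
    rw [LinearMap.mem_ker, hs] at hv ⊢
    have h3 : ∑ u : N, ρ (u : G) (ρ g v) = ρ g (∑ u : N, ρ (u : G) v) := by
      rw [map_sum]
      let e : N ≃ N :=
        { toFun := fun u => ⟨g⁻¹ * u * g, (Subgroup.mem_normalizer_iff.1 hg _).2 (by
            have : g * (g⁻¹ * (u : G) * g) * g⁻¹ = u := by group
            rw [this]; exact u.2)⟩
          invFun := fun u => ⟨g * u * g⁻¹, (Subgroup.mem_normalizer_iff.1 hg _).1 u.2⟩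
          left_inv := fun u => by ext; simp [mul_assoc]
          right_inv := fun u => by ext; simp [mul_assoc] }
      refine Fintype.sum_equiv e _ _ fun u => ?_
      show ρ (u : G) (ρ g v) = ρ g (ρ (g⁻¹ * u * g) v)
      have h4 : (u : G) * g = g * (g⁻¹ * u * g) := by group
      have h5 : ρ ((u : G) * g) v = ρ (g * (g⁻¹ * u * g)) v := by rw [h4]
      rw [map_mul, map_mul] at h5
      exact h5
    rw [h3, hv, map_zero]

variable [IsAlgClosed K] [FiniteDimensional K V]

theorem inv_apply (g : G) (v : V) : ρ g⁻¹ (ρ g v) = v := by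
  rw [← End.mul_apply, ← map_mul, inv_mul_cancel, map_one, End.one_apply]

theorem apply_inv (g : G) (v : V) : ρ g (ρ g⁻¹ v) = v := by
  rw [← End.mul_apply, ← map_mul, mul_inv_cancel, map_one, End.one_apply]

theorem apply_inj (g : G) {v w : V} (h : ρ g v = ρ g w) : v = w := by
  rw [← inv_apply ρ g v, h, inv_apply]

/-- Elements of the normaliser of `N` fixing the weight of `v`. -/
def stab (N : Subgroup G) (v : V) : Subgroup G where
  carrier := {h | h ∈ Subgroup.normalizer (N : Set G) ∧ ∀ w ∈ N, ρ (h⁻¹ * w * h) v = ρ w v}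
  one_mem' := ⟨one_mem _, fun w _ => by simp⟩
  mul_mem' := by
    rintro a b ⟨ha, ha'⟩ ⟨hb, hb'⟩
    refine ⟨mul_mem ha hb, fun w hw => ?_⟩
    have h1 : (a * b)⁻¹ * w * (a * b) = b⁻¹ * (a⁻¹ * w * a) * b := by group
    have h2 : a⁻¹ * w * a ∈ N := by
      have := (Subgroup.mem_normalizer_iff.1 (inv_mem ha) w).1 hw
      simpa using this
    rw [h1, hb' _ h2, ha' w hw]
  inv_mem' := by
    rintro a ⟨ha, ha'⟩
    refine ⟨inv_mem ha, fun w hw => ?_⟩
    have h2 : a * w * a⁻¹ ∈ N := (Subgroup.mem_normalizer_iff.1 ha w).1 hw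
    have h3 := ha' _ h2
    have h4 : a⁻¹ * (a * w * a⁻¹) * a = w := by group
    rw [h4] at h3
    rw [inv_inv, h3]

theorem abelian_bound (R : Subgroup G) (hc : ∀ u ∈ R, ∀ v ∈ R, u * v = v * u) (hK : (Nat.card R : K) ≠ 0)
    {y y1 : G} (hy : y ∈ Subgroup.normalizer (R : Set G))
    (hfree : ∀ g ∈ Subgroup.zpowers y, g ≠ 1 → y1 ∈ Subgroup.zpowers g)
    (hfix : ∀ u ∈ R, y1 * u = u * y1 → u = 1) {u0 : G} (hu0 : u0 ∈ R) (hne : ρ u0 ≠ 1) :
    orderOf y ≤ finrank K V := by
  classical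
  obtain ⟨W, hW, hW1, hW2⟩ := exists_moving ρ R hK hu0 hne
  let f : R → End K V := fun u => ρ u
  have hcomm : ∀ i j, Commute (f i) (f j) := by
    intro i j
    show ρ (i : G) * ρ (j : G) = ρ (j : G) * ρ (i : G)
    rw [← map_mul, ← map_mul, hc _ i.2 _ j.2]
  obtain ⟨χ, v, hvW, hv0, hvχ⟩ := exists_wsp hcomm (finrank K W) W rfl hW (fun i w hw =>
    hW2 _ (Subgroup.le_normalizer i.2) w hw)
  rw [mem_wsp] at hvχ
  have hvχ' : ∀ u (hu : u ∈ R), ρ u v = χ ⟨u, hu⟩ • v := fun u hu => hvχ ⟨u, hu⟩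
  have hnorm : ∀ g ∈ Subgroup.zpowers y, ∀ u ∈ R, g⁻¹ * u * g ∈ R := by
    intro g hg u hu
    have h1 : g ∈ Subgroup.normalizer (R : Set G) := (Subgroup.zpowers_le.2 hy) hg
    have := (Subgroup.mem_normalizer_iff.1 (inv_mem h1) u).1 hu
    simpa using this
  -- the weights of the vectors `y ^ i v`
  have hgi : ∀ i : Fin (orderOf y), y ^ (i : ℕ) ∈ Subgroup.zpowers y := fun i => Subgroup.npow_mem_zpowers _ _
  let χ' : Fin (orderOf y) → R → K := fun i u => χ ⟨(y ^ (i : ℕ))⁻¹ * u * y ^ (i : ℕ), hnorm _ (hgi i) _ u.2⟩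
  have hmem : ∀ i, ρ (y ^ (i : ℕ)) v ∈ wsp f (χ' i) := by
    intro i
    rw [mem_wsp]
    intro u
    show ρ (u : G) (ρ (y ^ (i : ℕ)) v) = _
    have h1 : (u : G) * y ^ (i : ℕ) = y ^ (i : ℕ) * ((y ^ (i : ℕ))⁻¹ * u * y ^ (i : ℕ)) := by group
    have h2 : ρ (u : G) (ρ (y ^ (i : ℕ)) v) = ρ (y ^ (i : ℕ)) (ρ ((y ^ (i : ℕ))⁻¹ * u * y ^ (i : ℕ)) v) := by
      rw [← End.mul_apply, ← End.mul_apply, ← map_mul, ← map_mul, h1]
    rw [h2, hvχ' _ (hnorm _ (hgi i) _ u.2), map_smul]
  -- if an element of `⟨y⟩` fixes the weight of `v` it is `1`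
  have hstab : ∀ g ∈ Subgroup.zpowers y, (∀ w ∈ R, ρ (g⁻¹ * w * g) v = ρ w v) → g = 1 := by
    intro g hg hgv
    by_contra hg1
    have h1 : g ∈ stab ρ R v := ⟨(Subgroup.zpowers_le.2 hy) hg, hgv⟩
    have h2 : y1 ∈ stab ρ R v := (Subgroup.zpowers_le.2 h1) (hfree g hg hg1)
    have hy1 : y1 ∈ Subgroup.zpowers y := (Subgroup.zpowers_le.2 hg) (hfree g hg hg1)
    have h3 : ∀ w ∈ R, ρ (w⁻¹ * (y1⁻¹ * w * y1)) v = v := by
      intro w hw
      rw [map_mul, End.mul_apply, h2.2 w hw, inv_apply]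
    let φ : R → R := fun w => ⟨(w : G)⁻¹ * (y1⁻¹ * w * y1), mul_mem (inv_mem w.2) (hnorm _ hy1 _ w.2)⟩
    have hφ : Function.Injective φ := by
      intro a b hab
      have h4 : (a : G)⁻¹ * (y1⁻¹ * a * y1) = (b : G)⁻¹ * (y1⁻¹ * b * y1) := congrArg Subtype.val hab
      have ha := a.2
      have hb := b.2
      have hay := hnorm _ hy1 _ a.2
      have hby := hnorm _ hy1 _ b.2
      -- `t = b⁻¹ a` commutes with `y₁`
      have h5 : (b : G) * (a : G)⁻¹ = (y1⁻¹ * b * y1) * (y1⁻¹ * a * y1)⁻¹ := by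
        have h6 : (a : G)⁻¹ = (b : G)⁻¹ * (y1⁻¹ * b * y1) * (y1⁻¹ * a * y1)⁻¹ := by
          rw [← h4]; group
        rw [h6]
        group
      have h7 : y1⁻¹ * ((b : G) * (a : G)⁻¹) * y1 = (b : G) * (a : G)⁻¹ := by
        rw [h5]
        nth_rewrite 1 [← h5]
        group
      have h8 := hfix _ (mul_mem hb (inv_mem ha)) (by
        calc y1 * ((b : G) * (a : G)⁻¹) = y1 * (y1⁻¹ * ((b : G) * (a : G)⁻¹) * y1) := by rw [h7]
          _ = _ := by group)
      exact Subtype.ext (mul_inv_eq_one.1 h8).symm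
    have hsurj := Finite.surjective_of_injective hφ
    apply hv0
    refine hW1 v hvW fun u hu => ?_
    obtain ⟨w, hw⟩ := hsurj ⟨u, hu⟩
    have h9 : (w : G)⁻¹ * (y1⁻¹ * w * y1) = u := congrArg Subtype.val hw
    rw [← h9]
    exact h3 w w.2
  have hinj : Function.Injective χ' := by
    intro i j hij
    have h1 : (y ^ (j : ℕ))⁻¹ * y ^ (i : ℕ) = 1 := by
      refine hstab _ (mul_mem (inv_mem (hgi j)) (hgi i)) fun w hw => ?_
      have hw' : y ^ (j : ℕ) * w * (y ^ (j : ℕ))⁻¹ ∈ R :=
        (Subgroup.mem_normalizer_iff.1 ((Subgroup.zpowers_le.2 hy) (hgi j)) w).1 hw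
      have h2 := congrFun hij ⟨_, hw'⟩
      have h3 : ρ ((y ^ (i : ℕ))⁻¹ * (y ^ (j : ℕ) * w * (y ^ (j : ℕ))⁻¹) * y ^ (i : ℕ)) v =
          ρ ((y ^ (j : ℕ))⁻¹ * (y ^ (j : ℕ) * w * (y ^ (j : ℕ))⁻¹) * y ^ (j : ℕ)) v := by
        rw [hvχ' _ (hnorm _ (hgi i) _ hw'), hvχ' _ (hnorm _ (hgi j) _ hw')]
        exact congrArg (· • v) h2
      have h4 : (y ^ (j : ℕ))⁻¹ * (y ^ (j : ℕ) * w * (y ^ (j : ℕ))⁻¹) * y ^ (j : ℕ) = w := by group
      rw [h4] at h3
      rw [← h3]
      congr 2
      group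
    have h2 : y ^ (i : ℕ) = y ^ (j : ℕ) := by
      rw [inv_mul_eq_one] at h1
      exact h1.symm
    exact Fin.ext (pow_injOn_Iio_orderOf (Set.mem_Iio.2 i.2) (Set.mem_Iio.2 j.2) h2)
  have hind : iSupIndep fun i => wsp f (χ' i) := (indep_wsp hcomm).comp hinj
  have hfin := card_mul_le _ hind 1 (fun i => by
    rw [Nat.one_le_iff_ne_zero, ne_eq, Submodule.finrank_eq_zero, Submodule.eq_bot_iff]
    push Not
    exact ⟨_, hmem i, fun h => hv0 (apply_inj ρ (y ^ (i : ℕ)) (by rw [h, map_zero]))⟩)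
  rwa [Fintype.card_fin, mul_one] at hfin

/-- The stabiliser in `⟨y⟩` acts freely on the quotient. -/
theorem card_dvd_quot {p : ℕ} [Fact p.Prime] (R : Subgroup G) [R.Normal] (B : Subgroup R) [B.Normal]
    (hcop : p.Coprime (Nat.card R)) {y y1 : G} (S : Subgroup G) (hS : S ≤ Subgroup.zpowers y)
    (hy1 : IsPGroup p (Subgroup.zpowers y1))
    (hfree : ∀ g ∈ Subgroup.zpowers y, g ≠ 1 → y1 ∈ Subgroup.zpowers g)
    (hB : ∀ s ∈ S, ∀ b : R, b ∈ B → (⟨s * b * s⁻¹, Subgroup.Normal.conj_mem inferInstance _ b.2 s⟩ : R) ∈ B)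
    (hfix : ∀ u : R, y1 * u = u * y1 → u ∈ B) : Nat.card S ∣ B.index - 1 := by
  classical
  -- the action
  have hBle : ∀ s : S, B ≤ B.comap (MulAut.conjNormal (s : G) : MulAut R).toMonoidHom := by
    intro s b hb
    rw [Subgroup.mem_comap]
    exact hB s s.2 b hb
  let act : S → (R ⧸ B) → (R ⧸ B) := fun s =>
    QuotientGroup.map B B (MulAut.conjNormal (s : G) : MulAut R).toMonoidHom (hBle s)
  have hact : ∀ (s : S) (u : R), act s (QuotientGroup.mk u) = QuotientGroup.mk (MulAut.conjNormal (s : G) u) :=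
    fun s u => rfl
  have hact1 : ∀ s : S, act s 1 = 1 := fun s => map_one (QuotientGroup.map B B _ (hBle s))
  let X := {q : R ⧸ B // q ≠ 1}
  have hinj : ∀ (s : S) (q : R ⧸ B), act s q = 1 → q = 1 := by
    intro s q
    induction q using QuotientGroup.induction_on with
    | H u =>
      intro h
      rw [hact] at h
      have h1 := (QuotientGroup.eq_one_iff _).1 h
      have h2 := hB s⁻¹ (inv_mem s.2) _ h1
      rw [QuotientGroup.eq_one_iff]
      convert h2 using 1
      ext
      simp [MulAut.conjNormal_apply, mul_assoc]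
  let iA : MulAction S X :=
    { smul := fun s q => ⟨act s q.1, fun h => q.2 (hinj s _ h)⟩
      one_smul := by
        rintro ⟨q, hq⟩
        apply Subtype.ext
        show act 1 q = q
        induction q using QuotientGroup.induction_on with
        | H u =>
          rw [hact]
          congr 1
          ext
          simp [MulAut.conjNormal_apply]
      mul_smul := by
        rintro a b ⟨q, hq⟩
        apply Subtype.ext
        show act (a * b) q = act a (act b q)
        induction q using QuotientGroup.induction_on with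
        | H u =>
          rw [hact, hact, hact]
          congr 1
          ext
          simp [MulAut.conjNormal_apply, mul_assoc] }
  have hsm : ∀ (s : S) (x : X), (s • x : X).1 = act s x.1 := fun s x => rfl
  have hXcard : Nat.card X = B.index - 1 := by
    have h1 : Nat.card (R ⧸ B) = B.index := rfl
    rw [← h1]
    have : Fintype (R ⧸ B) := Fintype.ofFinite _
    rw [Nat.card_eq_fintype_card, Nat.card_eq_fintype_card, Fintype.card_subtype_compl, Fintype.card_subtype_eq]
  rw [← hXcard]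
  refine card_dvd_of_free fun s x hsx => ?_
  by_contra hs1
  apply x.2
  have hs1' : (s : G) ≠ 1 := fun h => hs1 (Subtype.ext h)
  -- `y₁` fixes the coset too
  have hy1s : y1 ∈ Subgroup.zpowers (s : G) := hfree _ (hS s.2) hs1'
  obtain ⟨i, hi⟩ := Subgroup.mem_zpowers_iff.1 hy1s
  have h1 : (s ^ i) • x = x := by
    have : s ∈ MulAction.stabilizer S x := hsx
    exact (MulAction.stabilizer S x).zpow_mem this i
  obtain ⟨q, hq⟩ := x
  induction q using QuotientGroup.induction_on with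
  | H u =>
    have h2 : (QuotientGroup.mk (MulAut.conjNormal y1 u) : R ⧸ B) = QuotientGroup.mk u := by
      have h3 := congrArg Subtype.val h1
      rw [hsm, hact] at h3
      have h4 : ((s ^ i : S) : G) = y1 := by
        rw [← hi]
        simp
      rw [h4] at h3
      exact h3
    -- a fixed point of `y₁` in the coset
    let C := {x : R // (QuotientGroup.mk x : R ⧸ B) = QuotientGroup.mk u}
    have hy1C : ∀ g ∈ Subgroup.zpowers y1, ∀ x : R, (QuotientGroup.mk x : R ⧸ B) = QuotientGroup.mk u →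
        (QuotientGroup.mk (MulAut.conjNormal g x) : R ⧸ B) = QuotientGroup.mk u := by
      have hy1S : Subgroup.zpowers y1 ≤ S := by
        rw [Subgroup.zpowers_le, ← hi]
        exact S.zpow_mem s.2 i
      -- the elements of `S` fixing the coset
      let x0 : X := ⟨QuotientGroup.mk u, hq⟩
      have h4 : ∀ g (hg : g ∈ Subgroup.zpowers y1), (⟨g, hy1S hg⟩ : S) • x0 = x0 := by
        intro g hg
        obtain ⟨j, hj⟩ := Subgroup.mem_zpowers_iff.1 hg
        have h5 : (⟨g, hy1S hg⟩ : S) = (s ^ i) ^ j := by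
          apply Subtype.ext
          calc g = y1 ^ j := hj.symm
            _ = ((s : G) ^ i) ^ j := by rw [hi]
            _ = (((s ^ i) ^ j : S) : G) := by simp
        rw [h5]
        have : s ^ i ∈ MulAction.stabilizer S x0 := h1
        exact (MulAction.stabilizer S x0).zpow_mem this j
      intro g hg x hx
      have h6 := congrArg Subtype.val (h4 g hg)
      rw [hsm] at h6
      have h7 : act ⟨g, hy1S hg⟩ (QuotientGroup.mk u) = QuotientGroup.mk u := h6
      rw [← hx, hact] at h7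
      rw [← hx]
      exact h7
    let iC : MulAction (Subgroup.zpowers y1) C :=
      { smul := fun g x => ⟨MulAut.conjNormal (g : G) x.1, hy1C g g.2 x.1 x.2⟩
        one_smul := by
          rintro ⟨x, hx⟩
          apply Subtype.ext
          show MulAut.conjNormal ((1 : Subgroup.zpowers y1) : G) x = x
          simp
        mul_smul := by
          rintro a b ⟨x, hx⟩
          apply Subtype.ext
          show MulAut.conjNormal ((a * b : Subgroup.zpowers y1) : G) x =
            MulAut.conjNormal (a : G) (MulAut.conjNormal (b : G) x)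
          simp }
    have hCcard : Nat.card C = Nat.card B := by
      let e : B ≃ C :=
        { toFun := fun b => ⟨u * b, by
            rw [QuotientGroup.eq]
            have : (u * (b : R))⁻¹ * u = (b : R)⁻¹ := by group
            rw [this]
            exact inv_mem b.2⟩
          invFun := fun x => ⟨u⁻¹ * x.1, QuotientGroup.eq.1 x.2.symm⟩
          left_inv := fun b => by ext; simp
          right_inv := fun x => by
            apply Subtype.ext
            simp }
      exact (Nat.card_congr e).symm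
    have hnd : ¬ p ∣ Nat.card C := by
      rw [hCcard]
      intro h
      have h8 : p ∣ Nat.card R := dvd_trans h (Subgroup.card_subgroup_dvd_card B)
      have := Nat.dvd_gcd (dvd_refl p) h8
      rw [hcop] at this
      exact (Fact.out : p.Prime).one_lt.ne' (Nat.dvd_one.1 this)
    have : Finite C := Subtype.finite
    obtain ⟨x, hx⟩ := IsPGroup.nonempty_fixed_point_of_prime_not_dvd_card hy1 C hnd
    have h9 : MulAut.conjNormal y1 x.1 = x.1 := by
      have := hx ⟨y1, Subgroup.mem_zpowers y1⟩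
      exact congrArg Subtype.val this
    have h10 : y1 * (x.1 : G) * y1⁻¹ = x.1 := by
      have := congrArg Subtype.val h9
      rwa [MulAut.conjNormal_apply] at this
    have h11 : x.1 ∈ B := hfix x.1 (mul_inv_eq_iff_eq_mul.1 h10)
    show (QuotientGroup.mk u : R ⧸ B) = 1
    rw [← x.2]
    exact (QuotientGroup.eq_one_iff _).2 h11

end Cfsg.Agent.H465.Bounds
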