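import Mathlib
import Cfsg.Agent.H465.SULin

/-!
# The criterion with TI Sylow subgroups (helper465)

* `P2.of_TI` : Sylow `r`-subgroups (`r` odd) intersect trivially and every solvable subgroup containing an element of
  order `r` has a nontrivial normal `r`-subgroup.
* `exists_normal_of_linear` : the second condition for (projective) linear groups of small dimension in
  characteristic `r`.
-/

set_option autoImplicit false

namespace Cfsg.Agent.H465.SU

open Subgroup

theorem P2.of_TI {K : Type*} [Group K] [Finite K] [IsSimpleGroup K] (hK : ¬ IsMulCommutative K) {r : ℕ}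
    [Fact r.Prime] (hr2 : r ≠ 2) (hd : r ∣ Nat.card K)
    (hTI : ∀ (P Q : Sylow r K) (x : K), x ≠ 1 → x ∈ (P : Subgroup K) → x ∈ (Q : Subgroup K) → P = Q)
    (hsol : ∀ y : K, orderOf y = r → ∀ X : Subgroup K, Group.IsSolvable X → y ∈ X →
      ∃ R : Subgroup K, R ≠ ⊥ ∧ R ≤ X ∧ IsPGroup r R ∧ ∀ g ∈ X, ∀ u ∈ R, g * u * g⁻¹ ∈ R) : P2 K := by
  have hr : r.Prime := Fact.out
  intro x hx
  by_contra hcon
  push Not at hcon
  apply hx
  obtain ⟨P0⟩ : Nonempty (Sylow r K) := inferInstance
  have hmap : ∀ (e : MulAut K) (P : Sylow r K), ∃ Q : Sylow r K, (Q : Subgroup K) = (P : Subgroup K).map e.toMonoidHom := by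
    intro e P
    refine ⟨e • P, ?_⟩
    rw [Sylow.pointwise_smul_def]
    rfl
  have hbot : ∀ P : Sylow r K, (P : Subgroup K) ≠ ⊥ := by
    intro P h
    have h1 := P.dvd_card_of_dvd_card hd
    rw [h, card_bot] at h1
    exact hr.one_lt.ne' (Nat.dvd_one.1 h1)
  -- every Sylow subgroup is `x`-invariant
  have key : ∀ P : Sylow r K, (P : Subgroup K).map x.toMonoidHom = P := by
    intro P
    obtain ⟨y, hy⟩ := exists_prime_orderOf_dvd_card' (G := (P : Subgroup K)) r (P.dvd_card_of_dvd_card hd)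
    have hy' : orderOf (y : K) = r := by rw [orderOf_coe, hy]
    have hy1 : (y : K) ≠ 1 := fun h => by
      rw [h, orderOf_one] at hy'
      exact hr.one_lt.ne hy'
    set X := closure ({(y : K), x y} : Set K) with hX
    have hyX : (y : K) ∈ X := subset_closure (by simp)
    have hxyX : x y ∈ X := subset_closure (by simp)
    obtain ⟨R, hR1, hRX, hRr, hRn⟩ := hsol y hy' X (hcon y ⟨r, 1, hr, hr2, by rw [hy', pow_one]⟩) hyX
    obtain ⟨Q, hRQ⟩ := hRr.exists_le_sylow
    obtain ⟨u0, hu0⟩ := Subgroup.ne_bot_iff_exists_ne_one.1 hR1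
    obtain ⟨u, huR, hu1⟩ : ∃ u : K, u ∈ R ∧ u ≠ 1 := ⟨u0, u0.2, fun h => hu0 (Subtype.ext h)⟩
    -- `X` normalises `Q`
    have hXQ : X ≤ normalizer (Q : Set K) := by
      intro g hg
      obtain ⟨Q', hQ'⟩ := hmap (MulAut.conj g) Q
      have h1 : Q' = Q := by
        refine hTI Q' Q (g * u * g⁻¹) ?_ ?_ (hRQ (hRn g hg u huR))
        · intro h
          apply hu1
          have : u = g⁻¹ * (g * u * g⁻¹) * g := by group
          rw [this, h]; group
        · rw [hQ']
          exact ⟨u, hRQ huR, rfl⟩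
      show g ∈ normalizer (((Q : Subgroup K)) : Set K)
      rw [mem_normalizer_iff_map_conj_eq]
      rw [h1] at hQ'
      exact hQ'.symm
    have hQmem : ∀ z : K, z ∈ X → (∃ k, orderOf z = r ^ k) → z ∈ (Q : Subgroup K) := by
      rintro z hz ⟨k, hk⟩
      have h1 : IsPGroup r (zpowers z) := IsPGroup.of_card (n := k) (by rw [Nat.card_zpowers, hk])
      have h2 := h1.inf_normalizer_sylow Q
      have h3 : z ∈ zpowers z ⊓ normalizer (Q : Set K) := ⟨mem_zpowers z, hXQ hz⟩
      rw [h2] at h3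
      exact h3.2
    have hyQ := hQmem y hyX ⟨1, by rw [hy', pow_one]⟩
    have hxyQ := hQmem (x y) hxyX ⟨1, by rw [MulEquiv.orderOf_eq, hy', pow_one]⟩
    have hQP : Q = P := hTI Q P y hy1 hyQ y.2
    obtain ⟨P', hP'⟩ := hmap x P
    have hP'P : P' = P := by
      refine hTI P' P (x y) (fun h => hy1 (x.injective (by rw [h, map_one]))) ?_ (hQP ▸ hxyQ)
      rw [hP']
      exact ⟨y, y.2, rfl⟩
    rw [← hP', hP'P]
  refine eq_one_of_normalises (A := (P0 : Subgroup K)) (fun hn => ?_) fun g => ?_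
  · rcases hn.eq_bot_or_eq_top with h | h
    · exact hbot P0 h
    · -- `K` is an `r`-group
      apply hK
      have h1 : IsPGroup r K := by
        have h2 : IsPGroup r (⊤ : Subgroup K) := h ▸ P0.2
        exact h2.of_equiv topEquiv
      have h3 : Nontrivial K := inferInstance
      have h4 := h1.center_nontrivial
      rcases (inferInstance : (center K).Normal).eq_bot_or_eq_top with h5 | h5
      · exact absurd h5 ((nontrivial_iff_ne_bot _).1 h4)
      · refine ⟨⟨fun a b => ?_⟩⟩
        have ha : b ∈ center K := by rw [h5]; trivial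
        exact mem_center_iff.1 ha a
  · obtain ⟨Q, hQ⟩ := hmap (MulAut.conj g) P0
    rw [← hQ]
    exact key Q

/-- solvable subgroups containing an element of order the characteristic -/
theorem exists_normal_of_linear {G K : Type*} [Group G] [Finite G] [Group K] {F V : Type*} [Field F] [AddCommGroup V]
    [Module F V] [FiniteDimensional F V] (ρ : G →* (V ≃ₗ[F] V)) (hinj : Function.Injective ρ) {r : ℕ} [CharP F r]
    (hr : r.Prime) (hdim : Module.finrank F V + 1 < r) (hr2 : r ≠ 2) (π : G →* K) (hπ : Function.Surjective π)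
    (hker : π.ker ≤ center G) (hcop : ¬ r ∣ Nat.card π.ker) {y : K} (hy : orderOf y = r) {X : Subgroup K}
    (hX : Group.IsSolvable X) (hyX : y ∈ X) :
    ∃ R : Subgroup K, R ≠ ⊥ ∧ R ≤ X ∧ IsPGroup r R ∧ ∀ g ∈ X, ∀ u ∈ R, g * u * g⁻¹ ∈ R := by
  have : Fact r.Prime := ⟨hr⟩
  -- `π` is injective on `r`-elements
  have hkinj : ∀ g : G, (∃ j, orderOf g = r ^ j) → π g = 1 → g = 1 := by
    rintro g ⟨j, hj⟩ hg
    rw [← orderOf_eq_one_iff, hj]
    rcases Nat.eq_zero_or_pos j with h0 | h0
    · rw [h0, pow_zero]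
    · exfalso
      apply hcop
      have hg' : g ∈ π.ker := hg
      have h1 : orderOf (⟨g, hg'⟩ : π.ker) ∣ Nat.card π.ker := orderOf_dvd_natCard _
      rw [orderOf_mk, hj] at h1
      exact (dvd_pow_self r (by omega)).trans h1
  -- lift `y`
  obtain ⟨y', hy'1, hy'2⟩ : ∃ y' : G, π y' = y ∧ orderOf y' = r := by
    have h1 : r ∣ Nat.card ((zpowers y).comap π) := by
      have h2 := card_map_dvd ((zpowers y).comap π) π
      rw [map_comap_eq_self_of_surjective hπ, Nat.card_zpowers, hy] at h2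
      exact h2
    obtain ⟨d, hd⟩ := exists_prime_orderOf_dvd_card' r h1
    have hd' : orderOf (d : G) = r := by rw [orderOf_coe, hd]
    obtain ⟨i, hi⟩ := mem_zpowers_iff.1 (show π (d : G) ∈ zpowers y from d.2)
    have h4 : π (d : G) ≠ 1 := fun h5 => by
      have := hkinj d ⟨1, by rw [hd', pow_one]⟩ h5
      rw [this, orderOf_one] at hd'
      exact hr.one_lt.ne hd'
    -- `y` is a power of `π d`
    have h5 : zpowers (π (d : G)) = zpowers y := by
      have hfin : Finite (zpowers y) := Nat.finite_of_card_ne_zero (by rw [Nat.card_zpowers, hy]; exact hr.ne_zero)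
      refine eq_of_le_of_card_ge (zpowers_le.2 d.2) ?_
      rw [Nat.card_zpowers, Nat.card_zpowers, hy]
      have h6 : orderOf (π (d : G)) ∣ r := hd' ▸ orderOf_map_dvd π _
      rcases (Nat.dvd_prime hr).1 h6 with h7 | h7
      · exact absurd (orderOf_eq_one_iff.1 h7) h4
      · exact h7.ge
    have h6 : y ∈ zpowers (π (d : G)) := by rw [h5]; exact mem_zpowers y
    obtain ⟨j, hj⟩ := mem_zpowers_iff.1 h6
    refine ⟨(d : G) ^ j, by rw [map_zpow, hj], ?_⟩
    have h7 : orderOf ((d : G) ^ j) ∣ r := by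
      rw [← hd']
      exact orderOf_dvd_of_mem_zpowers (zpow_mem (mem_zpowers _) j)
    rcases (Nat.dvd_prime hr).1 h7 with h8 | h8
    · exfalso
      rw [orderOf_eq_one_iff] at h8
      have h9 : y = 1 := by rw [← hj, ← map_zpow, h8, map_one]
      rw [h9, orderOf_one] at hy
      exact hr.one_lt.ne hy
    · exact h8
  -- the preimage of `X`
  set X' := X.comap π with hX'
  have hX's : Group.IsSolvable X' := by
    let f : X' →* X := (π.comp X'.subtype).codRestrict X fun g => g.2
    let g : π.ker →* X' := π.ker.subtype.codRestrict X' fun g => by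
      show π g ∈ X
      rw [show π g = 1 from g.2]
      exact X.one_mem
    have hkers : Group.IsSolvable π.ker :=
      Group.isSolvable_of_comm fun a b => Subtype.ext (mem_center_iff.1 (hker b.2) a)
    refine Group.isSolvable_of_ker_le_range g f ?_
    intro a ha
    have h1 : π a = 1 := congrArg Subtype.val ha
    exact ⟨⟨a, h1⟩, rfl⟩
  have hy'X : y' ∈ X' := by
    show π y' ∈ X
    rw [hy'1]; exact hyX
  have hzy : IsPGroup r (zpowers y') := IsPGroup.of_card (n := 1) (by rw [Nat.card_zpowers, hy'2, pow_one])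
  have hcoren : ∀ (t : ℕ) (g : G), g ∈ X' → ∀ u ∈ (Cfsg.pCore t X').map X'.subtype, g * u * g⁻¹ ∈
      (Cfsg.pCore t X').map X'.subtype := by
    rintro t g hg _ ⟨u, hu, rfl⟩
    have hn : (Cfsg.pCore t X').Normal := Lib.Cores.pCore_normal t
    exact ⟨⟨g, hg⟩ * u * ⟨g, hg⟩⁻¹, hn.conj_mem u hu _, rfl⟩
  have hcoreP : ∀ t : ℕ, t.Prime → IsPGroup t ((Cfsg.pCore t X').map X'.subtype) := by
    intro t ht
    have : Fact t.Prime := ⟨ht⟩
    exact (Lib.Cores.pCore_isPGroup t).map _
  set R' := (Cfsg.pCore r X').map X'.subtype with hR'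
  have hR'1 : R' ≠ ⊥ := by
    intro hbot
    have h1 : zpowers y' ≤ R' := by
      refine Lib.BenderMaximal.le_map_pCore_of_le_fitting hzy ?_
      refine (le_inf (zpowers_le.2 hy'X) (Lib.BenderMaximal.le_centralizer_fitting fun t ht => ?_)).trans
        (Lib.BenderMaximal.inf_centralizer_fitting_le hX's)
      rw [zpowers_le, mem_centralizer_iff]
      intro u hu
      by_cases htr : t = r
      · subst htr
        rw [← hR', hbot] at hu
        rw [mem_bot.1 hu, one_mul, mul_one]
      · have h0 : ((t : ℕ) : F) ≠ 0 := by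
          intro h0
          have h2 := (CharP.cast_eq_zero_iff F r t).1 h0
          exact htr ((Nat.prime_dvd_prime_iff_eq hr ht).1 h2).symm
        have h3 := LinSolv.centralize ρ hinj hr hr2 (a := 1) (le_refl 1) ht htr h0 (y := y') (by rw [hy'2, pow_one])
          (hcoreP t ht) (hcoren t y' hy'X) (Or.inl (by simpa using hdim)) u hu
        rw [Nat.sub_self, pow_zero, pow_one] at h3
        exact h3.symm
    rw [hbot, le_bot_iff, zpowers_eq_bot] at h1
    rw [h1, orderOf_one] at hy'2
    exact hr.one_lt.ne hy'2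
  refine ⟨R'.map π, ?_, ?_, (hcoreP r hr).map π, ?_⟩
  · obtain ⟨u, hu⟩ := Subgroup.ne_bot_iff_exists_ne_one.1 hR'1
    intro hbot
    apply hu
    apply Subtype.ext
    refine hkinj u ?_ ?_
    · obtain ⟨k, hk⟩ := IsPGroup.iff_orderOf.1 (hcoreP r hr) u
      exact ⟨k, by rw [orderOf_coe, hk]⟩
    · have : π u ∈ R'.map π := ⟨u, u.2, rfl⟩
      rw [hbot] at this
      exact this
  · rw [map_le_iff_le_comap]
    exact map_subtype_le _
  · rintro g hg _ ⟨u, hu, rfl⟩
    obtain ⟨g', rfl⟩ := hπ g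
    exact ⟨g' * u * g'⁻¹, hcoren r g' hg u hu, by simp⟩

end Cfsg.Agent.H465.SU
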