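import Mathlib
import Cfsg.Prelude.Def_Classical
import Cfsg.Agent.H465.TICrit
import Cfsg.Agent.S0262
import Cfsg.Agent.ClassicalGeometry.PSL2Basic
import Cfsg.Agent.ClassicalGeometry.PSL2ElemOrder
import Cfsg.Agent.H96.TISylow

/-!
# `P2` for `PSL_2(q)` (helper465)

* characteristic `r ≥ 5`: elements of order `r`, TI Sylow subgroups;
* characteristic 2, 3: a `p`-element generating a Sylow `p`-subgroup, `p^a ∥ q + 1`, `p^a ≥ 5` odd.
-/

set_option autoImplicit false

namespace Cfsg.Agent.H465.LTwo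

open Subgroup Matrix Cfsg.Agent.H465.SU

variable {F : Type*} [Field F] [Fintype F]

/-- elements whose order does not divide `(q - 1) r^k` are irreducible on `F²` -/
theorem irreducible {r : ℕ} [Fact r.Prime] [CharP F r] {p a : ℕ} (hp : p.Prime) (ha : 1 ≤ a) (hpr : p ≠ r)
    (hp1 : ¬ p ∣ Fintype.card F - 1) {y : SpecialLinearGroup (Fin 2) F} (hy : orderOf y = p ^ a)
    (W : Submodule F (Fin 2 → F)) (hW : ∀ w ∈ W, SpecialLinearGroup.toLin' y w ∈ W) : W = ⊥ ∨ W = ⊤ := by
  by_contra hcon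
  push Not at hcon
  obtain ⟨hb, ht⟩ := hcon
  have h2 : Module.finrank F (Fin 2 → F) = 2 := by rw [Module.finrank_fintype_fun_eq_card, Fintype.card_fin]
  have h3 : Module.finrank F W < 2 := lt_of_lt_of_eq (Submodule.finrank_lt ht) h2
  have h4 : Module.finrank F W ≠ 0 := fun h => hb (Submodule.finrank_eq_zero.1 h)
  have h5 : Module.finrank F W = 1 := by omega
  obtain ⟨w, hw, hw0⟩ := (Submodule.ne_bot_iff W).1 hb
  obtain ⟨c, hc⟩ := exists_smul_eq_of_finrank_eq_one h5 (x := (⟨w, hw⟩ : W))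
      (fun h => hw0 (congrArg Subtype.val h)) ⟨_, hW w hw⟩
  have hc' : SpecialLinearGroup.toLin' y w = c • w := (congrArg Subtype.val hc).symm
  have hc0 : c ≠ 0 := by
    rintro rfl
    rw [zero_smul] at hc'
    exact hw0 ((SpecialLinearGroup.toLin' y).map_eq_zero_iff.1 hc')
  have hpow : ∀ k : ℕ, SpecialLinearGroup.toLin' (y ^ k) w = c ^ k • w := by
    intro k
    induction k with
    | zero => simp
    | succ k ih =>
      rw [pow_succ, map_mul, LinearEquiv.mul_apply, hc', map_smul, ih, smul_smul, pow_succ, mul_comm]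
  have h6 := hpow (Fintype.card F - 1)
  rw [FiniteField.pow_card_sub_one_eq_one c hc0, one_smul] at h6
  have h7 : (y ^ (Fintype.card F - 1)).1 *ᵥ w = w := by
    rw [SpecialLinearGroup.toLin'_apply, Matrix.toLin'_apply] at h6
    exact h6
  obtain ⟨k, hk⟩ := H96.TISylow.pow_eq_one_of_nilp (p := r) (H96.TISylow.sl_two_nilp hw0 h7)
  have h8 : orderOf (y ^ (Fintype.card F - 1)) ∣ 1 := by
    have d1 : orderOf (y ^ (Fintype.card F - 1)) ∣ r ^ k := orderOf_dvd_of_pow_eq_one hk
    have d2 : orderOf (y ^ (Fintype.card F - 1)) ∣ p ^ a := hy ▸ orderOf_pow_dvd _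
    have hco : Nat.Coprime (r ^ k) (p ^ a) :=
      Nat.Coprime.pow _ _ ((Nat.coprime_primes Fact.out hp).2 (Ne.symm hpr))
    have h10 := Nat.dvd_gcd d1 d2
    rwa [Nat.Coprime.gcd_eq_one hco] at h10
  have h9 : y ^ (Fintype.card F - 1) = 1 := orderOf_eq_one_iff.1 (Nat.dvd_one.1 h8)
  exact hp1 ((dvd_pow_self p (by omega)).trans (hy ▸ orderOf_dvd_of_pow_eq_one h9))

theorem not_dvd_center {p : ℕ} (hp : p.Prime) (hp2 : p ≠ 2) :
    ¬ p ∣ Nat.card (center (SpecialLinearGroup (Fin 2) F)) := by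
  intro h
  have : Fact p.Prime := ⟨hp⟩
  obtain ⟨z, hz⟩ := exists_prime_orderOf_dvd_card' p h
  obtain ⟨c, hc, hcz⟩ := Matrix.SpecialLinearGroup.mem_center_iff.1 z.2
  have h1 : z ^ 2 = 1 := by
    apply Subtype.ext
    refine Subtype.ext ?_
    have h3 : ((z : Matrix.SpecialLinearGroup (Fin 2) F)).1 * ((z : Matrix.SpecialLinearGroup (Fin 2) F)).1 = 1 := by
      rw [← hcz, ← map_mul, ← pow_two]
      rw [Fintype.card_fin] at hc
      rw [hc, map_one]
    rw [pow_two]
    exact h3
  have h2 : orderOf z ∣ 2 := orderOf_dvd_of_pow_eq_one h1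
  rw [hz] at h2
  exact hp2 ((Nat.prime_dvd_prime_iff_eq hp Nat.prime_two).1 h2)

/-- a Sylow `p`-subgroup, `p^a ∥ q + 1` -/
theorem hasSU_of {r : ℕ} [Fact r.Prime] [CharP F r] {p a : ℕ} (hp : p.Prime) (hp2 : p ≠ 2) (ha : 1 ≤ a)
    (h5 : 5 ≤ p ^ a) (hpq : p ^ a ∣ Fintype.card F + 1) (hpq' : ¬ p ^ (a + 1) ∣ Fintype.card F + 1) :
    ∃ y : ProjectiveSpecialLinearGroup (Fin 2) F, SUel p y := by
  have hpf : Fact p.Prime := ⟨hp⟩
  have hr : r.Prime := Fact.out
  have hp1 : p ∣ Fintype.card F + 1 := (dvd_pow_self p (by omega)).trans hpq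
  obtain ⟨n, -, hn⟩ := FiniteField.card F r
  have hpr : p ≠ r := by
    rintro rfl
    have h1 : p ∣ Fintype.card F := by rw [hn]; exact dvd_pow_self p n.ne_zero
    have h2 : p ∣ 1 := (Nat.dvd_add_right h1).1 hp1
    exact hp.one_lt.ne' (Nat.dvd_one.1 h2)
  have hq1 : 1 < Fintype.card F := Fintype.one_lt_card
  have hp3 : ¬ p ∣ Fintype.card F - 1 := by
    intro h
    have h2 : p ∣ (Fintype.card F + 1) - (Fintype.card F - 1) := Nat.dvd_sub hp1 h
    have h3 : (Fintype.card F + 1) - (Fintype.card F - 1) = 2 := by omega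
    rw [h3] at h2
    exact hp2 ((Nat.prime_dvd_prime_iff_eq hp Nat.prime_two).1 h2)
  have hpn : ¬ p ∣ Fintype.card F := by
    rw [hn]
    intro h
    exact hpr ((Nat.prime_dvd_prime_iff_eq hp hr).1 (hp.dvd_of_dvd_pow h))
  have hcyc : ∀ P : Sylow p (SpecialLinearGroup (Fin 2) F), IsCyclic P := fun P => S0262.result r p hp2 hpr P
  -- the order of a Sylow subgroup
  have hcard : Nat.card (SpecialLinearGroup (Fin 2) F) = p ^ a * ((Fintype.card F + 1) / p ^ a *
      (Fintype.card F * (Fintype.card F - 1))) := by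
    rw [ClassicalGeometry.PSL2Basic.card_SL2]
    have h1 : Fintype.card F ^ 2 - 1 = (Fintype.card F + 1) * (Fintype.card F - 1) := by
      have := Nat.sq_sub_sq (Fintype.card F) 1
      rwa [one_pow] at this
    rw [h1, ← mul_assoc (p ^ a), Nat.mul_div_cancel' hpq]
    ring
  have hnd : ¬ p ∣ (Fintype.card F + 1) / p ^ a * (Fintype.card F * (Fintype.card F - 1)) := by
    rw [hp.dvd_mul, hp.dvd_mul]
    rintro (h | h | h)
    · apply hpq'
      rw [pow_succ]
      exact Nat.mul_dvd_of_dvd_div hpq h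
    · exact hpn h
    · exact hp3 h
  obtain ⟨P⟩ : Nonempty (Sylow p (SpecialLinearGroup (Fin 2) F)) := inferInstance
  have hPc : Nat.card P = p ^ a := by
    rw [P.card_eq_multiplicity, hcard, Nat.factorization_mul (pow_ne_zero _ hp.ne_zero) (by
      intro h0
      rw [h0] at hnd
      exact hnd (dvd_zero p)), Finsupp.add_apply, Nat.factorization_eq_zero_of_not_dvd hnd, hp.factorization_pow,
      Finsupp.single_eq_same, add_zero]
  obtain ⟨g, hg⟩ := (hcyc P).exists_generator
  have hgo : orderOf (g : SpecialLinearGroup (Fin 2) F) = p ^ a := by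
    rw [orderOf_coe, orderOf_eq_card_of_forall_mem_zpowers hg, hPc]
  have hfin : Module.finrank F (Fin 2 → F) = 2 := by rw [Module.finrank_fintype_fun_eq_card, Fintype.card_fin]
  have hSU : SUel p (g : SpecialLinearGroup (Fin 2) F) := by
    refine SUel.of_irreducible (SpecialLinearGroup.toLin' (n := Fin 2) (R := F)) SpecialLinearGroup.toLin'_injective hp
      hp2 ha hgo hcyc (Or.inl ?_) (irreducible hp ha hpr hp3 hgo)
    rw [hfin]
    obtain ⟨b, rfl⟩ : ∃ b, a = b + 1 := ⟨a - 1, by omega⟩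
    rw [Nat.add_sub_cancel, pow_succ]
    have hp3' : 3 ≤ p := by
      have := hp.two_le
      omega
    rcases Nat.eq_zero_or_pos b with h0 | h0
    · rw [h0, pow_zero, one_mul]
      rw [h0, zero_add, pow_one] at h5
      omega
    · have h6 : p ^ 1 ≤ p ^ b := Nat.pow_le_pow_right hp.pos h0
      rw [pow_one] at h6
      nlinarith
  refine ⟨QuotientGroup.mk' _ (g : SpecialLinearGroup (Fin 2) F), ?_⟩
  refine SUel.map (QuotientGroup.mk' (center (SpecialLinearGroup (Fin 2) F))) (QuotientGroup.mk'_surjective _) ?_ hp ?_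
    hSU
  · rw [QuotientGroup.ker_mk']
    exact Group.isSolvable_of_comm fun a b => Subtype.ext (mem_center_iff.1 b.2 a)
  · rw [QuotientGroup.ker_mk']
    exact not_dvd_center hp hp2

/-- arithmetic: an odd prime power `p^a ∥ N`, `p^a ≥ 5` -/
theorem exists_pp {N : ℕ} (h : ∀ k, N ≠ 2 ^ k) (h3 : ∀ k, N ≠ 3 * 2 ^ k) (hN : N ≠ 0) :
    ∃ p a : ℕ, p.Prime ∧ p ≠ 2 ∧ 1 ≤ a ∧ 5 ≤ p ^ a ∧ p ^ a ∣ N ∧ ¬ p ^ (a + 1) ∣ N := by
  obtain ⟨k, m, hm, hNm⟩ := Nat.exists_eq_two_pow_mul_odd hN
  have hm1 : m ≠ 1 := by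
    rintro rfl
    exact h k (by rw [hNm, mul_one])
  have hm3 : m ≠ 3 := by
    rintro rfl
    exact h3 k (by rw [hNm, mul_comm])
  have hm0 : m ≠ 0 := by
    rintro rfl
    exact (by decide : ¬ Odd 0) hm
  -- a prime power of `m`
  have key : ∃ p a : ℕ, p.Prime ∧ 1 ≤ a ∧ 5 ≤ p ^ a ∧ p ^ a ∣ m ∧ ¬ p ^ (a + 1) ∣ m := by
    by_cases h5 : ∃ p, p.Prime ∧ p ∣ m ∧ p ≠ 3
    · obtain ⟨p, hp, hpm, hp3⟩ := h5
      obtain ⟨a, n, hn, hmn⟩ := Nat.exists_eq_pow_mul_and_not_dvd hm0 p hp.ne_one
      have ha : 1 ≤ a := by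
        by_contra h0
        have : a = 0 := by omega
        rw [this, pow_zero, one_mul] at hmn
        exact hn (hmn ▸ hpm)
      have hp5 : 5 ≤ p := by
        have h2 := hp.two_le
        have hp2 : p ≠ 2 := by
          rintro rfl
          obtain ⟨j, hj⟩ := hm
          omega
        have hp4 : p ≠ 4 := by
          rintro rfl
          norm_num at hp
        omega
      refine ⟨p, a, hp, ha, ?_, ⟨n, hmn⟩, ?_⟩
      · calc 5 ≤ p := hp5
          _ = p ^ 1 := (pow_one p).symm
          _ ≤ p ^ a := Nat.pow_le_pow_right hp.pos ha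
      · rintro ⟨c, hc⟩
        apply hn
        have h6 : p ^ a * n = p ^ a * (p * c) := by
          rw [← hmn, hc]; ring
        exact ⟨c, Nat.eq_of_mul_eq_mul_left (pow_pos hp.pos a) h6⟩
    · push Not at h5
      have hp : Nat.Prime 3 := by norm_num
      obtain ⟨a, n, hn, hmn⟩ := Nat.exists_eq_pow_mul_and_not_dvd hm0 3 hp.ne_one
      have hn1 : n = 1 := by
        by_contra hne
        obtain ⟨l, hl, hln⟩ := Nat.exists_prime_and_dvd hne
        have := h5 l hl (hmn ▸ hln.mul_left _)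
        rw [this] at hln
        exact hn hln
      rw [hn1, mul_one] at hmn
      have ha : 2 ≤ a := by
        by_contra h0
        rcases (by omega : a = 0 ∨ a = 1) with h1 | h1
        · rw [h1, pow_zero] at hmn; exact hm1 hmn
        · rw [h1, pow_one] at hmn; exact hm3 hmn
      refine ⟨3, a, hp, by omega, ?_, by rw [hmn], ?_⟩
      · calc 5 ≤ 3 ^ 2 := by norm_num
          _ ≤ 3 ^ a := Nat.pow_le_pow_right (by norm_num) ha
      · rw [hmn, Nat.pow_dvd_pow_iff_le_right (by norm_num)]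
        omega
  obtain ⟨p, a, hp, ha, h5, hd, hnd⟩ := key
  have hp2 : p ≠ 2 := by
    rintro rfl
    have h6 : 2 ∣ m := (dvd_pow_self 2 (by omega)).trans hd
    obtain ⟨j, hj⟩ := hm
    omega
  refine ⟨p, a, hp, hp2, ha, h5, hNm ▸ hd.mul_left _, fun h6 => hnd ?_⟩
  rw [hNm] at h6
  refine Nat.Coprime.dvd_of_dvd_mul_left ?_ h6
  exact Nat.Coprime.pow _ _ ((Nat.coprime_primes hp Nat.prime_two).2 hp2)

/-- `PSL_2(q)` -/
theorem p2_psl_two {G : Type*} [Group G] [Finite G] [IsSimpleGroup G] (hG : ¬ IsMulCommutative G)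
    (e : G ≃* ProjectiveSpecialLinearGroup (Fin 2) F) (hq : 4 ≤ Fintype.card F) : P2 G := by
  obtain ⟨r, hchar⟩ := CharP.exists F
  have hr : r.Prime := (CharP.char_is_prime_or_zero F r).resolve_right (CharP.char_ne_zero_of_finite F r)
  have : Fact r.Prime := ⟨hr⟩
  by_cases hr5 : 5 ≤ r
  · -- TI
    have hs : IsSimpleGroup (ProjectiveSpecialLinearGroup (Fin 2) F) := e.symm.isSimpleGroup
    have hcK : ¬ IsMulCommutative (ProjectiveSpecialLinearGroup (Fin 2) F) := by
      intro h
      apply hG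
      refine ⟨⟨fun a b => ?_⟩⟩
      apply e.injective
      rw [map_mul, map_mul]
      exact h.is_comm.comm _ _
    refine P2.congr e.symm ?_
    refine P2.of_TI hcK (r := r) (by omega) ?_ ?_ ?_
    · -- `r` divides the order
      obtain ⟨n, -, hn⟩ := FiniteField.card F r
      have h1 : r ∣ Nat.card (SpecialLinearGroup (Fin 2) F) := by
        rw [ClassicalGeometry.PSL2Basic.card_SL2, hn]
        exact (dvd_pow_self r n.ne_zero).mul_right _
      have h2 := card_eq_card_quotient_mul_card_subgroup (center (SpecialLinearGroup (Fin 2) F))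
      rw [h2] at h1
      rcases (hr.dvd_mul).1 h1 with h3 | h3
      · exact h3
      · exact absurd h3 (not_dvd_center hr (by omega))
    · intro P Q x hx hP hQ
      exact ClassicalGeometry.PSL2ElemOrder.sylow_eq_of_mem r P Q x hx hP hQ
    · intro y hy X hX hyX
      refine exists_normal_of_linear (F := F) (r := r) (SpecialLinearGroup.toLin' (n := Fin 2) (R := F))
        SpecialLinearGroup.toLin'_injective hr ?_ (by omega)
        (QuotientGroup.mk' (center (SpecialLinearGroup (Fin 2) F))) (QuotientGroup.mk'_surjective _) ?_ ?_ hy hX hyX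
      · rw [Module.finrank_fintype_fun_eq_card, Fintype.card_fin]
        omega
      · rw [QuotientGroup.ker_mk']
      · rw [QuotientGroup.ker_mk']
        exact not_dvd_center hr (by omega)
  · -- characteristic 2 or 3
    obtain ⟨n, -, hn⟩ := FiniteField.card F r
    have hr23 : r = 2 ∨ r = 3 := by
      have h2 := hr.two_le
      have h4 : r ≠ 4 := by
        rintro rfl
        norm_num at hr
      omega
    obtain ⟨p, a, hp, hp2, ha, h5, hd, hnd⟩ := exists_pp (N := Fintype.card F + 1) (by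
      intro k hk
      rcases hr23 with rfl | rfl
      · have h6 : 2 ∣ Fintype.card F := by rw [hn]; exact dvd_pow_self 2 n.ne_zero
        have hk0 : k ≠ 0 := by rintro rfl; omega
        have h7 : 2 ∣ Fintype.card F + 1 := by rw [hk]; exact dvd_pow_self 2 hk0
        omega
      · -- `3^n + 1 = 2^k`
        have h8 : ∀ m : ℕ, 3 ^ m % 8 = 1 ∨ 3 ^ m % 8 = 3 := by
          intro m
          induction m with
          | zero => left; rfl
          | succ m ih => rw [pow_succ]; omega
        have h9 := h8 n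
        rw [← hn] at h9
        have hk3 : 3 ≤ k := by
          by_contra hk3
          have h10 : 2 ^ k ≤ 2 ^ 2 := Nat.pow_le_pow_right two_pos (by omega)
          omega
        have h11 : 8 ∣ 2 ^ k := pow_dvd_pow 2 hk3
        omega) (by
      intro k hk
      rcases hr23 with rfl | rfl
      · have h6 : 2 ∣ Fintype.card F := by rw [hn]; exact dvd_pow_self 2 n.ne_zero
        have hk0 : k = 0 := by
          by_contra hk0
          have h7 : 2 ∣ 3 * 2 ^ k := (dvd_pow_self 2 hk0).mul_left 3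
          omega
        rw [hk0] at hk
        omega
      · have h6 : 3 ∣ Fintype.card F := by rw [hn]; exact dvd_pow_self 3 n.ne_zero
        omega) (by omega)
    obtain ⟨y, hy⟩ := hasSU_of (F := F) (r := r) hp hp2 ha h5 hd hnd
    exact P2.of_SU hG (HasSU.congr e.symm ⟨p, hp, hp2, y, hy⟩)

end Cfsg.Agent.H465.LTwo
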