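import Cfsg.Agent.H465.Bounds

/-!
# The lower bound for groups of class two (helper465)
-/

set_option autoImplicit false
set_option linter.unusedSectionVars false

namespace Cfsg.Agent.H465.Bounds

open Module Cfsg.Agent.H465.Weights

variable {K V : Type*} [Field K] [AddCommGroup V] [Module K V]
variable {G : Type*} [Group G] (ρ : G →* End K V)

/-- the centre of `R` -/
def Zc (R : Subgroup G) : Subgroup G := R ⊓ Subgroup.centralizer (R : Set G)

theorem mem_Zc {R : Subgroup G} {u : G} : u ∈ Zc R ↔ u ∈ R ∧ ∀ v ∈ R, v * u = u * v := by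
  rw [Zc, Subgroup.mem_inf, Subgroup.mem_centralizer_iff]
  rfl

theorem exists_character {A : Subgroup G} {v : V} (hv : v ≠ 0) (χ : A → K) (h : ∀ a : A, ρ a v = χ a • v) :
    ∃ lam : A →* Kˣ, ∀ a, (lam a : K) = χ a := by
  have h1 : χ 1 = 1 := by
    have := h 1
    rw [OneMemClass.coe_one, map_one, End.one_apply] at this
    have h2 : (χ 1 - 1) • v = 0 := by rw [sub_smul, ← this, one_smul, sub_self]
    exact sub_eq_zero.1 ((smul_eq_zero.1 h2).resolve_right hv)
  have hmul : ∀ a b, χ (a * b) = χ a * χ b := by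
    intro a b
    have h3 := h (a * b)
    rw [Subgroup.coe_mul, map_mul, End.mul_apply, h b, map_smul, h a, smul_smul] at h3
    have h2 : (χ (a * b) - χ a * χ b) • v = 0 := by rw [sub_smul, ← h3, mul_comm, sub_self]
    exact sub_eq_zero.1 ((smul_eq_zero.1 h2).resolve_right hv)
  have hinv : ∀ a, χ a * χ a⁻¹ = 1 := fun a => by rw [← hmul, mul_inv_cancel, h1]
  have hinv' : ∀ a, χ a⁻¹ * χ a = 1 := fun a => by rw [← hmul, inv_mul_cancel, h1]
  refine ⟨⟨⟨fun a => ⟨χ a, χ a⁻¹, hinv a, hinv' a⟩, ?_⟩, ?_⟩, fun a => rfl⟩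
  · exact Units.ext h1
  · intro a b
    exact Units.ext (hmul a b)

variable [Finite G] [IsAlgClosed K] [FiniteDimensional K V]

/-- an abelian group has a weight vector in an invariant subspace on which it acts commutatively -/
theorem exists_weight (A : Subgroup G) (W : Submodule K V) (hW : W ≠ ⊥) (hA : ∀ a ∈ A, ∀ w ∈ W, ρ a w ∈ W)
    (hc : ∀ a ∈ A, ∀ b ∈ A, ∀ w ∈ W, ρ a (ρ b w) = ρ b (ρ a w)) :
    ∃ (μ : A → K) (w : V), w ∈ W ∧ w ≠ 0 ∧ ∀ a : A, ρ a w = μ a • w := by
  let f : A → End K W := fun a => (ρ a).restrict (hA a a.2)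
  have hf : ∀ i j, Commute (f i) (f j) := by
    intro i j
    apply LinearMap.ext
    intro w
    exact Subtype.ext (hc i i.2 j j.2 w w.2)
  have hW' : (⊤ : Submodule K W) ≠ ⊥ := by
    have : Nontrivial W := Submodule.nontrivial_iff_ne_bot.2 hW
    exact top_ne_bot
  obtain ⟨μ, w, -, hw0, hw⟩ := exists_wsp hf (finrank K (⊤ : Submodule K W)) ⊤ rfl hW' (fun _ _ _ => trivial)
  rw [mem_wsp] at hw
  exact ⟨μ, w, w.2, fun h => hw0 (Subtype.ext h), fun a => congrArg Subtype.val (hw a)⟩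

omit [IsAlgClosed K] [FiniteDimensional K V] in
/-- nontrivial elements of a cyclic `p`-group have the element of order `p` as a power -/
theorem socle_mem {p a : ℕ} [Fact p.Prime] {y : G} (hy : orderOf y = p ^ a) (ha : 1 ≤ a) {g : G}
    (hg : g ∈ Subgroup.zpowers y) (hg1 : g ≠ 1) : y ^ p ^ (a - 1) ∈ Subgroup.zpowers g := by
  have hp : p.Prime := Fact.out
  obtain ⟨k, rfl⟩ := (mem_powers_iff_mem_zpowers.2 hg : g ∈ Submonoid.powers y)
  simp only at hg1 ⊢
  obtain ⟨j, hj, hgj⟩ := (Nat.dvd_prime_pow hp).1 (Nat.gcd_dvd_right k (p ^ a))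
  have hja : j ≤ a - 1 := by
    by_contra h
    have : j = a := by omega
    subst this
    apply hg1
    rw [← orderOf_dvd_iff_pow_eq_one, hy, ← hgj]
    exact Nat.gcd_dvd_left _ _
  have h1 : y ^ p ^ j ∈ Subgroup.zpowers (y ^ k) := by
    rw [← hgj]
    refine Subgroup.mem_zpowers_iff.2 ⟨Nat.gcdA k (p ^ a), ?_⟩
    rw [← zpow_natCast y (Nat.gcd k (p ^ a)), Nat.gcd_eq_gcd_ab, zpow_add, zpow_mul, zpow_mul, zpow_natCast,
      zpow_natCast, ← hy, pow_orderOf_eq_one, one_zpow, mul_one]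
  have h2 : y ^ p ^ (a - 1) = (y ^ p ^ j) ^ p ^ (a - 1 - j) := by
    rw [← pow_mul, ← pow_add]
    congr 2
    omega
  rw [h2]
  exact Subgroup.pow_mem _ h1 _

variable (R : Subgroup G) [hRn : R.Normal]

theorem nonabelian_bound (hK : (Nat.card R : K) ≠ 0) {p a : ℕ} [Fact p.Prime] {y : G} (hy : orderOf y = p ^ a)
    (ha : 1 ≤ a) (hcop : p.Coprime (Nat.card R)) (hZ : ∀ u ∈ R, ∀ v ∈ R, u * v * u⁻¹ * v⁻¹ ∈ Zc R)
    (hfix : ∀ u ∈ R, y ^ p ^ (a - 1) * u = u * y ^ p ^ (a - 1) ↔ u ∈ Zc R)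
    (hne : ∃ u ∈ R, ∃ v ∈ R, ρ (u * v * u⁻¹ * v⁻¹) ≠ 1) :
    ∃ t c d : ℕ, t * c = p ^ a ∧ p ∣ c ∧ c ∣ d * d - 1 ∧ t * d ≤ finrank K V ∧ d * d ∣ Nat.card R ∧ d ≠ 1 := by
  classical
  have hp : p.Prime := Fact.out
  set y1 := y ^ p ^ (a - 1) with hy1
  -- the commutator subgroup of `R`
  set N : Subgroup G := ⁅R, R⁆ with hN
  have hNn : N.Normal := Subgroup.commutator_normal R R
  have hNR : N ≤ R := by
    rw [hN, Subgroup.commutator_le]
    intro u hu v hv
    rw [commutatorElement_def]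
    exact mul_mem (mul_mem (mul_mem hu hv) (inv_mem hu)) (inv_mem hv)
  have hNZ : N ≤ Zc R := by
    rw [hN, Subgroup.commutator_le]
    intro u hu v hv
    rw [commutatorElement_def]
    exact hZ u hu v hv
  have hKN : (Nat.card N : K) ≠ 0 := by
    intro h
    apply hK
    obtain ⟨c, hc⟩ := Subgroup.card_dvd_of_le hNR
    rw [hc, Nat.cast_mul, h, zero_mul]
  obtain ⟨u0, hu0, v0, hv0, hne0⟩ := hne
  obtain ⟨W, hW, hW1, hW2⟩ := exists_moving ρ N hKN (u0 := u0 * v0 * u0⁻¹ * v0⁻¹)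
    (by rw [← commutatorElement_def]; exact Subgroup.commutator_mem_commutator hu0 hv0) hne0
  have hW3 : ∀ g : G, ∀ v ∈ W, ρ g v ∈ W := by
    intro g
    refine hW2 g ?_
    rw [Subgroup.normalizer_eq_top]
    trivial
  -- a weight of the centre
  have hZcomm : ∀ x ∈ Zc R, ∀ z ∈ Zc R, x * z = z * x := fun x hx z hz => (mem_Zc.1 hz).2 x (mem_Zc.1 hx).1
  let f : Zc R → End K V := fun z => ρ z
  have hcomm : ∀ i j, Commute (f i) (f j) := by
    intro i j
    show ρ (i : G) * ρ (j : G) = ρ (j : G) * ρ (i : G)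
    rw [← map_mul, ← map_mul, hZcomm _ i.2 _ j.2]
  obtain ⟨χ, v, hvW, hvne, hvχ⟩ := exists_wsp hcomm (finrank K W) W rfl hW (fun i w hw => hW3 _ w hw)
  rw [mem_wsp] at hvχ
  obtain ⟨lam, hlam⟩ := exists_character ρ hvne χ hvχ
  -- the weight space
  set E : Submodule K V := wsp f χ with hE
  have memE : ∀ w, w ∈ E ↔ ∀ z : Zc R, ρ z w = χ z • w := fun w => mem_wsp
  have hvE : v ∈ E := (memE v).2 hvχ
  have hRE : ∀ r ∈ R, ∀ w ∈ E, ρ r w ∈ E := by
    intro r hr w hw
    rw [memE] at hw ⊢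
    intro z
    have h1 : (z : G) * r = r * z := ((mem_Zc.1 z.2).2 r hr).symm
    rw [← End.mul_apply, ← map_mul, h1, map_mul, End.mul_apply, hw z, map_smul]
  -- the pairing
  obtain ⟨cm, hcm⟩ : ∃ cm : R → R → Zc R, ∀ u w : R, ((cm u w : Zc R) : G) = (u : G) * w * (u : G)⁻¹ * (w : G)⁻¹ :=
    ⟨fun u w => ⟨(u : G) * w * (u : G)⁻¹ * (w : G)⁻¹, hZ u u.2 w w.2⟩, fun _ _ => rfl⟩
  have hcz : ∀ (z : Zc R) (u : R), (u : G) * z * (u : G)⁻¹ = z := by
    intro z u
    rw [(mem_Zc.1 z.2).2 u u.2, mul_inv_cancel_right]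
  have cm_right : ∀ u w w' : R, cm u (w * w') = cm u w * cm u w' := by
    intro u w w'
    apply Subtype.ext
    rw [Subgroup.coe_mul]
    have h1 := hcz (cm u w') w
    calc ((cm u (w * w') : Zc R) : G) = ((cm u w : Zc R) : G) * ((w : G) * ((cm u w' : Zc R) : G) * (w : G)⁻¹) := by
          rw [hcm, hcm, hcm, Subgroup.coe_mul]; group
      _ = _ := by rw [h1]
  have cm_left : ∀ u u' w : R, cm (u * u') w = cm u w * cm u' w := by
    intro u u' w
    apply Subtype.ext
    rw [Subgroup.coe_mul]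
    have h1 := hcz (cm u' w) u
    calc ((cm (u * u') w : Zc R) : G) = ((u : G) * ((cm u' w : Zc R) : G) * (u : G)⁻¹) * ((cm u w : Zc R) : G) := by
          rw [hcm, hcm, hcm, Subgroup.coe_mul]; group
      _ = ((cm u' w : Zc R) : G) * ((cm u w : Zc R) : G) := by rw [h1]
      _ = _ := hZcomm _ (cm u' w).2 _ (cm u w).2
  obtain ⟨β, hβ⟩ : ∃ β : R →* (R →* Kˣ), ∀ u w, β u w = lam (cm u w) :=
    ⟨MonoidHom.mk' (fun u => MonoidHom.mk' (fun w => lam (cm u w)) fun w w' => by rw [cm_right, map_mul])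
      fun u u' => by
        ext w
        show ((lam (cm (u * u') w) : Kˣ) : K) = ((lam (cm u w) * lam (cm u' w) : Kˣ) : K)
        rw [cm_left, map_mul], fun _ _ => rfl⟩
  have halt : ∀ u, β u u = 1 := by
    intro u
    rw [hβ]
    have : cm u u = 1 := by
      apply Subtype.ext
      rw [hcm, OneMemClass.coe_one]
      group
    rw [this, map_one]
  have hskew : ∀ u w, β u w = (β w u)⁻¹ := by
    intro u w
    rw [hβ, hβ, ← map_inv]
    congr 1
    apply Subtype.ext
    rw [Subgroup.coe_inv, hcm, hcm]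
    group
  obtain ⟨A, hA1, hA2, hA3⟩ := lagrangian_of_pairing β halt
  set d := A.index with hd
  -- elements of `R` conjugate by `ρ`
  have hrel : ∀ (x r : R) (w : V), w ∈ E → ρ (x : G) (ρ (r : G) w) = (β x r : K) • ρ (r : G) (ρ (x : G) w) := by
    intro x r w hw
    have h1 : (x : G) * r = (cm x r : Zc R) * (r * x) := by
      rw [hcm]; group
    have h2 : ρ (r : G) (ρ (x : G) w) ∈ E := hRE r r.2 _ (hRE x x.2 w hw)
    have h3 : ρ ((x : G) * r) w = ρ ((cm x r : Zc R) : G) (ρ (r : G) (ρ (x : G) w)) := by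
      rw [h1, map_mul, map_mul, End.mul_apply, End.mul_apply]
    rw [← End.mul_apply, ← map_mul, h3, (memE _).1 h2, hβ, hlam]
  -- the dimension of the weight space
  have hEd : d ≤ finrank K E := by
    have hEne : E ≠ ⊥ := by
      rw [Submodule.ne_bot_iff]
      exact ⟨v, hvE, hvne⟩
    have hAR : A.map R.subtype ≤ R := Subgroup.map_subtype_le A
    obtain ⟨μ, w, hwE, hw0, hw⟩ := exists_weight ρ (A.map R.subtype) E hEne
      (fun x hx w hw => hRE x (hAR hx) w hw) (by
        rintro _ ⟨x, hx, rfl⟩ _ ⟨z, hz, rfl⟩ w hw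
        have h1 := hrel x z w hw
        rw [hA1 x hx z hz, Units.val_one, one_smul] at h1
        exact h1)
    have hμ : ∀ x (hx : x ∈ A), ρ (x : G) w = μ ⟨x, ⟨x, hx, rfl⟩⟩ • w := fun x hx => hw ⟨x, ⟨x, hx, rfl⟩⟩
    -- weights of the translates
    let g : A → End K E := fun x => (ρ (x : R)).restrict (hRE _ (x : R).2)
    have hgcomm : ∀ i j, Commute (g i) (g j) := by
      intro i j
      apply LinearMap.ext
      intro u
      apply Subtype.ext
      have h1 := hrel i j u u.2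
      rw [hA1 _ i.2 _ j.2, Units.val_one, one_smul] at h1
      exact h1
    let ψ : R → A → K := fun r x => (β x r : K) * μ ⟨(x : R), ⟨x, x.2, rfl⟩⟩
    have hψ : ∀ r : R, (⟨ρ (r : G) w, hRE r r.2 w hwE⟩ : E) ∈ wsp g (ψ r) := by
      intro r
      rw [mem_wsp]
      intro x
      apply Subtype.ext
      show ρ ((x : R) : G) (ρ (r : G) w) = ((β x r : K) * μ _) • ρ (r : G) w
      rw [hrel x r w hwE, hμ _ x.2, map_smul, smul_smul]
    have hμ0 : ∀ x (hx : x ∈ A), μ ⟨x, ⟨x, hx, rfl⟩⟩ ≠ 0 := by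
      intro x hx h
      have h1 := hμ x hx
      rw [h, zero_smul] at h1
      exact hw0 (apply_inj ρ (x : G) (by rw [h1, map_zero]))
    have hinj : ∀ r r' : R, ψ r = ψ r' → r'⁻¹ * r ∈ A := by
      intro r r' h
      apply hA2
      intro x hx
      have h1 := congrFun h ⟨x, hx⟩
      have h2 : (β x r : K) = β x r' := mul_right_cancel₀ (hμ0 x hx) h1
      have h3 : β x r = β x r' := Units.ext h2
      rw [hskew, map_mul, map_inv, h3, inv_mul_cancel, inv_one]
    -- one representative for every coset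
    have hQ : Finite (R ⧸ A) := inferInstance
    have : Fintype (R ⧸ A) := Fintype.ofFinite _
    have hind : iSupIndep fun q : R ⧸ A => wsp g (ψ q.out) := by
      refine (indep_wsp hgcomm).comp ?_
      intro q q' h
      have h1 := hinj _ _ h
      have h2 : (QuotientGroup.mk q'.out : R ⧸ A) = QuotientGroup.mk q.out := QuotientGroup.eq.2 h1
      rw [QuotientGroup.out_eq', QuotientGroup.out_eq'] at h2
      exact h2.symm
    have hfin := card_mul_le _ hind 1 (fun q => by
      rw [Nat.one_le_iff_ne_zero, ne_eq, Submodule.finrank_eq_zero, Submodule.eq_bot_iff]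
      push Not
      refine ⟨_, hψ q.out, fun h => hw0 (apply_inj ρ (q.out : G) ?_)⟩
      rw [map_zero]
      exact congrArg Subtype.val h)
    rw [mul_one, ← Nat.card_eq_fintype_card] at hfin
    exact hfin
  -- the stabiliser of the weight in `⟨y⟩`
  have hconj : ∀ g : G, ∀ z ∈ Zc R, g⁻¹ * z * g ∈ Zc R := by
    intro g z hz
    rw [mem_Zc] at hz ⊢
    refine ⟨?_, fun r hr => ?_⟩
    · have := hRn.conj_mem z hz.1 g⁻¹
      simpa using this
    · have h1 := hz.2 (g * r * g⁻¹) (hRn.conj_mem r hr g)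
      calc r * (g⁻¹ * z * g) = g⁻¹ * ((g * r * g⁻¹) * z) * g := by group
        _ = g⁻¹ * (z * (g * r * g⁻¹)) * g := by rw [h1]
        _ = _ := by group
  let S : Subgroup G :=
    { carrier := {g | g ∈ Subgroup.zpowers y ∧ ∀ z (hz : z ∈ Zc R), lam ⟨g⁻¹ * z * g, hconj g z hz⟩ = lam ⟨z, hz⟩}
      one_mem' := ⟨one_mem _, fun z hz => by congr 1; apply Subtype.ext; simp⟩
      mul_mem' := by
        rintro g h ⟨hg, hg'⟩ ⟨hh, hh'⟩
        refine ⟨mul_mem hg hh, fun z hz => ?_⟩
        rw [← hg' z hz, ← hh' _ (hconj g z hz)]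
        congr 1
        apply Subtype.ext
        show (g * h)⁻¹ * z * (g * h) = h⁻¹ * (g⁻¹ * z * g) * h
        group
      inv_mem' := by
        rintro g ⟨hg, hg'⟩
        refine ⟨inv_mem hg, fun z hz => ?_⟩
        have h1 := hg' _ (hconj g⁻¹ z hz)
        rw [← h1]
        congr 1
        apply Subtype.ext
        show g⁻¹ * ((g⁻¹)⁻¹ * z * g⁻¹) * g = z
        group }
  have hSle : S ≤ Subgroup.zpowers y := fun g hg => hg.1
  have hy1mem : y1 ∈ Subgroup.zpowers y := Subgroup.npow_mem_zpowers _ _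
  have hy1S : y1 ∈ S := by
    refine ⟨hy1mem, fun z hz => ?_⟩
    have h1 := (hfix z (mem_Zc.1 hz).1).2 hz
    congr 1
    apply Subtype.ext
    show y1⁻¹ * z * y1 = z
    rw [mul_assoc, ← h1, inv_mul_cancel_left]
  have hy1o : orderOf y1 = p := by
    rw [hy1, orderOf_pow, hy]
    have h2 : Nat.gcd (p ^ a) (p ^ (a - 1)) = p ^ (a - 1) := Nat.gcd_eq_right (pow_dvd_pow p (by omega))
    rw [h2, Nat.pow_div (by omega) hp.pos]
    have : a - (a - 1) = 1 := by omega
    rw [this, pow_one]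
  have hYcard : Nat.card (Subgroup.zpowers y) = p ^ a := by rw [Nat.card_zpowers, hy]
  have hpc : p ∣ Nat.card S := by
    rw [← hy1o, ← Nat.card_zpowers]
    exact Subgroup.card_dvd_of_le (Subgroup.zpowers_le.2 hy1S)
  have hfree : ∀ g ∈ Subgroup.zpowers y, g ≠ 1 → y1 ∈ Subgroup.zpowers g := fun g hg hg1 => socle_mem hy ha hg hg1
  -- the number of weights
  have hEt : (S.subgroupOf (Subgroup.zpowers y)).index * d ≤ finrank K V := by
    let χ' : G → Zc R → K := fun g z => χ ⟨g⁻¹ * z * g, hconj g z z.2⟩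
    have hmap : ∀ g : G, ∀ w ∈ E, ρ g w ∈ wsp f (χ' g) := by
      intro g w hw
      rw [mem_wsp]
      intro z
      show ρ (z : G) (ρ g w) = χ ⟨g⁻¹ * z * g, hconj g z z.2⟩ • ρ g w
      have h1 : (z : G) * g = g * (g⁻¹ * z * g) := by group
      have h2 : ρ ((z : G) * g) w = ρ g (ρ (g⁻¹ * z * g) w) := by
        rw [h1, map_mul, End.mul_apply]
      rw [← End.mul_apply, ← map_mul, h2, (memE w).1 hw ⟨g⁻¹ * z * g, hconj g z z.2⟩, map_smul]
    have hfin : ∀ g : G, d ≤ finrank K (wsp f (χ' g)) := by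
      intro g
      refine le_trans hEd ?_
      let φ : E →ₗ[K] wsp f (χ' g) := (ρ g).restrict (hmap g)
      refine LinearMap.finrank_le_finrank_of_injective (f := φ) ?_
      intro w w' h
      apply Subtype.ext
      exact apply_inj ρ g (congrArg Subtype.val h)
    have hinj : ∀ g ∈ Subgroup.zpowers y, ∀ g' ∈ Subgroup.zpowers y, χ' g = χ' g' → g'⁻¹ * g ∈ S := by
      intro g hg g' hg' h
      refine ⟨mul_mem (inv_mem hg') hg, fun z hz => ?_⟩
      have hz' : g' * z * g'⁻¹ ∈ Zc R := by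
        have := hconj g'⁻¹ z hz
        rwa [inv_inv] at this
      have h1 := congrFun h ⟨_, hz'⟩
      apply Units.ext
      rw [hlam, hlam]
      have e1 : (⟨(g'⁻¹ * g)⁻¹ * z * (g'⁻¹ * g), hconj _ z hz⟩ : Zc R) =
          ⟨g⁻¹ * (g' * z * g'⁻¹) * g, hconj g _ hz'⟩ := by
        apply Subtype.ext
        show (g'⁻¹ * g)⁻¹ * z * (g'⁻¹ * g) = g⁻¹ * (g' * z * g'⁻¹) * g
        group
      have e2 : (⟨z, hz⟩ : Zc R) = ⟨g'⁻¹ * (g' * z * g'⁻¹) * g', hconj g' _ hz'⟩ := by
        apply Subtype.ext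
        show z = g'⁻¹ * (g' * z * g'⁻¹) * g'
        group
      rw [e1, e2]
      exact h1
    have hQ : Finite (Subgroup.zpowers y ⧸ S.subgroupOf (Subgroup.zpowers y)) := inferInstance
    have : Fintype (Subgroup.zpowers y ⧸ S.subgroupOf (Subgroup.zpowers y)) := Fintype.ofFinite _
    have hind : iSupIndep fun q : Subgroup.zpowers y ⧸ S.subgroupOf (Subgroup.zpowers y) =>
        wsp f (χ' (q.out : Subgroup.zpowers y)) := by
      refine (indep_wsp hcomm).comp ?_
      intro q q' h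
      have h1 := hinj _ q.out.2 _ q'.out.2 h
      have h2 : (QuotientGroup.mk q'.out : Subgroup.zpowers y ⧸ S.subgroupOf (Subgroup.zpowers y)) =
          QuotientGroup.mk q.out := by
        rw [QuotientGroup.eq, Subgroup.mem_subgroupOf]
        exact h1
      rw [QuotientGroup.out_eq', QuotientGroup.out_eq'] at h2
      exact h2.symm
    have h3 := card_mul_le _ hind d fun q => hfin _
    rw [← Nat.card_eq_fintype_card] at h3
    exact h3
  -- the action on `R / ker β`
  have hdvd : Nat.card S ∣ d * d - 1 := by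
    rw [hA3]
    refine card_dvd_quot R β.ker hcop S hSle (IsPGroup.of_card (n := 1) (by rw [Nat.card_zpowers, hy1o, pow_one]))
      hfree ?_ ?_
    · intro s hs b hb
      rw [MonoidHom.mem_ker] at hb ⊢
      ext r
      have hr' : s⁻¹ * (r : G) * s ∈ R := by
        have := hRn.conj_mem r r.2 s⁻¹
        rwa [inv_inv] at this
      have h1 : lam (cm b ⟨_, hr'⟩) = 1 := by
        rw [← hβ, hb]
        rfl
      rw [hβ, ← hs.2 _ (cm _ r).2]
      have e1 : (⟨s⁻¹ * ((cm ⟨s * b * s⁻¹, Subgroup.Normal.conj_mem inferInstance _ b.2 s⟩ r : Zc R) : G) * s,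
          hconj s _ (cm _ r).2⟩ : Zc R) = cm b ⟨_, hr'⟩ := by
        apply Subtype.ext
        show s⁻¹ * ((cm ⟨s * b * s⁻¹, _⟩ r : Zc R) : G) * s = _
        rw [hcm, hcm]
        group
      rw [e1, h1]
      rfl
    · intro u hu
      have h1 := (hfix u u.2).1 hu
      rw [MonoidHom.mem_ker]
      ext r
      rw [hβ]
      have : cm u r = 1 := by
        apply Subtype.ext
        rw [hcm, OneMemClass.coe_one, mul_inv_eq_one, mul_inv_eq_iff_eq_mul]
        exact ((mem_Zc.1 h1).2 r r.2).symm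
      rw [this, map_one]
      rfl
  refine ⟨(S.subgroupOf (Subgroup.zpowers y)).index, Nat.card S, d, ?_, hpc, hdvd, hEt, ?_, ?_⟩
  · rw [← hYcard, ← Nat.card_congr (Subgroup.subgroupOfEquivOfLe hSle).toEquiv, Subgroup.index_mul_card]
  · rw [hA3]
    exact Subgroup.index_dvd_card _
  · intro h1
    have h2 : β.ker = ⊤ := by
      rw [← Subgroup.index_eq_one, ← hA3, h1]
    -- the commutators fix `v`
    have h3 : N ≤ {carrier := {g | ρ g v = v}, one_mem' := by simp, mul_mem' := by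
                    intro g h hg hh
                    show ρ (g * h) v = v
                    rw [map_mul, End.mul_apply, show ρ h v = v from hh, show ρ g v = v from hg], inv_mem' := by
                    intro g hg
                    show ρ g⁻¹ v = v
                    have : ρ g v = v := hg
                    rw [← this, inv_apply, this] : Subgroup G} := by
      rw [hN, Subgroup.commutator_le]
      intro u hu w hw
      rw [commutatorElement_def]
      show ρ (u * w * u⁻¹ * w⁻¹) v = v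
      have h4 : β ⟨u, hu⟩ ⟨w, hw⟩ = 1 := by
        have h5 : (⟨u, hu⟩ : R) ∈ β.ker := by rw [h2]; trivial
        rw [MonoidHom.mem_ker.1 h5]
        rfl
      rw [hβ] at h4
      have h6 := hvχ (cm ⟨u, hu⟩ ⟨w, hw⟩)
      rw [← hlam, h4, Units.val_one, one_smul] at h6
      have h7 : ((cm ⟨u, hu⟩ ⟨w, hw⟩ : Zc R) : G) = u * w * u⁻¹ * w⁻¹ := hcm _ _
      rw [← h7]
      exact h6
    exact hvne (hW1 v hvW fun u hu => h3 hu)

end Cfsg.Agent.H465.Bounds
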