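import Cfsg.Agent.H198.TriAut

/-!
# `PΩ⁺₈(q)`, `q² + q + 1` prime (`q = 2, 3, 5`): frames

`Frame c₁ c₂ W₁ W₂` : a hyperbolic pair `c₁, c₂` and two totally singular 3-spaces `W₁`, `W₂` orthogonal to it with
`W₁ ∩ W₂ = 0`, so that `V = ⟨c₁, c₂⟩ ⊥ (W₁ ⊕ W₂)`.
`Singer r g c₁ c₂ W₁ W₂` : `g` of order `r` fixes `c₁`, `c₂` and is transitive on the points of `W₁` and of `W₂`.
-/

set_option autoImplicit false

namespace Cfsg.Agent.H465.OEight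

open Module QuadraticMap Cfsg.Agent.LieClassical.OrthCore Cfsg.Agent.LieClassical.OrthTrans
  Cfsg.Agent.ClassicalGeometry.OrthAut1 Cfsg.Agent.LieClassical.QuadForms Cfsg.Agent.ClassicalGeometry.TrialityOct
  Cfsg.Agent.ClassicalGeometry.Triality

variable {F : Type*} [Field F]

/-- a frame of the space `V8 F` with the form `plusForm 4 F` -/
structure Frame (c₁ c₂ : V8 F) (W₁ W₂ : Submodule F (V8 F)) : Prop where
  q₁ : plusForm 4 F c₁ = 0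
  q₂ : plusForm 4 F c₂ = 0
  pair : polar (plusForm 4 F) c₁ c₂ = 1
  ts₁ : TS (plusForm 4 F) W₁
  ts₂ : TS (plusForm 4 F) W₂
  d₁ : finrank F W₁ = 3
  d₂ : finrank F W₂ = 3
  disj : W₁ ⊓ W₂ = ⊥
  perp₁ : ∀ w ∈ W₁, polar (plusForm 4 F) c₁ w = 0 ∧ polar (plusForm 4 F) c₂ w = 0
  perp₂ : ∀ w ∈ W₂, polar (plusForm 4 F) c₁ w = 0 ∧ polar (plusForm 4 F) c₂ w = 0

/-- `g` of order `r` preserves the frame, fixes `c₁`, `c₂`, and is transitive on the points of `W₁` and `W₂` -/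
structure Singer (r : ℕ) (g : V8 F ≃ₗ[F] V8 F) (c₁ c₂ : V8 F) (W₁ W₂ : Submodule F (V8 F)) : Prop where
  mem : g ∈ E (plusForm 4 F)
  ord : orderOf g = r
  fix₁ : g c₁ = c₁
  fix₂ : g c₂ = c₂
  inv₁ : ∀ w ∈ W₁, g w ∈ W₁
  inv₂ : ∀ w ∈ W₂, g w ∈ W₂
  trans₁ : ∀ w ∈ W₁, ∀ w' ∈ W₁, w ≠ 0 → w' ≠ 0 → ∃ (k : ℕ) (a : F), (g ^ k) w = a • w'
  trans₂ : ∀ w ∈ W₂, ∀ w' ∈ W₂, w ≠ 0 → w' ≠ 0 → ∃ (k : ℕ) (a : F), (g ^ k) w = a • w'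

/-- a similitude of the form -/
def Sim (b : V8 F ≃ₗ[F] V8 F) : Prop := ∃ c : F, c ≠ 0 ∧ ∀ v, plusForm 4 F (b v) = c * plusForm 4 F v

/-- the image of a subspace -/
abbrev im (b : V8 F ≃ₗ[F] V8 F) (S : Submodule F (V8 F)) : Submodule F (V8 F) := S.map b.toLinearMap

end Cfsg.Agent.H465.OEight
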