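import Cfsg.Agent.H465.OEFrame

/-!
# Solvable groups of similitudes containing a Singer element (helper465)

* `claim_six` : if `M` fixes `⟨c₁⟩` then every element of `M` fixes `⟨c₁⟩ ⊕ W₁` or `⟨c₁⟩ ⊕ W₂` or exchanges them;
* `claim_eight` : `M` has a totally singular invariant subspace or permutes `{W₁, W₂}`.
-/

set_option autoImplicit false
set_option linter.unusedSectionVars false

namespace Cfsg.Agent.H465.OEight

open Module QuadraticMap Cfsg.Agent.LieClassical.OrthCore Cfsg.Agent.LieClassical.OrthTrans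
  Cfsg.Agent.ClassicalGeometry.OrthAut1 Cfsg.Agent.LieClassical.QuadForms Cfsg.Agent.ClassicalGeometry.TrialityOct
  Cfsg.Agent.ClassicalGeometry.Triality

universe u

variable {F : Type u} [Field F] {c₁ c₂ : V8 F} {W₁ W₂ : Submodule F (V8 F)}

/-! ### images, similitudes -/

theorem mem_im {b : V8 F ≃ₗ[F] V8 F} {S : Submodule F (V8 F)} {v : V8 F} : v ∈ im b S ↔ ∃ w ∈ S, b w = v := Iff.rfl

theorem finrank_im (b : V8 F ≃ₗ[F] V8 F) (S : Submodule F (V8 F)) : finrank F (im b S) = finrank F S :=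
  LinearEquiv.finrank_map_eq b S

theorem im_eq_of_le {b : V8 F ≃ₗ[F] V8 F} {S : Submodule F (V8 F)} (h : ∀ v ∈ S, b v ∈ S) : im b S = S := by
  apply Submodule.eq_of_le_of_finrank_eq
  · rintro _ ⟨v, hv, rfl⟩
    exact h v hv
  · exact finrank_im b S

theorem im_injective (b : V8 F ≃ₗ[F] V8 F) : Function.Injective (im b) :=
  Submodule.map_injective_of_injective b.injective

theorem Inv.im_eq {M : Subgroup (V8 F ≃ₗ[F] V8 F)} {S : Submodule F (V8 F)} (h : Inv M S) {m : V8 F ≃ₗ[F] V8 F}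
    (hm : m ∈ M) : im m S = S := im_eq_of_le (h m hm)

theorem inv_of_im {M : Subgroup (V8 F ≃ₗ[F] V8 F)} {S : Submodule F (V8 F)} (h : ∀ m ∈ M, im m S = S) : Inv M S := by
  intro m hm v hv
  have h1 : m v ∈ im m S := ⟨v, hv, rfl⟩
  rwa [h m hm] at h1

theorem Inv.inf {M : Subgroup (V8 F ≃ₗ[F] V8 F)} {S T : Submodule F (V8 F)} (h : Inv M S) (h' : Inv M T) :
    Inv M (S ⊓ T) := fun m hm v hv => ⟨h m hm v hv.1, h' m hm v hv.2⟩

theorem Inv.sup {M : Subgroup (V8 F ≃ₗ[F] V8 F)} {S T : Submodule F (V8 F)} (h : Inv M S) (h' : Inv M T) :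
    Inv M (S ⊔ T) := by
  intro m hm v hv
  obtain ⟨a, ha, b, hb, rfl⟩ := Submodule.mem_sup.1 hv
  rw [map_add]
  exact Submodule.add_mem_sup (h m hm a ha) (h' m hm b hb)

theorem Sim.polar {b : V8 F ≃ₗ[F] V8 F} (h : Sim b) :
    ∃ c : F, c ≠ 0 ∧ ∀ v w, QuadraticMap.polar (plusForm 4 F) (b v) (b w) = c * QuadraticMap.polar (plusForm 4 F) v w := by
  obtain ⟨c, hc, h1⟩ := h
  refine ⟨c, hc, fun v w => ?_⟩
  simp only [QuadraticMap.polar]
  rw [← map_add, h1, h1, h1]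
  ring

theorem Sim.polar_eq_zero {b : V8 F ≃ₗ[F] V8 F} (h : Sim b) {v w : V8 F}
    (h0 : QuadraticMap.polar (plusForm 4 F) v w = 0) : QuadraticMap.polar (plusForm 4 F) (b v) (b w) = 0 := by
  obtain ⟨c, -, h1⟩ := h.polar
  rw [h1, h0, mul_zero]

theorem Sim.q_eq_zero {b : V8 F ≃ₗ[F] V8 F} (h : Sim b) {v : V8 F} (h0 : plusForm 4 F v = 0) :
    plusForm 4 F (b v) = 0 := by
  obtain ⟨c, -, h1⟩ := h
  rw [h1, h0, mul_zero]

/-- the orthogonal complement of a subspace -/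
def orth (T : Submodule F (V8 F)) : Submodule F (V8 F) where
  carrier := {v | ∀ t ∈ T, polar (plusForm 4 F) t v = 0}
  add_mem' := fun {a b} ha hb t ht => by rw [polar_add_right, ha t ht, hb t ht, add_zero]
  zero_mem' := fun t _ => polar_zero_right _ _
  smul_mem' := fun c v hv t ht => by rw [polar_smul_right, hv t ht, smul_zero]

theorem mem_orth {T : Submodule F (V8 F)} {v : V8 F} : v ∈ orth T ↔ ∀ t ∈ T, polar (plusForm 4 F) t v = 0 := Iff.rfl

variable {M : Subgroup (V8 F ≃ₗ[F] V8 F)}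

theorem inv_orth (hsim : ∀ m ∈ M, Sim m) {T : Submodule F (V8 F)} (hT : Inv M T) : Inv M (orth T) := by
  intro m hm v hv t ht
  have h1 := (hsim m hm).polar_eq_zero (hv _ (hT m⁻¹ (M.inv_mem hm) t ht))
  have h2 : m (m⁻¹ t) = t := m.apply_symm_apply t
  rwa [h2] at h1

theorem inv_perp (hsim : ∀ m ∈ M, Sim m) {v : V8 F} (hv : Inv M (Submodule.span F {v})) : Inv M (perp v) := by
  intro m hm a ha
  have h1 : m⁻¹ v ∈ Submodule.span F {v} := hv m⁻¹ (M.inv_mem hm) v (Submodule.mem_span_singleton_self v)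
  obtain ⟨c, hc⟩ := Submodule.mem_span_singleton.1 h1
  have h2 : polar (plusForm 4 F) (m⁻¹ v) a = 0 := by
    rw [← hc, polar_smul_left]
    rw [mem_perp.1 ha, smul_zero]
  have h3 := (hsim m hm).polar_eq_zero h2
  have h4 : m (m⁻¹ v) = v := m.apply_symm_apply v
  rwa [h4] at h3

/-! ### subspaces invariant under a Singer element -/

section

variable {r : ℕ} {g : V8 F ≃ₗ[F] V8 F} (h : Frame c₁ c₂ W₁ W₂) (hs : Singer r g c₁ c₂ W₁ W₂)

/-- the plane `⟨c₁, c₂⟩` -/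
def plane (c₁ c₂ : V8 F) : Submodule F (V8 F) := Submodule.span F {c₁, c₂}

theorem mem_plane {v : V8 F} : v ∈ plane c₁ c₂ ↔ ∃ a b : F, a • c₁ + b • c₂ = v := Submodule.mem_span_pair

include h

theorem Frame.polar_comb (a b : F) : polar (plusForm 4 F) c₁ (a • c₁ + b • c₂) = b ∧
    polar (plusForm 4 F) c₂ (a • c₁ + b • c₂) = a := by
  rw [polar_add_right, polar_add_right, polar_smul_right, polar_smul_right, polar_smul_right, polar_smul_right,
    polar_self_of h.q₁, polar_self_of h.q₂, h.pair, polar_comm _ c₂ c₁, h.pair]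
  constructor <;> simp

theorem Frame.q_comb (a b : F) : plusForm 4 F (a • c₁ + b • c₂) = a * b := by
  rw [Q_add, QuadraticMap.map_smul, QuadraticMap.map_smul, h.q₁, h.q₂, polar_smul_left, polar_smul_right, h.pair]
  simp

theorem Frame.c₁_ne : c₁ ≠ 0 := by
  rintro rfl
  have := h.pair
  rw [polar_zero_left] at this
  exact zero_ne_one this

theorem Frame.polar_U {u : V8 F} (hu : u ∈ W₁ ⊔ W₂) :
    polar (plusForm 4 F) c₁ u = 0 ∧ polar (plusForm 4 F) c₂ u = 0 := by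
  rw [h.sup_eq, Submodule.mem_inf] at hu
  exact hu

theorem Frame.plane_perp {c u : V8 F} (hc : c ∈ plane c₁ c₂) (hu : u ∈ W₁ ⊔ W₂) : polar (plusForm 4 F) c u = 0 := by
  obtain ⟨a, b, rfl⟩ := mem_plane.1 hc
  rw [polar_add_left, polar_smul_left, polar_smul_left, (h.polar_U hu).1, (h.polar_U hu).2]
  simp

theorem Frame.finrank_U : finrank F ↥(W₁ ⊔ W₂) = 6 := by
  have h1 := Submodule.finrank_sup_add_finrank_inf_eq W₁ W₂
  rw [h.disj, finrank_bot, h.d₁, h.d₂] at h1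
  omega

theorem Frame.plane_inf : plane c₁ c₂ ⊓ (W₁ ⊔ W₂) = ⊥ := by
  rw [eq_bot_iff]
  rintro v ⟨hv, hu⟩
  obtain ⟨a, b, rfl⟩ := mem_plane.1 hv
  have h1 := h.polar_comb a b
  have h2 := h.polar_U hu
  rw [h1.1, h1.2] at h2
  rw [h2.1, h2.2, zero_smul, zero_smul, add_zero]
  exact Submodule.zero_mem _

theorem Frame.finrank_plane : finrank F (plane c₁ c₂) = 2 := by
  have hli : LinearIndependent F ![c₁, c₂] := by
    rw [LinearIndependent.pair_iff]
    intro a b hab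
    have h1 := h.polar_comb a b
    rw [hab, polar_zero_right, polar_zero_right] at h1
    exact ⟨h1.2.symm, h1.1.symm⟩
  have h2 := finrank_span_eq_card hli
  rw [Matrix.range_cons_cons_empty, Fintype.card_fin] at h2
  exact h2

include hs

theorem Singer.mem_parts (hr : (r : F) = 1) {S : Submodule F (V8 F)} (hS : ∀ v ∈ S, g v ∈ S) {v : V8 F} (hv : v ∈ S) :
    ∃ c ∈ S ⊓ plane c₁ c₂, ∃ u ∈ S ⊓ (W₁ ⊔ W₂), v = c + u := by
  obtain ⟨w₁, h₁, w₂, h₂, hv'⟩ := h.decomp v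
  have h3 := Singer.comp_mem h hs hr hS hv
  refine ⟨_, ⟨h3, mem_plane.2 ⟨_, _, rfl⟩⟩, w₁ + w₂, ⟨?_, Submodule.add_mem_sup h₁ h₂⟩, hv'⟩
  have h4 := S.sub_mem hv h3
  have h5 : v - (polar (plusForm 4 F) c₂ v • c₁ + polar (plusForm 4 F) c₁ v • c₂) = w₁ + w₂ := by
    rw [sub_eq_iff_eq_add]
    rw [add_comm]
    exact hv'
  rwa [h5] at h4

theorem Singer.sup_parts (hr : (r : F) = 1) {S : Submodule F (V8 F)} (hS : ∀ v ∈ S, g v ∈ S) :
    (S ⊓ plane c₁ c₂) ⊔ (S ⊓ (W₁ ⊔ W₂)) = S := by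
  apply le_antisymm (sup_le inf_le_left inf_le_left)
  intro v hv
  obtain ⟨c, hc, u, hu, rfl⟩ := Singer.mem_parts h hs hr hS hv
  exact Submodule.add_mem_sup hc hu

theorem Singer.finrank_parts (hr : (r : F) = 1) {S : Submodule F (V8 F)} (hS : ∀ v ∈ S, g v ∈ S) :
    finrank F S = finrank F ↥(S ⊓ plane c₁ c₂) + finrank F ↥(S ⊓ (W₁ ⊔ W₂)) := by
  have h1 := Submodule.finrank_sup_add_finrank_inf_eq (S ⊓ plane c₁ c₂) (S ⊓ (W₁ ⊔ W₂))
  have h2 : (S ⊓ plane c₁ c₂) ⊓ (S ⊓ (W₁ ⊔ W₂)) = ⊥ := by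
    rw [eq_bot_iff, ← h.plane_inf]
    exact inf_le_inf inf_le_right inf_le_right
  rw [h2, finrank_bot, Singer.sup_parts h hs hr hS] at h1
  omega

/-- invariant subspaces of `U = W₁ ⊕ W₂` -/
theorem Singer.cases_U [Finite F] {S : Submodule F (V8 F)} (hS : ∀ v ∈ S, g v ∈ S) (hU : S ≤ W₁ ⊔ W₂) :
    S = ⊥ ∨ S = W₁ ∨ S = W₂ ∨ S = W₁ ⊔ W₂ := by
  by_cases h1 : S ⊓ W₁ = ⊥
  · by_cases h2 : S ⊓ W₂ = ⊥
    · exact Or.inl (Singer.eq_bot_of_graph h hs hS hU h1 h2)
    · obtain ⟨w, ⟨hwS, hw⟩, hw0⟩ := Submodule.exists_mem_ne_zero_of_ne_bot h2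
      have h3 := Singer.le_of_mem h.symm hs.symm hS hw hw0 hwS
      right; right; left
      apply le_antisymm _ h3
      intro v hv
      obtain ⟨w₁, h₁, w₂, h₂, rfl⟩ := Submodule.mem_sup.1 (hU hv)
      have h4 : w₁ ∈ S ⊓ W₁ := ⟨by have := S.sub_mem hv (h3 h₂); rwa [add_sub_cancel_right] at this, h₁⟩
      rw [h1, Submodule.mem_bot] at h4
      rw [h4, zero_add]
      exact h₂
  · obtain ⟨w, ⟨hwS, hw⟩, hw0⟩ := Submodule.exists_mem_ne_zero_of_ne_bot h1
    have h3 := Singer.le_of_mem h hs hS hw hw0 hwS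
    by_cases h2 : S ⊓ W₂ = ⊥
    · right; left
      apply le_antisymm _ h3
      intro v hv
      obtain ⟨w₁, h₁, w₂, h₂, rfl⟩ := Submodule.mem_sup.1 (hU hv)
      have h4 : w₂ ∈ S ⊓ W₂ := ⟨by have := S.sub_mem hv (h3 h₁); rwa [add_sub_cancel_left] at this, h₂⟩
      rw [h2, Submodule.mem_bot] at h4
      rw [h4, add_zero]
      exact h₁
    · obtain ⟨w', ⟨hwS', hw'⟩, hw0'⟩ := Submodule.exists_mem_ne_zero_of_ne_bot h2
      have h4 := Singer.le_of_mem h.symm hs.symm hS hw' hw0' hwS'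
      right; right; right
      exact le_antisymm hU (sup_le h3 h4)

theorem Singer.inv_U : ∀ v ∈ W₁ ⊔ W₂, g v ∈ W₁ ⊔ W₂ := by
  intro v hv
  obtain ⟨w₁, h₁, w₂, h₂, rfl⟩ := Submodule.mem_sup.1 hv
  rw [map_add]
  exact Submodule.add_mem_sup (hs.inv₁ _ h₁) (hs.inv₂ _ h₂)

theorem Singer.cases_inf [Finite F] {S : Submodule F (V8 F)} (hS : ∀ v ∈ S, g v ∈ S) :
    S ⊓ (W₁ ⊔ W₂) = ⊥ ∨ S ⊓ (W₁ ⊔ W₂) = W₁ ∨ S ⊓ (W₁ ⊔ W₂) = W₂ ∨ S ⊓ (W₁ ⊔ W₂) = W₁ ⊔ W₂ :=
  Singer.cases_U h hs (fun v hv => ⟨hS v hv.1, Singer.inv_U h hs v hv.2⟩) inf_le_right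

/-- dimensions of totally singular invariant subspaces -/
theorem Singer.finrank_TS [Finite F] (hr : (r : F) = 1) {S : Submodule F (V8 F)} (hS : ∀ v ∈ S, g v ∈ S)
    (hTS : TS (plusForm 4 F) S) :
    finrank F ↥(S ⊓ plane c₁ c₂) ≤ 1 ∧ (S ⊓ (W₁ ⊔ W₂) = ⊥ ∨ S ⊓ (W₁ ⊔ W₂) = W₁ ∨ S ⊓ (W₁ ⊔ W₂) = W₂) := by
  constructor
  · by_contra hcon
    push Not at hcon
    have h1 : S ⊓ plane c₁ c₂ = plane c₁ c₂ := by
      apply Submodule.eq_of_le_of_finrank_le inf_le_right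
      rw [h.finrank_plane]
      exact hcon
    have h2 : plane c₁ c₂ ≤ S := inf_eq_right.1 h1
    have h3 : c₁ ∈ S := h2 (mem_plane.2 ⟨1, 0, by simp⟩)
    have h4 : c₂ ∈ S := h2 (mem_plane.2 ⟨0, 1, by simp⟩)
    have h5 := hTS.polar h3 h4
    rw [h.pair] at h5
    exact one_ne_zero h5
  · rcases Singer.cases_inf h hs hS with h1 | h1 | h1 | h1
    · exact Or.inl h1
    · exact Or.inr (Or.inl h1)
    · exact Or.inr (Or.inr h1)
    · exfalso
      have h2 : W₁ ⊔ W₂ ≤ S := inf_eq_right.1 h1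
      have h3 : W₁ = ⊥ := by
        rw [eq_bot_iff]
        intro w hw
        rw [Submodule.mem_bot]
        exact h.dual hw fun w₂ hw₂ => hTS.polar (h2 (Submodule.mem_sup_left hw)) (h2 (Submodule.mem_sup_right hw₂))
      have h4 := h.d₁
      rw [h3, finrank_bot] at h4
      omega

theorem Singer.finrank_cases [Finite F] (hr : (r : F) = 1) {S : Submodule F (V8 F)} (hS : ∀ v ∈ S, g v ∈ S)
    (hTS : TS (plusForm 4 F) S) (hne : S ≠ ⊥) : finrank F S = 1 ∨ finrank F S = 3 ∨ finrank F S = 4 := by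
  have h0 : finrank F S ≠ 0 := fun h0 => hne (Submodule.finrank_eq_zero.1 h0)
  have h1 := Singer.finrank_parts h hs hr hS
  obtain ⟨h2, h3⟩ := Singer.finrank_TS h hs hr hS hTS
  rcases h3 with h3 | h3 | h3
  · rw [h3, finrank_bot] at h1
    omega
  · rw [h3, h.d₁] at h1
    omega
  · rw [h3, h.d₂] at h1
    omega

theorem Singer.eq_of_three [Finite F] (hr : (r : F) = 1) {S : Submodule F (V8 F)} (hS : ∀ v ∈ S, g v ∈ S)
    (hTS : TS (plusForm 4 F) S) (h3 : finrank F S = 3) : S = W₁ ∨ S = W₂ := by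
  have h1 := Singer.finrank_parts h hs hr hS
  obtain ⟨h2, h4⟩ := Singer.finrank_TS h hs hr hS hTS
  rcases h4 with h4 | h4 | h4
  · rw [h4, finrank_bot] at h1
    omega
  · left
    symm
    apply Submodule.eq_of_le_of_finrank_eq
    · rw [← h4]; exact inf_le_left
    · rw [h3, h.d₁]
  · right
    symm
    apply Submodule.eq_of_le_of_finrank_eq
    · rw [← h4]; exact inf_le_left
    · rw [h3, h.d₂]

/-- subspaces between `⟨c₁⟩` and `c₁^⊥` -/
theorem Singer.between [Finite F] (hr : (r : F) = 1) {S : Submodule F (V8 F)} (hS : ∀ v ∈ S, g v ∈ S)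
    (h1 : Submodule.span F {c₁} ≤ S) (h2 : S ≤ perp c₁) :
    S = Submodule.span F {c₁} ∨ S = Submodule.span F {c₁} ⊔ W₁ ∨ S = Submodule.span F {c₁} ⊔ W₂ ∨ S = perp c₁ := by
  have hc : S ⊓ plane c₁ c₂ = Submodule.span F {c₁} := by
    apply le_antisymm
    · rintro v ⟨hv, hp⟩
      obtain ⟨a, b, rfl⟩ := mem_plane.1 hp
      have h3 := mem_perp.1 (h2 hv)
      rw [(h.polar_comb a b).1] at h3
      rw [h3, zero_smul, add_zero]
      exact Submodule.smul_mem _ _ (Submodule.mem_span_singleton_self _)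
    · refine le_inf h1 ?_
      rw [Submodule.span_singleton_le_iff_mem]
      exact mem_plane.2 ⟨1, 0, by simp⟩
  have hsup := Singer.sup_parts h hs hr hS
  rw [hc] at hsup
  rcases Singer.cases_inf h hs hS with h3 | h3 | h3 | h3
  · left
    rw [← hsup, h3, sup_bot_eq]
  · right; left
    rw [h3] at hsup
    exact hsup.symm
  · right; right; left
    rw [h3] at hsup
    exact hsup.symm
  · right; right; right
    apply le_antisymm h2
    intro v hv
    obtain ⟨w₁, h₁, w₂, h₂, hv'⟩ := h.decomp v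
    rw [mem_perp.1 hv, zero_smul, add_zero] at hv'
    rw [hv', ← hsup, h3]
    exact Submodule.add_mem_sup (Submodule.smul_mem _ _ (Submodule.mem_span_singleton_self _))
      (Submodule.add_mem_sup h₁ h₂)

theorem Singer.inv_span : ∀ v ∈ Submodule.span F {c₁}, g v ∈ Submodule.span F {c₁} := by
  intro v hv
  obtain ⟨a, rfl⟩ := Submodule.mem_span_singleton.1 hv
  rw [map_smul, hs.fix₁]
  exact hv

end

/-! ### Claims -/

section claims

variable [Finite F] {p r : ℕ} [Fact p.Prime] [CharP F p] [Fact r.Prime] {g : V8 F ≃ₗ[F] V8 F}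
  (h : Frame c₁ c₂ W₁ W₂) (hs : Singer r g c₁ c₂ W₁ W₂) (hM : Group.IsSolvable M) [Finite M] (hg : g ∈ M)
  (h2 : ¬ r ^ 2 ∣ Nat.card M) (hC : Cen F p r M) (hsim : ∀ m ∈ M, Sim m) (hr : (r : F) = 1)

include hs hM hg h2 hC in
/-- an irreducible section: images of `g`-invariant subspaces are `g`-invariant -/
theorem image_inv {S' S : Submodule F (V8 F)} (hS' : Inv M S') (hS : Inv M S) (hle : S' ≤ S)
    (hirr : ∀ T, Inv M T → S' ≤ T → T ≤ S → T = S' ∨ T = S) {m : V8 F ≃ₗ[F] V8 F} (hm : m ∈ M)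
    {T : Submodule F (V8 F)} (hT' : S' ≤ T) (hTS : T ≤ S) (hT : ∀ v ∈ T, g v ∈ T) : ∀ v ∈ im m T, g v ∈ im m T := by
  rintro _ ⟨x, hx, rfl⟩
  obtain ⟨k, hk⟩ := section_normal (p := p) (r := r) finrank_V8.le hM hg hs.ord h2 hC hS' hS hle hirr
    (M.inv_mem hm)
  have h3 := hT' (hk x (hTS hx))
  have h4 := T.add_mem h3 (Singer.pow_mem hT k x hx)
  rw [sub_add_cancel] at h4
  refine ⟨_, h4, ?_⟩
  show m ((m⁻¹ * g * m⁻¹⁻¹) x) = g (m x)
  rw [inv_inv]
  show m (m⁻¹ (g (m x))) = g (m x)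
  exact m.apply_symm_apply _

include h hs hM hg h2 hC hsim hr in
/-- `M` fixes the singular point `⟨c₁⟩` -/
theorem claim_six (hu : Inv M (Submodule.span F {c₁})) {m : V8 F ≃ₗ[F] V8 F} (hm : m ∈ M) :
    im m (Submodule.span F {c₁} ⊔ W₁) = Submodule.span F {c₁} ⊔ W₁ ∨
    im m (Submodule.span F {c₁} ⊔ W₂) = Submodule.span F {c₁} ⊔ W₂ ∨
    (im m (Submodule.span F {c₁} ⊔ W₁) = Submodule.span F {c₁} ⊔ W₂ ∧
      im m (Submodule.span F {c₁} ⊔ W₂) = Submodule.span F {c₁} ⊔ W₁) := by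
  have hS : Inv M (perp c₁) := inv_perp hsim hu
  have hle : Submodule.span F {c₁} ≤ perp c₁ := by
    rw [Submodule.span_singleton_le_iff_mem]
    exact polar_self_of h.q₁
  have hX₁ : Submodule.span F {c₁} ⊔ W₁ ≤ perp c₁ := sup_le hle fun w hw => (h.perp₁ w hw).1
  have hX₂ : Submodule.span F {c₁} ⊔ W₂ ≤ perp c₁ := sup_le hle fun w hw => (h.perp₂ w hw).1
  have hc : ∀ W : Submodule F (V8 F), W ≤ W₁ ⊔ W₂ → finrank F W = 3 →
      finrank F ↥(Submodule.span F {c₁} ⊔ W) = 4 := by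
    intro W hW h3
    have h4 := Submodule.finrank_sup_add_finrank_inf_eq (Submodule.span F {c₁}) W
    have h5 : Submodule.span F {c₁} ⊓ W = ⊥ := by
      rw [eq_bot_iff, ← h.plane_inf]
      refine inf_le_inf ?_ hW
      rw [Submodule.span_singleton_le_iff_mem]
      exact mem_plane.2 ⟨1, 0, by simp⟩
    rw [h5, finrank_bot, h3, finrank_span_singleton h.c₁_ne] at h4
    omega
  have hc₁ := hc W₁ le_sup_left h.d₁
  have hc₂ := hc W₂ le_sup_right h.d₂
  have hperp : finrank F (perp c₁) = 7 := by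
    have h4 := LinearMap.finrank_range_add_finrank_ker (polarBilin (plusForm 4 F) c₁)
    have h5 : LinearMap.range (polarBilin (plusForm 4 F) c₁) = ⊤ := by
      rw [LinearMap.range_eq_top]
      intro a
      refine ⟨a • c₂, ?_⟩
      show polar (plusForm 4 F) c₁ (a • c₂) = a
      rw [polar_smul_right, h.pair, smul_eq_mul, mul_one]
    rw [h5, finrank_top, finrank_V8, Module.finrank_self] at h4
    show finrank F (LinearMap.ker (polarBilin (plusForm 4 F) c₁)) = 7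
    omega
  -- a `g`-invariant subspace of dimension `4` between
  have h4 : ∀ Y : Submodule F (V8 F), (∀ v ∈ Y, g v ∈ Y) → Submodule.span F {c₁} ≤ Y → Y ≤ perp c₁ →
      finrank F Y = 4 → Y = Submodule.span F {c₁} ⊔ W₁ ∨ Y = Submodule.span F {c₁} ⊔ W₂ := by
    intro Y hY h5 h6 h7
    rcases Singer.between h hs hr hY h5 h6 with h8 | h8 | h8 | h8
    · rw [h8, finrank_span_singleton h.c₁_ne] at h7
      omega
    · exact Or.inl h8
    · exact Or.inr h8
    · rw [h8, hperp] at h7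
      omega
  by_cases hirr : ∀ T, Inv M T → Submodule.span F {c₁} ≤ T → T ≤ perp c₁ → T = Submodule.span F {c₁} ∨ T = perp c₁
  · have key : ∀ W : Submodule F (V8 F), W ≤ W₁ ⊔ W₂ → (∀ v ∈ W, g v ∈ W) → finrank F W = 3 →
        im m (Submodule.span F {c₁} ⊔ W) = Submodule.span F {c₁} ⊔ W₁ ∨
        im m (Submodule.span F {c₁} ⊔ W) = Submodule.span F {c₁} ⊔ W₂ := by
      intro W hW hgW h3
      have hXle : Submodule.span F {c₁} ⊔ W ≤ perp c₁ := sup_le hle fun w hw => (h.polar_U (hW hw)).1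
      apply h4
      · refine image_inv (p := p) hs hM hg h2 hC hu hS hle hirr hm le_sup_left hXle ?_
        intro v hv
        obtain ⟨a, ha, b, hb, rfl⟩ := Submodule.mem_sup.1 hv
        rw [map_add]
        exact Submodule.add_mem_sup (Singer.inv_span h hs a ha) (hgW b hb)
      · calc Submodule.span F {c₁} = im m (Submodule.span F {c₁}) := (hu.im_eq hm).symm
          _ ≤ _ := Submodule.map_mono le_sup_left
      · calc im m (Submodule.span F {c₁} ⊔ W) ≤ im m (perp c₁) := Submodule.map_mono hXle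
          _ = perp c₁ := hS.im_eq hm
      · rw [finrank_im]
        exact hc W hW h3
    rcases key W₁ le_sup_left hs.inv₁ h.d₁ with h5 | h5
    · exact Or.inl h5
    · rcases key W₂ le_sup_right hs.inv₂ h.d₂ with h6 | h6
      · exact Or.inr (Or.inr ⟨h5, h6⟩)
      · exact Or.inr (Or.inl h6)
  · push Not at hirr
    obtain ⟨T, hT, h5, h6, h7, h8⟩ := hirr
    rcases Singer.between h hs hr (hT g hg) h5 h6 with h9 | h9 | h9 | h9
    · exact absurd h9 h7
    · left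
      rw [← h9]
      exact hT.im_eq hm
    · right; left
      rw [← h9]
      exact hT.im_eq hm
    · exact absurd h9 h8

end claims

end Cfsg.Agent.H465.OEight
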