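import Cfsg.Agent.H465.OEClaim

/-!
# Solvable groups of similitudes containing a Singer element, part 2 (helper465)

* `claim_eight` : `M` has a totally singular invariant subspace or permutes `{W₁, W₂}`;
* `normal_of_permutes` : if `M` permutes `{W₁, W₂}` and consists of isometries then `⟨g⟩ ⊲ M`.
-/

set_option autoImplicit false
set_option linter.unusedSectionVars false

namespace Cfsg.Agent.H465.OEight

open Module QuadraticMap Cfsg.Agent.LieClassical.OrthCore Cfsg.Agent.LieClassical.OrthTrans
  Cfsg.Agent.ClassicalGeometry.OrthAut1 Cfsg.Agent.LieClassical.QuadForms Cfsg.Agent.ClassicalGeometry.TrialityOct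
  Cfsg.Agent.ClassicalGeometry.Triality

universe u

variable {F : Type u} [Field F] {c₁ c₂ : V8 F} {W₁ W₂ : Submodule F (V8 F)} {M : Subgroup (V8 F ≃ₗ[F] V8 F)}

/-- every element of `M` fixes or exchanges `W₁`, `W₂` -/
def Perm (M : Subgroup (V8 F ≃ₗ[F] V8 F)) (W₁ W₂ : Submodule F (V8 F)) : Prop :=
  ∀ m ∈ M, (im m W₁ = W₁ ∧ im m W₂ = W₂) ∨ (im m W₁ = W₂ ∧ im m W₂ = W₁)

/-- there is no totally singular invariant subspace -/
def NoTS (M : Subgroup (V8 F ≃ₗ[F] V8 F)) : Prop := ∀ S : Submodule F (V8 F), TS (plusForm 4 F) S → Inv M S → S = ⊥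

theorem perm_of_cases (h : Frame c₁ c₂ W₁ W₂) (h1 : ∀ m ∈ M, (im m W₁ = W₁ ∨ im m W₁ = W₂) ∧ (im m W₂ = W₁ ∨ im m W₂ = W₂)) :
    Perm M W₁ W₂ := by
  have hne : W₁ ≠ W₂ := by
    intro he
    have h2 := h.disj
    rw [← he, inf_idem] at h2
    have h3 := h.d₁
    rw [h2, finrank_bot] at h3
    omega
  intro m hm
  obtain ⟨h2, h3⟩ := h1 m hm
  rcases h2 with h2 | h2
  · rcases h3 with h3 | h3
    · exact absurd (im_injective m (h2.trans h3.symm)) hne
    · exact Or.inl ⟨h2, h3⟩
  · rcases h3 with h3 | h3
    · exact Or.inr ⟨h2, h3⟩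
    · exact absurd (im_injective m (h2.trans h3.symm)) hne

section eight

variable [Finite F] {p r : ℕ} [Fact p.Prime] [CharP F p] [Fact r.Prime] {g : V8 F ≃ₗ[F] V8 F}
  (h : Frame c₁ c₂ W₁ W₂) (hs : Singer r g c₁ c₂ W₁ W₂) (hM : Group.IsSolvable M) [Finite M] (hg : g ∈ M)
  (h2 : ¬ r ^ 2 ∣ Nat.card M) (hC : Cen F p r M) (hsim : ∀ m ∈ M, Sim m) (hr : (r : F) = 1) (hN : NoTS M)

theorem Frame.W₁_ne (h : Frame c₁ c₂ W₁ W₂) : W₁ ≠ ⊥ := by
  intro h0
  have h3 := h.d₁
  rw [h0, finrank_bot] at h3
  omega

include h hs hM hg h2 hC hsim hr hN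

/-- L1 -/
theorem perm_of_inv_U (hU : Inv M (W₁ ⊔ W₂)) : Perm M W₁ W₂ := by
  have hirr : ∀ T, Inv M T → ⊥ ≤ T → T ≤ W₁ ⊔ W₂ → T = ⊥ ∨ T = W₁ ⊔ W₂ := by
    intro T hT _ hTU
    rcases Singer.cases_U h hs (hT g hg) hTU with h3 | h3 | h3 | h3
    · exact Or.inl h3
    · exact absurd (hN W₁ h.ts₁ (h3 ▸ hT)) h.W₁_ne
    · exact absurd (hN W₂ h.ts₂ (h3 ▸ hT)) h.symm.W₁_ne
    · exact Or.inr h3
  have hbot : Inv M (⊥ : Submodule F (V8 F)) := by
    intro m _ v hv
    rw [Submodule.mem_bot] at hv ⊢
    rw [hv, map_zero]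
  have key : ∀ m ∈ M, ∀ W : Submodule F (V8 F), W ≤ W₁ ⊔ W₂ → (∀ v ∈ W, g v ∈ W) → finrank F W = 3 →
      im m W = W₁ ∨ im m W = W₂ := by
    intro m hm W hW hgW h3
    have h4 := image_inv (p := p) hs hM hg h2 hC hbot hU bot_le hirr hm bot_le hW hgW
    have h5 : im m W ≤ W₁ ⊔ W₂ := by
      calc im m W ≤ im m (W₁ ⊔ W₂) := Submodule.map_mono hW
        _ = W₁ ⊔ W₂ := hU.im_eq hm
    have h6 := finrank_im m W
    rw [h3] at h6
    rcases Singer.cases_U h hs h4 h5 with h7 | h7 | h7 | h7
    · rw [h7, finrank_bot] at h6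
      omega
    · exact Or.inl h7
    · exact Or.inr h7
    · rw [h7, h.finrank_U] at h6
      omega
  exact perm_of_cases h fun m hm => ⟨key m hm W₁ le_sup_left hs.inv₁ h.d₁, key m hm W₂ le_sup_right hs.inv₂ h.d₂⟩

omit hs hM hg h2 hC hr hN in
theorem orth_plane : orth (plane c₁ c₂) = W₁ ⊔ W₂ := by
  rw [h.sup_eq]
  ext v
  rw [mem_orth, Submodule.mem_inf, mem_perp, mem_perp]
  constructor
  · intro h1
    exact ⟨h1 _ (mem_plane.2 ⟨1, 0, by simp⟩), h1 _ (mem_plane.2 ⟨0, 1, by simp⟩)⟩
  · rintro ⟨h1, h2⟩ t ht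
    obtain ⟨a, b, rfl⟩ := mem_plane.1 ht
    rw [polar_add_left, polar_smul_left, polar_smul_left, h1, h2]
    simp

/-- L2 -/
theorem perm_of_inv_plane (hP : Inv M (plane c₁ c₂)) : Perm M W₁ W₂ := by
  refine perm_of_inv_U h hs hM hg h2 hC hsim hr hN ?_
  rw [← orth_plane h hsim]
  exact inv_orth hsim hP

/-- the zeros of the form on a totally isotropic invariant subspace -/
theorem q_ne_zero_of {R : Submodule F (V8 F)} (hR : Inv M R)
    (hTI : ∀ v ∈ R, ∀ w ∈ R, polar (plusForm 4 F) v w = 0) {v : V8 F} (hv : v ∈ R) (hv0 : v ≠ 0) :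
    plusForm 4 F v ≠ 0 := by
  intro hq
  let R₀ : Submodule F (V8 F) :=
    { carrier := {a | a ∈ R ∧ plusForm 4 F a = 0}
      add_mem' := by
        rintro a b ⟨ha, ha'⟩ ⟨hb, hb'⟩
        refine ⟨R.add_mem ha hb, ?_⟩
        rw [Q_add, ha', hb', hTI a ha b hb]
        simp
      zero_mem' := ⟨R.zero_mem, QuadraticMap.map_zero _⟩
      smul_mem' := by
        rintro c a ⟨ha, ha'⟩
        exact ⟨R.smul_mem c ha, by rw [QuadraticMap.map_smul, ha', smul_zero]⟩ }
  have h3 := hN R₀ (fun a ha => ha.2) (fun m hm a ha => ⟨hR m hm a ha.1, (hsim m hm).q_eq_zero ha.2⟩)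
  have h4 : v ∈ R₀ := ⟨hv, hq⟩
  rw [h3, Submodule.mem_bot] at h4
  exact hv0 h4

/-- L3: totally isotropic invariant subspaces -/
theorem TI_cases {R : Submodule F (V8 F)} (hR : Inv M R)
    (hTI : ∀ v ∈ R, ∀ w ∈ R, polar (plusForm 4 F) v w = 0) :
    R = ⊥ ∨ ((2 : F) = 0 ∧ ∃ v, v ≠ 0 ∧ plusForm 4 F v ≠ 0 ∧ R = Submodule.span F {v}) := by
  by_cases hb : R = ⊥
  · exact Or.inl hb
  right
  obtain ⟨v, hv, hv0⟩ := Submodule.exists_mem_ne_zero_of_ne_bot hb
  have hqq : ∀ w ∈ R, w ≠ 0 → plusForm 4 F w ≠ 0 := fun w hw hw0 =>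
    q_ne_zero_of h hs hM hg h2 hC hsim hr hN hR hTI hw hw0
  have hq := hqq v hv hv0
  have h20 : (2 : F) = 0 := by
    have h3 := hTI v hv v hv
    rw [QuadraticMap.polar_self, two_nsmul, ← two_mul] at h3
    exact (mul_eq_zero.1 h3).resolve_right hq
  refine ⟨h20, v, hv0, hq, ?_⟩
  apply le_antisymm
  · intro w hw
    -- squares are surjective
    have hc2 : CharP F 2 := CharTwo.of_one_ne_zero_of_two_eq_zero one_ne_zero h20
    have : Fintype F := Fintype.ofFinite F
    obtain ⟨a, ha⟩ : ∃ a : F, a * a = plusForm 4 F w / plusForm 4 F v := by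
      have h3 : ringChar F = 2 := ringChar.eq_iff.2 hc2
      obtain ⟨a, ha⟩ := FiniteField.isSquare_of_char_two h3 (plusForm 4 F w / plusForm 4 F v)
      exact ⟨a, ha.symm⟩
    have h4 : plusForm 4 F (w - a • v) = 0 := by
      rw [sub_eq_add_neg, Q_add, QuadraticMap.map_neg, QuadraticMap.map_smul, polar_neg_right, polar_smul_right,
        hTI w hw v hv, smul_zero, neg_zero, add_zero, ha, smul_eq_mul, div_mul_cancel₀ _ hq]
      linear_combination (plusForm 4 F w) * h20
    have h5 : w - a • v ∈ R := R.sub_mem hw (R.smul_mem _ hv)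
    by_cases h6 : w - a • v = 0
    · rw [sub_eq_zero.1 h6]
      exact Submodule.smul_mem _ _ (Submodule.mem_span_singleton_self v)
    · exact absurd h4 (hqq _ h5 h6)
  · rw [Submodule.span_singleton_le_iff_mem]
    exact hv

/-- L4: an invariant nonsingular line -/
theorem perm_of_line {v : V8 F} (hq : plusForm 4 F v ≠ 0) (hv : Inv M (Submodule.span F {v})) : Perm M W₁ W₂ := by
  have hv0 : v ≠ 0 := by
    rintro rfl
    exact hq (QuadraticMap.map_zero _)
  -- `v` lies in the plane
  have hvp : v ∈ plane c₁ c₂ := by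
    have h3 := Singer.finrank_parts h hs hr (hv g hg)
    rw [finrank_span_singleton hv0] at h3
    rcases Singer.cases_inf h hs (hv g hg) with h4 | h4 | h4 | h4
    · have h5 := Singer.sup_parts h hs hr (hv g hg)
      rw [h4, sup_bot_eq] at h5
      have h6 : v ∈ Submodule.span F {v} ⊓ plane c₁ c₂ := by rw [h5]; exact Submodule.mem_span_singleton_self v
      exact h6.2
    · rw [h4, h.d₁] at h3; omega
    · rw [h4, h.d₂] at h3; omega
    · rw [h4, h.finrank_U] at h3; omega
  obtain ⟨a, b, rfl⟩ := mem_plane.1 hvp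
  rw [h.q_comb] at hq
  have ha : a ≠ 0 := left_ne_zero_of_mul hq
  have hb : b ≠ 0 := right_ne_zero_of_mul hq
  set v := a • c₁ + b • c₂ with hvdef
  have hperp : Inv M (perp v) := inv_perp hsim hv
  have hUperp : W₁ ⊔ W₂ ≤ perp v := fun u hu => h.plane_perp hvp hu
  set v' := a • c₁ + (-b) • c₂ with hv'def
  -- the intersection of the plane with `v^⊥`
  have hpp : ∀ x ∈ plane c₁ c₂, x ∈ perp v → x ∈ Submodule.span F {v'} := by
    intro x hx hx'
    obtain ⟨s, t, rfl⟩ := mem_plane.1 hx
    have h3 := mem_perp.1 hx'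
    rw [hvdef, polar_add_left, polar_smul_left, polar_smul_left, (h.polar_comb s t).1, (h.polar_comb s t).2] at h3
    rw [Submodule.mem_span_singleton]
    refine ⟨s / a, ?_⟩
    have h4 : t = -(s / a) * b := by
      rw [smul_eq_mul, smul_eq_mul] at h3
      field_simp
      linear_combination h3
    rw [h4, hv'def, smul_add, smul_smul, smul_smul, div_mul_cancel₀ _ ha]
    congr 2
    ring
  have hv'p : v' ∈ plane c₁ c₂ := mem_plane.2 ⟨_, _, rfl⟩
  have hv'perp : v' ∈ perp v := by
    rw [mem_perp, hvdef, polar_add_left, polar_smul_left, polar_smul_left, (h.polar_comb a (-b)).1,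
      (h.polar_comb a (-b)).2, smul_eq_mul, smul_eq_mul]
    ring
  have hv'0 : v' ≠ 0 := by
    intro h0
    have h3 := (h.polar_comb a (-b)).2
    rw [← hv'def, h0, polar_zero_right] at h3
    exact ha h3.symm
  have hgv' : g v' = v' := Singer.fix_C h hs _ _
  have hbot : Inv M (⊥ : Submodule F (V8 F)) := by
    intro m _ v hv
    rw [Submodule.mem_bot] at hv ⊢
    rw [hv, map_zero]
  by_cases h20 : (2 : F) = 0
  · -- characteristic two: `v ∈ v^⊥`
    have hvv : v' = v := by
      rw [hv'def, hvdef]
      have : -b = b := by linear_combination (-b) * h20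
      rw [this]
    rw [hvv] at hpp hv'perp
    have hle : Submodule.span F {v} ≤ perp v := by
      rw [Submodule.span_singleton_le_iff_mem]; exact hv'perp
    -- invariant subspaces between
    have hbet : ∀ T : Submodule F (V8 F), (∀ x ∈ T, g x ∈ T) → Submodule.span F {v} ≤ T → T ≤ perp v →
        T = Submodule.span F {v} ⊔ (T ⊓ (W₁ ⊔ W₂)) := by
      intro T hT h3 h4
      apply le_antisymm
      · intro x hx
        obtain ⟨c, hc, u, hu, rfl⟩ := Singer.mem_parts h hs hr hT hx
        exact Submodule.add_mem_sup (hpp c hc.2 (h4 hc.1)) hu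
      · exact sup_le h3 inf_le_left
    -- zeros of the form
    have hzero : ∀ W : Submodule F (V8 F), W ≤ W₁ ⊔ W₂ → TS (plusForm 4 F) W → ∀ x ∈ Submodule.span F {v} ⊔ W,
        plusForm 4 F x = 0 → x ∈ W := by
      intro W hW hWT x hx hqx
      obtain ⟨y, hy, w, hw, rfl⟩ := Submodule.mem_sup.1 hx
      obtain ⟨s, rfl⟩ := Submodule.mem_span_singleton.1 hy
      rw [Q_add, QuadraticMap.map_smul, hWT w hw, polar_smul_left, h.plane_perp hvp (hW hw), smul_zero, add_zero,
        add_zero, smul_eq_mul] at hqx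
      have hq' : plusForm 4 F v ≠ 0 := by rw [hvdef, h.q_comb]; exact hq
      have hs0 : s = 0 := by
        have := (mul_eq_zero.1 hqx).resolve_right hq'
        exact mul_self_eq_zero.1 this
      rw [hs0, zero_smul, zero_add]
      exact hw
    have hirr : ∀ T, Inv M T → Submodule.span F {v} ≤ T → T ≤ perp v → T = Submodule.span F {v} ∨ T = perp v := by
      intro T hT h3 h4
      have h5 := hbet T (hT g hg) h3 h4
      have hbad : ∀ W : Submodule F (V8 F), W ≤ W₁ ⊔ W₂ → TS (plusForm 4 F) W → W ≠ ⊥ →
          T ⊓ (W₁ ⊔ W₂) = W → False := by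
        intro W hW hWT hW0 h6
        apply hW0
        refine hN W hWT fun m hm w hw => ?_
        have h7 : w ∈ T := by
          have : w ∈ T ⊓ (W₁ ⊔ W₂) := by rw [h6]; exact hw
          exact this.1
        have h8 : m w ∈ Submodule.span F {v} ⊔ W := by
          rw [h6] at h5
          rw [← h5]
          exact hT m hm w h7
        exact hzero W hW hWT _ h8 ((hsim m hm).q_eq_zero (hWT w hw))
      rcases Singer.cases_inf h hs (hT g hg) with h6 | h6 | h6 | h6
      · left
        rw [h6, sup_bot_eq] at h5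
        exact h5
      · exact (hbad W₁ le_sup_left h.ts₁ h.W₁_ne h6).elim
      · exact (hbad W₂ le_sup_right h.ts₂ h.symm.W₁_ne h6).elim
      · right
        apply le_antisymm h4
        intro x hx
        obtain ⟨c, hc, u, hu, hxe⟩ := Singer.mem_parts h hs hr (hperp g hg) hx
        rw [h5, h6, hxe]
        exact Submodule.add_mem_sup (hpp c hc.2 hc.1) hu.2
    have hdim : ∀ W : Submodule F (V8 F), W ≤ W₁ ⊔ W₂ → finrank F ↥(Submodule.span F {v} ⊔ W) = 1 + finrank F W := by
      intro W hW
      have h4 := Submodule.finrank_sup_add_finrank_inf_eq (Submodule.span F {v}) W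
      have h5 : Submodule.span F {v} ⊓ W = ⊥ := by
        rw [eq_bot_iff, ← h.plane_inf]
        refine inf_le_inf ?_ hW
        rw [Submodule.span_singleton_le_iff_mem]
        exact hvp
      rw [h5, finrank_bot, finrank_span_singleton hv0] at h4
      omega
    have key : ∀ m ∈ M, ∀ W : Submodule F (V8 F), W ≤ W₁ ⊔ W₂ → TS (plusForm 4 F) W → (∀ v ∈ W, g v ∈ W) →
        finrank F W = 3 → im m W = W₁ ∨ im m W = W₂ := by
      intro m hm W hW hWT hgW h3
      have hXle : Submodule.span F {v} ⊔ W ≤ perp v := sup_le hle (hW.trans hUperp)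
      have h4 : ∀ x ∈ im m (Submodule.span F {v} ⊔ W), g x ∈ im m (Submodule.span F {v} ⊔ W) := by
        refine image_inv (p := p) hs hM hg h2 hC hv hperp hle hirr hm le_sup_left hXle ?_
        intro x hx
        obtain ⟨y, hy, w, hw, rfl⟩ := Submodule.mem_sup.1 hx
        rw [map_add]
        exact Submodule.add_mem_sup (hv g hg y hy) (hgW w hw)
      have h5 : Submodule.span F {v} ≤ im m (Submodule.span F {v} ⊔ W) := by
        calc Submodule.span F {v} = im m (Submodule.span F {v}) := (hv.im_eq hm).symm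
          _ ≤ _ := Submodule.map_mono le_sup_left
      have h6 : im m (Submodule.span F {v} ⊔ W) ≤ perp v := by
        calc im m (Submodule.span F {v} ⊔ W) ≤ im m (perp v) := Submodule.map_mono hXle
          _ = perp v := hperp.im_eq hm
      have h7 := hbet _ h4 h5 h6
      have h8 := finrank_im m (Submodule.span F {v} ⊔ W)
      rw [hdim W hW, h3, h7, hdim _ inf_le_right] at h8
      have hfin : ∀ W' : Submodule F (V8 F), W' ≤ W₁ ⊔ W₂ → TS (plusForm 4 F) W' → finrank F W' = 3 →
          im m (Submodule.span F {v} ⊔ W) ⊓ (W₁ ⊔ W₂) = W' → im m W = W' := by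
        intro W' hW' hWT' h3' h9
        apply Submodule.eq_of_le_of_finrank_eq
        · rintro _ ⟨w, hw, rfl⟩
          refine hzero W' hW' hWT' _ ?_ ((hsim m hm).q_eq_zero (hWT w hw))
          rw [← h9, ← h7]
          exact ⟨w, Submodule.mem_sup_right hw, rfl⟩
        · rw [finrank_im, h3, h3']
      rcases Singer.cases_inf h hs h4 with h9 | h9 | h9 | h9
      · rw [h9, finrank_bot] at h8
        omega
      · exact Or.inl (hfin W₁ le_sup_left h.ts₁ h.d₁ h9)
      · exact Or.inr (hfin W₂ le_sup_right h.ts₂ h.d₂ h9)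
      · rw [h9, h.finrank_U] at h8
        omega
    exact perm_of_cases h fun m hm => ⟨key m hm W₁ le_sup_left h.ts₁ hs.inv₁ h.d₁,
      key m hm W₂ le_sup_right h.ts₂ hs.inv₂ h.d₂⟩
  · -- odd characteristic
    -- an invariant `⟨v'⟩` suffices
    have hfin : Inv M (Submodule.span F {v'}) → Perm M W₁ W₂ := by
      intro h3
      refine perm_of_inv_plane h hs hM hg h2 hC hsim hr hN ?_
      have h4 : plane c₁ c₂ = Submodule.span F {v} ⊔ Submodule.span F {v'} := by
        apply le_antisymm
        · have hc₁ : c₁ = (1 / (2 * a)) • v + (1 / (2 * a)) • v' := by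
            rw [hvdef, hv'def]
            have h2a : 2 * a ≠ 0 := mul_ne_zero h20 ha
            have e : (1 / (2 * a)) • (a • c₁ + b • c₂) + (1 / (2 * a)) • (a • c₁ + (-b) • c₂) =
                ((1 / (2 * a)) * (2 * a)) • c₁ := by module
            rw [e, one_div_mul_cancel h2a, one_smul]
          have hc₂ : c₂ = (1 / (2 * b)) • v + (-(1 / (2 * b))) • v' := by
            rw [hvdef, hv'def]
            have h2b : 2 * b ≠ 0 := mul_ne_zero h20 hb
            have e : (1 / (2 * b)) • (a • c₁ + b • c₂) + (-(1 / (2 * b))) • (a • c₁ + (-b) • c₂) =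
                ((1 / (2 * b)) * (2 * b)) • c₂ := by module
            rw [e, one_div_mul_cancel h2b, one_smul]
          rintro x hx
          obtain ⟨s, t, rfl⟩ := mem_plane.1 hx
          have h5 : c₁ ∈ Submodule.span F {v} ⊔ Submodule.span F {v'} := by
            nth_rewrite 1 [hc₁]
            exact Submodule.add_mem_sup (Submodule.smul_mem _ _ (Submodule.mem_span_singleton_self v))
              (Submodule.smul_mem _ _ (Submodule.mem_span_singleton_self v'))
          have h6 : c₂ ∈ Submodule.span F {v} ⊔ Submodule.span F {v'} := by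
            nth_rewrite 1 [hc₂]
            exact Submodule.add_mem_sup (Submodule.smul_mem _ _ (Submodule.mem_span_singleton_self v))
              (Submodule.smul_mem _ _ (Submodule.mem_span_singleton_self v'))
          exact Submodule.add_mem _ (Submodule.smul_mem _ _ h5) (Submodule.smul_mem _ _ h6)
        · refine sup_le ?_ ?_ <;> rw [Submodule.span_singleton_le_iff_mem]
          · exact hvp
          · exact hv'p
      rw [h4]
      exact hv.sup h3
    by_cases hirr : ∀ T, Inv M T → ⊥ ≤ T → T ≤ perp v → T = ⊥ ∨ T = perp v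
    · apply hfin
      intro m hm x hx
      have h3 : Submodule.span F {v'} ≤ perp v := by
        rw [Submodule.span_singleton_le_iff_mem]; exact hv'perp
      obtain ⟨k, hk⟩ := section_normal (p := p) (r := r) finrank_V8.le hM hg hs.ord h2 hC hbot hperp bot_le hirr
        (M.inv_mem hm)
      have h4 := hk v' hv'perp
      rw [Submodule.mem_bot, sub_eq_zero, inv_inv] at h4
      have h5 : (g ^ k) v' = v' := by
        have : ∀ j : ℕ, (g ^ j) v' = v' := by
          intro j
          induction j with
          | zero => rfl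
          | succ j ih =>
            rw [pow_succ']
            show g ((g ^ j) v') = v'
            rw [ih, hgv']
        exact this k
      have h6 : g (m v') = m v' := by
        have h7 : m ((m⁻¹ * g * m) v') = m v' := by rw [h4, h5]
        have h8 : m ((m⁻¹ * g * m) v') = g (m v') := by
          show m (m⁻¹ (g (m v'))) = g (m v')
          exact m.apply_symm_apply _
        rw [← h8, h7]
      have h7 : m v' ∈ plane c₁ c₂ := by
        rw [Singer.mem_C_of_fixed h hs h6]
        exact mem_plane.2 ⟨_, _, rfl⟩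
      have h8 := hpp _ h7 (hperp m hm v' hv'perp)
      obtain ⟨s, rfl⟩ := Submodule.mem_span_singleton.1 hx
      rw [map_smul]
      exact Submodule.smul_mem _ _ h8
    · push Not at hirr
      obtain ⟨T, hT, -, h4, h5, h6⟩ := hirr
      have hR : T ⊓ orth T = ⊥ := by
        rcases TI_cases h hs hM hg h2 hC hsim hr hN (hT.inf (inv_orth hsim hT))
          (fun x hx y hy => hy.2 x hx.1) with h7 | ⟨h7, -⟩
        · exact h7
        · exact absurd h7 h20
      have hbad : ∀ W : Submodule F (V8 F), W ≤ W₁ ⊔ W₂ → TS (plusForm 4 F) W → W ≠ ⊥ →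
          T ⊓ (W₁ ⊔ W₂) = W → False := by
        intro W hW hWT hW0 h7
        apply hW0
        rw [eq_bot_iff, ← hR]
        intro w hw
        have h8 : w ∈ T ⊓ (W₁ ⊔ W₂) := by rw [h7]; exact hw
        refine ⟨h8.1, fun t ht => ?_⟩
        obtain ⟨c, hc, u, hu, rfl⟩ := Singer.mem_parts h hs hr (hT g hg) ht
        rw [h7] at hu
        rw [polar_add_left, h.plane_perp hc.2 (hW hw), hWT.polar hu hw, add_zero]
      rcases Singer.cases_inf h hs (hT g hg) with h7 | h7 | h7 | h7
      · apply hfin
        have h8 : T = Submodule.span F {v'} := by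
          have h9 : T ≤ Submodule.span F {v'} := by
            intro x hx
            obtain ⟨c, hc, u, hu, rfl⟩ := Singer.mem_parts h hs hr (hT g hg) hx
            rw [h7, Submodule.mem_bot] at hu
            rw [hu, add_zero]
            exact hpp c hc.2 (h4 hc.1)
          apply Submodule.eq_of_le_of_finrank_le h9
          rw [finrank_span_singleton hv'0]
          exact Nat.one_le_iff_ne_zero.2 fun h0 => h5 (Submodule.finrank_eq_zero.1 h0)
        rw [← h8]
        exact hT
      · exact (hbad W₁ le_sup_left h.ts₁ h.W₁_ne h7).elim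
      · exact (hbad W₂ le_sup_right h.ts₂ h.symm.W₁_ne h7).elim
      · refine perm_of_inv_U h hs hM hg h2 hC hsim hr hN ?_
        have h8 : W₁ ⊔ W₂ ≤ T := inf_eq_right.1 h7
        have h9 : T = W₁ ⊔ W₂ := by
          symm
          apply Submodule.eq_of_le_of_finrank_le h8
          rw [h.finrank_U]
          have h10 : T ≠ perp v := h6
          have h11 : finrank F T < finrank F (perp v) := Submodule.finrank_lt_finrank_of_lt (lt_of_le_of_ne h4 h10)
          have h12 : finrank F (perp v) ≤ 7 := by
            have h13 : perp v ≠ ⊤ := by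
              intro h14
              have h15 : c₁ ∈ perp v := by rw [h14]; trivial
              rw [mem_perp, polar_comm, (h.polar_comb a b).1] at h15
              exact hb h15
            have h16 := Submodule.finrank_lt h13
            rw [finrank_V8] at h16
            omega
          omega
        rw [← h9]
        exact hT

/-- an invariant subspace of the plane -/
theorem perm_of_le_plane {T : Submodule F (V8 F)} (hT : Inv M T) (hT0 : T ≠ ⊥) (hTp : T ≤ plane c₁ c₂) :
    Perm M W₁ W₂ := by
  have h3 := Submodule.finrank_mono hTp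
  rw [h.finrank_plane] at h3
  have h4 : finrank F T ≠ 0 := fun h0 => hT0 (Submodule.finrank_eq_zero.1 h0)
  have h5 : finrank F T = 1 ∨ finrank F T = 2 := by omega
  rcases h5 with h5 | h5
  · obtain ⟨v, hv, hv0⟩ := Submodule.exists_mem_ne_zero_of_ne_bot hT0
    have h6 : Submodule.span F {v} = T := by
      apply Submodule.eq_of_le_of_finrank_eq
      · rw [Submodule.span_singleton_le_iff_mem]; exact hv
      · rw [finrank_span_singleton hv0, h5]
    refine perm_of_line h hs hM hg h2 hC hsim hr hN (v := v) (fun hq => ?_) (by rw [h6]; exact hT)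
    apply hT0
    refine hN T (fun w hw => ?_) hT
    rw [← h6] at hw
    obtain ⟨s, rfl⟩ := Submodule.mem_span_singleton.1 hw
    rw [QuadraticMap.map_smul, hq, smul_zero]
  · have h6 : T = plane c₁ c₂ := Submodule.eq_of_le_of_finrank_eq hTp (by rw [h5, h.finrank_plane])
    exact perm_of_inv_plane h hs hM hg h2 hC hsim hr hN (h6 ▸ hT)

/-- **Claim.** -/
theorem claim_eight : Perm M W₁ W₂ := by
  have hbot : Inv M (⊥ : Submodule F (V8 F)) := by
    intro m _ v hv
    rw [Submodule.mem_bot] at hv ⊢
    rw [hv, map_zero]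
  have htop : Inv M (⊤ : Submodule F (V8 F)) := fun _ _ _ _ => trivial
  by_cases hirr : ∀ T, Inv M T → ⊥ ≤ T → T ≤ ⊤ → T = ⊥ ∨ T = ⊤
  · refine perm_of_inv_plane h hs hM hg h2 hC hsim hr hN ?_
    intro m hm x hx
    obtain ⟨k, hk⟩ := section_normal (p := p) (r := r) finrank_V8.le hM hg hs.ord h2 hC hbot htop bot_le hirr
      (M.inv_mem hm)
    have h4 := hk x trivial
    rw [Submodule.mem_bot, sub_eq_zero, inv_inv] at h4
    have hgx : g x = x := by
      obtain ⟨s, t, rfl⟩ := mem_plane.1 hx
      exact Singer.fix_C h hs _ _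
    have h5 : (g ^ k) x = x := by
      have : ∀ j : ℕ, (g ^ j) x = x := by
        intro j
        induction j with
        | zero => rfl
        | succ j ih =>
          rw [pow_succ']
          show g ((g ^ j) x) = x
          rw [ih, hgx]
      exact this k
    have h6 : g (m x) = m x := by
      have h7 : m ((m⁻¹ * g * m) x) = m x := by rw [h4, h5]
      have h8 : m ((m⁻¹ * g * m) x) = g (m x) := by
        show m (m⁻¹ (g (m x))) = g (m x)
        exact m.apply_symm_apply _
      rw [← h8, h7]
    rw [Singer.mem_C_of_fixed h hs h6]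
    exact mem_plane.2 ⟨_, _, rfl⟩
  · push Not at hirr
    obtain ⟨T, hT, -, -, h5, h6⟩ := hirr
    rcases TI_cases h hs hM hg h2 hC hsim hr hN (hT.inf (inv_orth hsim hT))
        (fun x hx y hy => hy.2 x hx.1) with h7 | ⟨h20, v, hv0, hq, h7⟩
    · have hbad : ∀ W : Submodule F (V8 F), W ≤ W₁ ⊔ W₂ → TS (plusForm 4 F) W → W ≠ ⊥ →
          T ⊓ (W₁ ⊔ W₂) = W → False := by
        intro W hW hWT hW0 h8
        apply hW0
        rw [eq_bot_iff, ← h7]
        intro w hw
        have h9 : w ∈ T ⊓ (W₁ ⊔ W₂) := by rw [h8]; exact hw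
        refine ⟨h9.1, fun t ht => ?_⟩
        obtain ⟨c, hc, u, hu, rfl⟩ := Singer.mem_parts h hs hr (hT g hg) ht
        rw [h8] at hu
        rw [polar_add_left, h.plane_perp hc.2 (hW hw), hWT.polar hu hw, add_zero]
      rcases Singer.cases_inf h hs (hT g hg) with h8 | h8 | h8 | h8
      · refine perm_of_le_plane h hs hM hg h2 hC hsim hr hN hT h5 ?_
        intro x hx
        obtain ⟨c, hc, u, hu, rfl⟩ := Singer.mem_parts h hs hr (hT g hg) hx
        rw [h8, Submodule.mem_bot] at hu
        rw [hu, add_zero]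
        exact hc.2
      · exact (hbad W₁ le_sup_left h.ts₁ h.W₁_ne h8).elim
      · exact (hbad W₂ le_sup_right h.ts₂ h.symm.W₁_ne h8).elim
      · have h9 : W₁ ⊔ W₂ ≤ T := inf_eq_right.1 h8
        refine perm_of_le_plane h hs hM hg h2 hC hsim hr hN (inv_orth hsim hT) ?_ ?_
        · intro h10
          apply h6
          rw [eq_top_iff]
          intro x _
          -- `T ⊓ plane` is everything, otherwise there is an orthogonal vector
          by_contra hxT
          have h11 : T ⊓ plane c₁ c₂ ≠ plane c₁ c₂ := by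
            intro h12
            apply hxT
            obtain ⟨w₁, h₁, w₂, h₂, hx⟩ := h.decomp x
            rw [hx]
            refine T.add_mem (inf_eq_right.1 h12 (mem_plane.2 ⟨_, _, rfl⟩)) (h9 (Submodule.add_mem_sup h₁ h₂))
          -- dimension of `T ⊓ plane` is at most one
          have h12 : finrank F ↥(T ⊓ plane c₁ c₂) < 2 := by
            rw [← h.finrank_plane]
            exact Submodule.finrank_lt_finrank_of_lt (lt_of_le_of_ne inf_le_right h11)
          have h13 : ∃ c ∈ plane c₁ c₂, c ≠ 0 ∧ ∀ t ∈ T ⊓ plane c₁ c₂, polar (plusForm 4 F) t c = 0 := by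
            by_cases h14 : T ⊓ plane c₁ c₂ = ⊥
            · refine ⟨c₁, mem_plane.2 ⟨1, 0, by simp⟩, h.c₁_ne, ?_⟩
              intro t ht
              rw [h14, Submodule.mem_bot] at ht
              rw [ht, polar_zero_left]
            · obtain ⟨t, ht, ht0⟩ := Submodule.exists_mem_ne_zero_of_ne_bot h14
              obtain ⟨s, s', rfl⟩ := mem_plane.1 ht.2
              refine ⟨s • c₁ + (-s') • c₂, mem_plane.2 ⟨_, _, rfl⟩, ?_, ?_⟩
              · intro h15
                have h16 := h.polar_comb s (-s')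
                rw [h15, polar_zero_right, polar_zero_right] at h16
                apply ht0
                rw [← h16.2, neg_eq_zero.1 h16.1.symm, zero_smul, zero_smul, add_zero]
              · intro t' ht'
                have h17 : T ⊓ plane c₁ c₂ = Submodule.span F {s • c₁ + s' • c₂} := by
                  symm
                  apply Submodule.eq_of_le_of_finrank_le
                  · rw [Submodule.span_singleton_le_iff_mem]; exact ht
                  · rw [finrank_span_singleton ht0]
                    omega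
                rw [h17] at ht'
                obtain ⟨z, rfl⟩ := Submodule.mem_span_singleton.1 ht'
                rw [polar_smul_left, polar_add_left, polar_smul_left, polar_smul_left, (h.polar_comb s (-s')).1,
                  (h.polar_comb s (-s')).2]
                simp only [smul_eq_mul]
                ring
          obtain ⟨c, hcp, hc0, hc⟩ := h13
          have h14 : c ∈ orth T := by
            intro t ht
            obtain ⟨d, hd, u, hu, rfl⟩ := Singer.mem_parts h hs hr (hT g hg) ht
            rw [polar_add_left, hc d hd, polar_comm _ u c, h.plane_perp hcp hu.2, add_zero]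
          rw [h10, Submodule.mem_bot] at h14
          exact hc0 h14
        · intro x hx
          obtain ⟨w₁, h₁, w₂, h₂, hx'⟩ := h.decomp x
          have h10 : w₁ + w₂ = 0 := by
            have h11 : ∀ u ∈ W₁ ⊔ W₂, polar (plusForm 4 F) u (w₁ + w₂) = 0 := by
              intro u hu
              have h12 := hx u (h9 hu)
              rw [hx', polar_add_right, polar_comm _ u (_ + _ : V8 F), h.plane_perp (mem_plane.2 ⟨_, _, rfl⟩) hu,
                zero_add] at h12
              exact h12
            have h12 : w₁ = 0 := h.dual h₁ fun u hu => by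
              have h13 := h11 u (Submodule.mem_sup_right hu)
              rw [polar_add_right, h.ts₂.polar hu h₂, add_zero, polar_comm] at h13
              exact h13
            have h13 : w₂ = 0 := h.symm.dual h₂ fun u hu => by
              have h13 := h11 u (Submodule.mem_sup_left hu)
              rw [polar_add_right, h.ts₁.polar hu h₁, zero_add, polar_comm] at h13
              exact h13
            rw [h12, h13, add_zero]
          rw [hx', h10, add_zero]
          exact mem_plane.2 ⟨_, _, rfl⟩
    · refine perm_of_line h hs hM hg h2 hC hsim hr hN hq ?_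
      rw [← h7]
      exact hT.inf (inv_orth hsim hT)

end eight

end Cfsg.Agent.H465.OEight
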