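import Cfsg.Agent.H465.OETri
import Cfsg.Agent.H518.SUExc

/-!
# `PΩ⁺₈(q)`, `q² + q + 1` prime: the final argument (helper465)
-/

set_option autoImplicit false
set_option linter.unusedSectionVars false

namespace Cfsg.Agent.H465.OEight

open Module QuadraticMap Cfsg.Agent.LieClassical.OrthCore Cfsg.Agent.LieClassical.OrthTrans
  Cfsg.Agent.ClassicalGeometry.OrthAut1 Cfsg.Agent.LieClassical.QuadForms Cfsg.Agent.ClassicalGeometry.TrialityOct
  Cfsg.Agent.ClassicalGeometry.Triality Cfsg.Agent.ClassicalGeometry.OrthSemi Cfsg.Agent.H198.TriAut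
  Cfsg.Agent.ClassicalGeometry.TrialityIndex

universe u

variable {F : Type u} [Field F] [Fintype F] {p r : ℕ} [Fact p.Prime] [CharP F p] [Fact r.Prime] (D : Dat F p r)
include D

theorem Dat.finite_P8 : Finite (P8 F) := by
  have h1 : Finite (V8 F ≃ₗ[F] V8 F) := finite_equiv
  infer_instance

/-- no automorphism of prime order generates solvable groups with all elements of order `r` -/
theorem Dat.not_HS [IsSimpleGroup (P8 F)] (hZ : Subgroup.center (P8 F) = ⊥) (hK : ¬ r ^ 2 ∣ Nat.card (P8 F))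
    (hpow : ∀ x : MulAut (P8 F), (orderOf x).Prime → (∀ a : MulAut (P8 F), a⁻¹ * x * a ∉
      (Psi (plusForm 4 F)).range) → x ^ 3 = 1)
    {β : MulAut (P8 F)} (hβ : (orderOf β).Prime) : ¬ HS r β := by
  intro hS
  have hfin := D.finite_P8
  have hr : r.Prime := Fact.out
  have hne : β ≠ 1 := by
    rintro rfl
    rw [orderOf_one] at hβ
    exact Nat.not_prime_one hβ
  by_cases hc : ∃ α : MulAut (P8 F), α⁻¹ * β * α ∈ (Psi (plusForm 4 F)).range
  · obtain ⟨α, hα⟩ := hc
    obtain ⟨b, hb⟩ := D.exists_psi hα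
    have h1 : (α⁻¹ * β * α) ^ orderOf β = 1 := by
      have h2 : α⁻¹ * β * α = α⁻¹ * β * α⁻¹⁻¹ := by rw [inv_inv]
      rw [h2, conj_pow, pow_orderOf_eq_one, mul_one, mul_inv_cancel]
    have h2 := D.psi_eq_one b (by rw [hb]; exact hS.conj α) hβ (by rw [hb]; exact h1)
    apply hne
    have h3 : β = α * (α⁻¹ * β * α) * α⁻¹ := by group
    rw [h3, ← hb, h2, mul_one, mul_inv_cancel]
  · push Not at hc
    have h3 := hpow β hβ hc
    obtain ⟨c₁, c₂, W₁, W₂, h, -⟩ := H597.OEight.exists_not_swap (1 : V8 F ≃ₗ[F] V8 F)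
    obtain ⟨g, hs⟩ := H462.OEight.exists_singer D.hr Fact.out h
    have hyo := Singer.orderOf_mk D.good h hs
    set y : P8 F := ((⟨g, hs.mem⟩ : ↥(E (plusForm 4 F))) : P8 F) with hy
    apply hne
    refine SU.eq_one_of_normalises (A := Subgroup.zpowers y) (fun hn => ?_) fun k => ?_
    · rcases hn.eq_bot_or_eq_top with h1 | h1
      · rw [Subgroup.zpowers_eq_bot] at h1
        rw [h1, orderOf_one] at hyo
        exact hr.one_lt.ne hyo
      · have h2 : y ∈ Subgroup.center (P8 F) := by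
          rw [Subgroup.mem_center_iff]
          intro k
          have h3 : k ∈ Subgroup.zpowers y := by rw [h1]; trivial
          obtain ⟨j, rfl⟩ := Subgroup.mem_zpowers_iff.1 h3
          exact ((Commute.refl y).zpow_left j).eq
        rw [hZ, Subgroup.mem_bot] at h2
        rw [h2, orderOf_one] at hyo
        exact hr.one_lt.ne hyo
    · -- conjugate `β`
      have h4 : ((MulAut.conj k)⁻¹ * β * MulAut.conj k) ^ 3 = 1 := by
        have h2 : (MulAut.conj k)⁻¹ * β * MulAut.conj k = (MulAut.conj k)⁻¹ * β * (MulAut.conj k)⁻¹⁻¹ := by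
          rw [inv_inv]
        rw [h2, conj_pow, h3, mul_one, mul_inv_cancel]
      have h5 := D.normalises hK (hS.conj (MulAut.conj k)) h4 (fun α => by
        have h6 : α⁻¹ * ((MulAut.conj k)⁻¹ * β * MulAut.conj k) * α =
            (MulAut.conj k * α)⁻¹ * β * (MulAut.conj k * α) := by group
        rw [h6]
        exact hc _) h hs
      rw [← hy, map_mulAut_mul, map_mulAut_mul] at h5
      have h6 := congrArg (fun A : Subgroup (P8 F) => A.map (MulAut.conj k).toMonoidHom) h5
      simp only [map_mulAut_inv'] at h6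
      exact h6

/-- the strong generation property -/
theorem Dat.exc [IsSimpleGroup (P8 F)] (hZ : Subgroup.center (P8 F) = ⊥) (hK : ¬ r ^ 2 ∣ Nat.card (P8 F))
    (hpow : ∀ x : MulAut (P8 F), (orderOf x).Prime → (∀ a : MulAut (P8 F), a⁻¹ * x * a ∉
      (Psi (plusForm 4 F)).range) → x ^ 3 = 1) (hO : ¬ r ∣ Nat.card (Cfsg.Out (P8 F))) : H518.SU.Exc2 (P8 F) := by
  have hfin := D.finite_P8
  have hr : r.Prime := Fact.out
  obtain ⟨c₁, c₂, W₁, W₂, h, -⟩ := H597.OEight.exists_not_swap (1 : V8 F ≃ₗ[F] V8 F)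
  obtain ⟨g, hs⟩ := H462.OEight.exists_singer D.hr Fact.out h
  have hyo := Singer.orderOf_mk D.good h hs
  have h5 : 5 ≤ r := by
    have h1 := D.card.two_le
    rw [D.hr]
    nlinarith
  refine ⟨r, hr, h5, hO, hK, _, hyo, fun β hβ => ?_⟩
  have h6 := D.not_HS hZ hK hpow hβ
  unfold HS at h6
  push Not at h6
  obtain ⟨z, hz, hns⟩ := h6
  obtain ⟨k, hk⟩ := H518.SU.exists_conj_zpowers hr hK hyo hz
  refine ⟨k, fun hsol => hns ?_⟩
  have hle : Subgroup.closure ({MulAut.conj z, β} : Set (MulAut (P8 F))) ≤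
      Subgroup.closure ({MulAut.conj (k * ((⟨g, hs.mem⟩ : ↥(E (plusForm 4 F))) : P8 F) * k⁻¹), β} :
        Set (MulAut (P8 F))) := by
    rw [Subgroup.closure_le]
    rintro x (rfl | rfl)
    · obtain ⟨j, hj⟩ := Subgroup.mem_zpowers_iff.1 hk
      rw [← hj, map_zpow]
      exact Subgroup.zpow_mem _ (Subgroup.subset_closure (by simp)) j
    · exact Subgroup.subset_closure (by simp)
  exact Group.isSolvable_of_isSolvable_injective (f := Subgroup.inclusion hle) (Subgroup.inclusion_injective hle)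

end Cfsg.Agent.H465.OEight
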