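import Mathlib
import Cfsg.Agent.H465.LinSolv
import Cfsg.Agent.H465.SpArith
import Cfsg.Agent.Lib.PGroupFixedVector

/-!
# Solvable linear groups containing an element of prime order `r` (helper465)

* `zpowers_normal_of_cores` : `L` solvable, `y` of prime order `r`, `r² ∤ |L|`, `y` commutes with all `O_t(L)`, `t ≠ r`:
  then `⟨y⟩ ⊲ L`;
* `irr_normal` : the case of an irreducible linear group;
* `section_normal` : the same for an irreducible section `S / S'`.
-/

set_option autoImplicit false

namespace Cfsg.Agent.H465.OEight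

open Subgroup Module

universe u v

section groups

variable {L : Type*} [Group L] [Finite L]

theorem zpowers_normal_of_cores (hL : Group.IsSolvable L) {r : ℕ} [Fact r.Prime] {y : L} (hy : orderOf y = r)
    (h2 : ¬ r ^ 2 ∣ Nat.card L) (hc : ∀ t : ℕ, t.Prime → t ≠ r → ∀ u ∈ Cfsg.pCore t L, y * u = u * y) :
    (zpowers y).Normal := by
  have hr : r.Prime := Fact.out
  have hzy : IsPGroup r (zpowers y) := IsPGroup.of_card (n := 1) (by rw [Nat.card_zpowers, hy, pow_one])
  obtain ⟨P, hP⟩ := hzy.exists_le_sylow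
  obtain ⟨k, hk⟩ := IsPGroup.iff_card.1 P.2
  have hk1 : k ≤ 1 := by
    by_contra h
    apply h2
    have h3 : r ^ 2 ∣ Nat.card (P : Subgroup L) := by
      rw [hk]
      exact pow_dvd_pow r (by omega)
    exact h3.trans (card_subgroup_dvd_card _)
  have hPe : zpowers y = (P : Subgroup L) := by
    refine eq_of_le_of_card_ge hP ?_
    rw [hk, Nat.card_zpowers, hy]
    calc r ^ k ≤ r ^ 1 := Nat.pow_le_pow_right hr.pos hk1
      _ = r := pow_one r
  have hcore : Cfsg.pCore r L ≤ zpowers y := by
    rw [hPe]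
    exact Lib.Cores.pCore_le_sylow P
  have hfit : zpowers y ≤ Cfsg.fittingSubgroup L := by
    have h3 : zpowers y ≤ centralizer (Cfsg.fittingSubgroup L : Set L) := by
      rw [Lib.Cores.fittingSubgroup_eq_iSup_pCore]
      rw [zpowers_le]
      rw [mem_centralizer_iff]
      intro u hu
      have h4 : (⨆ p : Nat.Primes, Cfsg.pCore (p : ℕ) L) ≤ centralizer ({y} : Set L) := by
        refine iSup_le fun p => ?_
        intro w hw
        rw [mem_centralizer_singleton_iff]
        by_cases hpr : (p : ℕ) = r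
        · rw [hpr] at hw
          obtain ⟨i, hi⟩ := mem_zpowers_iff.1 (hcore hw)
          rw [← hi]
          exact ((Commute.refl y).zpow_right i).eq.symm
        · exact (hc p p.2 hpr w hw).symm
      have h5 := h4 hu
      rw [mem_centralizer_singleton_iff] at h5
      exact h5
    exact h3.trans Cfsg.Agent.S0044.result
  have h6 := Lib.BenderMaximal.le_pCore_of_le_fittingSubgroup hzy hfit
  have h7 : zpowers y = Cfsg.pCore r L := le_antisymm h6 hcore
  rw [h7]
  exact Lib.Cores.pCore_normal r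

end groups

section linear

variable {F : Type u} [Field F]

/-- The hypothesis on the image of an element of order `r` in a linear group: it centralises the `t`-subgroups which it
normalises. -/
def Cen (F : Type u) [Field F] (p r : ℕ) (M : Type v) [Group M] : Prop :=
  ∀ (W : Type u) [AddCommGroup W] [Module F W] [FiniteDimensional F W], finrank F W ≤ 8 →
    ∀ (σ : M →* (W ≃ₗ[F] W)) (t : ℕ), t.Prime → t ≠ r → t ≠ p → ∀ (T : Subgroup σ.range), IsPGroup t T →
      ∀ y : M, orderOf y = r → (∀ u ∈ T, σ.rangeRestrict y * u * (σ.rangeRestrict y)⁻¹ ∈ T) →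
        ∀ u ∈ T, σ.rangeRestrict y * u = u * σ.rangeRestrict y

theorem orderOf_image {M L : Type*} [Group M] [Group L] (f : M →* L) {r : ℕ} (hr : r.Prime) {y : M}
    (hy : orderOf y = r) : f y = 1 ∨ orderOf (f y) = r := by
  have h1 : orderOf (f y) ∣ r := hy ▸ orderOf_map_dvd f y
  rcases (Nat.dvd_prime hr).1 h1 with h | h
  · exact Or.inl (orderOf_eq_one_iff.1 h)
  · exact Or.inr h

/-- dimension at most `8`, `r > 9` -/
theorem cen_of_lin {p r : ℕ} [Fact p.Prime] [CharP F p] (hr : r.Prime) (h9 : 9 < r) (M : Type v) [Group M]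
    [Finite M] : Cen F p r M := by
  intro W _ _ _ hW σ t ht htr htp T hT y hy hyT u hu
  rcases orderOf_image σ.rangeRestrict hr hy with h | h
  · rw [h, one_mul, mul_one]
  · have : Finite σ.range := Finite.of_surjective σ.rangeRestrict σ.rangeRestrict_surjective
    have h1 := LinSolv.centralize (F := F) (V := W) σ.range.subtype σ.range.subtype_injective hr (by omega)
      (a := 1) le_rfl ht htr (by
        intro h0
        have h2 := (CharP.cast_eq_zero_iff F p t).1 h0
        exact htp ((Nat.prime_dvd_prime_iff_eq Fact.out ht).1 h2).symm)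
      (y := σ.rangeRestrict y) (by rw [pow_one]; exact h) hT hyT (Or.inl (by
        simp only [Nat.sub_self, pow_zero, pow_one]
        omega))
    simp only [Nat.sub_self, pow_zero, pow_one] at h1
    exact h1 u hu

/-- arithmetic of the order -/
theorem cen_of_arith {p r : ℕ} (hr : r.Prime) (M : Type v) [Group M] [Finite M]
    (h : ∀ t k : ℕ, t.Prime → t ≠ r → t ≠ p → t ^ k ∣ Nat.card M → r ∣ t ^ k - 1 → k = 0) : Cen F p r M := by
  intro W _ _ _ hW σ t ht htr htp T hT y hy hyT u hu
  rcases orderOf_image σ.rangeRestrict hr hy with h0 | h0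
  · rw [h0, one_mul, mul_one]
  · have : Fact t.Prime := ⟨ht⟩
    have : Finite σ.range := Finite.of_surjective σ.rangeRestrict σ.rangeRestrict_surjective
    obtain ⟨k, hk⟩ := IsPGroup.iff_card.1 hT
    obtain ⟨j, hj, hc, hd⟩ := SU.card_fixed hr ht htr h0 hk hyT
    have hj0 : j = 0 := by
      refine h t j ht htr htp ?_ hd
      have h1 : t ^ k ∣ Nat.card σ.range := by
        rw [← hk]
        exact card_subgroup_dvd_card _
      exact ((pow_dvd_pow t hj).trans h1).trans (Subgroup.card_range_dvd σ)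
    rw [hj0, Nat.sub_zero, ← hk] at hc
    have h2 : T ⊓ centralizer ({σ.rangeRestrict y} : Set σ.range) = T :=
      eq_of_le_of_card_ge inf_le_left hc.ge
    have h3 : u ∈ centralizer ({σ.rangeRestrict y} : Set σ.range) := by
      have h4 : u ∈ T ⊓ centralizer ({σ.rangeRestrict y} : Set σ.range) := by rw [h2]; exact hu
      exact h4.2
    rw [mem_centralizer_singleton_iff] at h3
    exact h3.symm

/-- **Lemma I.** In an irreducible solvable linear group an element of order `r` generates a normal subgroup. -/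
theorem irr_normal {p r : ℕ} [Fact p.Prime] [CharP F p] [Fact r.Prime] {V : Type u} [AddCommGroup V] [Module F V]
    [FiniteDimensional F V] (h8 : finrank F V ≤ 8) {M : Type v} [Group M] [Finite M] (hM : Group.IsSolvable M)
    (ρ : M →* (V ≃ₗ[F] V)) {y : M} (hy : orderOf y = r) (h2 : ¬ r ^ 2 ∣ Nat.card M) (hC : Cen F p r M)
    (hirr : ∀ S : Submodule F V, (∀ m, ∀ v ∈ S, ρ m v ∈ S) → S = ⊥ ∨ S = ⊤) (b : M) :
    ρ (b * y * b⁻¹) ∈ zpowers (ρ y) := by
  have hr : r.Prime := Fact.out
  have hp : p.Prime := Fact.out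
  set L := ρ.range with hL
  set f := ρ.rangeRestrict with hf
  have hfc : ∀ m, ((f m : L) : V ≃ₗ[F] V) = ρ m := fun m => rfl
  rcases orderOf_image f hr hy with h0 | h0
  · have h3 : ρ y = 1 := by rw [← hfc, h0]; rfl
    rw [map_mul, map_mul, h3, mul_one, map_inv, mul_inv_cancel]
    exact one_mem _
  have : Finite L := Finite.of_surjective f ρ.rangeRestrict_surjective
  have hsol : Group.IsSolvable L := Group.isSolvable_of_surjective (f := f) ρ.rangeRestrict_surjective
  have h2' : ¬ r ^ 2 ∣ Nat.card L := fun h => h2 (h.trans (Subgroup.card_range_dvd ρ))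
  have hcp : Cfsg.pCore p L = ⊥ := by
    by_cases hV : Subsingleton V
    · rw [eq_bot_iff]
      intro u _
      rw [mem_bot]
      apply Subtype.ext
      ext v
      exact Subsingleton.elim _ _
    have hVn : Nontrivial V := not_subsingleton_iff_nontrivial.1 hV
    let S : Submodule F V :=
      { carrier := {v | ∀ u ∈ Cfsg.pCore p L, (u : V ≃ₗ[F] V) v = v}
        add_mem' := fun {a b} ha hb u hu => by rw [map_add, ha u hu, hb u hu]
        zero_mem' := fun u _ => map_zero _
        smul_mem' := fun c v hv u hu => by rw [map_smul, hv u hu] }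
    have hS : ∀ v, v ∈ S ↔ ∀ u ∈ Cfsg.pCore p L, (u : V ≃ₗ[F] V) v = v := fun v => Iff.rfl
    have hn : (Cfsg.pCore p L).Normal := Lib.Cores.pCore_normal p
    have hSinv : ∀ m, ∀ v ∈ S, ρ m v ∈ S := by
      intro m v hv u hu
      have h4 := hn.conj_mem u hu (f m)⁻¹
      have h5 := hv _ h4
      have h6 : (((f m)⁻¹ * u * (f m)⁻¹⁻¹ : L) : V ≃ₗ[F] V) v = (ρ m)⁻¹ ((u : V ≃ₗ[F] V) (ρ m v)) := by
        rw [inv_inv]
        rfl
      rw [h6] at h5
      have h7 : ρ m ((ρ m)⁻¹ ((u : V ≃ₗ[F] V) (ρ m v))) = (u : V ≃ₗ[F] V) (ρ m v) :=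
        (ρ m).apply_symm_apply _
      rw [← h7, h5]
    have hne : S ≠ ⊥ := by
      let σ : Representation F (Cfsg.pCore p L) V :=
        { toFun := fun u => (((u : L) : V ≃ₗ[F] V)).toLinearMap
          map_one' := by
            ext v
            simp
          map_mul' := fun a b => by
            ext v
            simp }
      obtain ⟨v, hv0, hv⟩ := Lib.PGroupFixedVector.exists_ne_zero_fixed_rep (p := p)
        (Lib.Cores.pCore_isPGroup p) σ
      intro h
      have h5 : v ∈ S := fun u hu => hv ⟨u, hu⟩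
      rw [h, Submodule.mem_bot] at h5
      exact hv0 h5
    have htop := (hirr S hSinv).resolve_left hne
    rw [eq_bot_iff]
    intro u hu
    rw [mem_bot]
    apply Subtype.ext
    ext v
    have h5 : v ∈ S := by rw [htop]; trivial
    exact h5 u hu
  have hN : (zpowers (f y)).Normal := by
    refine zpowers_normal_of_cores hsol h0 h2' fun t ht htr u hu => ?_
    by_cases htp : t = p
    · rw [htp, hcp, mem_bot] at hu
      rw [hu, mul_one, one_mul]
    · have : Fact t.Prime := ⟨ht⟩
      refine hC V h8 ρ t ht htr htp (Cfsg.pCore t L) (Lib.Cores.pCore_isPGroup t) y hy (fun w hw => ?_) u hu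
      exact (Lib.Cores.pCore_normal t).conj_mem w hw _
  have h3 := hN.conj_mem (f y) (mem_zpowers _) (f b)
  obtain ⟨k, hk⟩ := mem_zpowers_iff.1 h3
  refine mem_zpowers_iff.2 ⟨k, ?_⟩
  have h4 := congrArg (Subtype.val : L → V ≃ₗ[F] V) hk
  rw [← map_inv, ← map_mul, ← map_mul] at h4
  rw [← hfc (b * y * b⁻¹), ← h4]
  rfl

end linear

section sections

variable {F : Type u} [Field F] {V : Type u} [AddCommGroup V] [Module F V]

/-- `S` is `M`-invariant -/
def Inv (M : Subgroup (V ≃ₗ[F] V)) (S : Submodule F V) : Prop := ∀ m ∈ M, ∀ v ∈ S, m v ∈ S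

variable {M : Subgroup (V ≃ₗ[F] V)} {S' S : Submodule F V}

/-- the action on an invariant subspace -/
def resEnd (hS : Inv M S) : M →* End F S where
  toFun m := (m : V ≃ₗ[F] V).toLinearMap.restrict (hS m m.2)
  map_one' := by
    ext v
    rfl
  map_mul' a b := by
    ext v
    rfl

theorem resEnd_apply (hS : Inv M S) (m : M) (v : S) : ((resEnd hS m v : S) : V) = (m : V ≃ₗ[F] V) v := rfl

/-- the action on an invariant section -/
def secEnd (hS : Inv M S) (hS' : Inv M S') : M →* End F (S ⧸ S'.submoduleOf S) where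
  toFun m := (S'.submoduleOf S).mapQ (S'.submoduleOf S) (resEnd hS m) (by
    intro v hv
    show ((resEnd hS m v : S) : V) ∈ S'
    rw [resEnd_apply]
    exact hS' m m.2 _ hv)
  map_one' := by
    ext v
    simp
  map_mul' a b := by
    ext v
    simp

theorem secEnd_mk (hS : Inv M S) (hS' : Inv M S') (m : M) (v : S) :
    secEnd hS hS' m (Submodule.Quotient.mk v) = Submodule.Quotient.mk (resEnd hS m v) := rfl

/-- the action on an invariant section by automorphisms -/
def secAut (hS : Inv M S) (hS' : Inv M S') : M →* ((S ⧸ S'.submoduleOf S) ≃ₗ[F] (S ⧸ S'.submoduleOf S)) :=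
  (LinearMap.GeneralLinearGroup.generalLinearEquiv F _).toMonoidHom.comp (secEnd hS hS').toHomUnits

theorem secAut_mk (hS : Inv M S) (hS' : Inv M S') (m : M) (v : S) :
    secAut hS hS' m (Submodule.Quotient.mk v) = Submodule.Quotient.mk (resEnd hS m v) := rfl

/-- **Lemma I for sections.** -/
theorem section_normal [Finite F] [FiniteDimensional F V] {p r : ℕ} [Fact p.Prime] [CharP F p] [Fact r.Prime]
    (h8 : finrank F V ≤ 8) (hM : Group.IsSolvable M) [Finite M] {g : V ≃ₗ[F] V} (hg : g ∈ M) (ho : orderOf g = r)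
    (h2 : ¬ r ^ 2 ∣ Nat.card M) (hC : Cen F p r M) (hS' : Inv M S') (hS : Inv M S) (hle : S' ≤ S)
    (hirr : ∀ T, Inv M T → S' ≤ T → T ≤ S → T = S' ∨ T = S) {m : V ≃ₗ[F] V} (hm : m ∈ M) :
    ∃ k : ℕ, ∀ v ∈ S, (m * g * m⁻¹) v - (g ^ k) v ∈ S' := by
  have hr : r.Prime := Fact.out
  have hd : finrank F (S ⧸ S'.submoduleOf S) ≤ 8 :=
    ((Submodule.finrank_quotient_le _).trans (Submodule.finrank_le S)).trans h8
  have key := irr_normal (F := F) (p := p) (r := r) hd hM (secAut hS hS') (y := (⟨g, hg⟩ : M))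
    (by rw [← ho, Subgroup.orderOf_mk]) h2 hC ?_ ⟨m, hm⟩
  · have hfin : IsOfFinOrder (secAut hS hS' (⟨g, hg⟩ : M)) :=
      (secAut hS hS').isOfFinOrder (isOfFinOrder_of_finite (⟨g, hg⟩ : M))
    obtain ⟨k, hk⟩ := hfin.mem_powers_iff_mem_zpowers.2 key
    refine ⟨k, fun v hv => ?_⟩
    have hk' : secAut hS hS' ((⟨g, hg⟩ : M) ^ k) = secAut hS hS' (⟨m, hm⟩ * ⟨g, hg⟩ * (⟨m, hm⟩ : M)⁻¹) := by
      rw [map_pow]
      exact hk
    have h3 := LinearEquiv.congr_fun hk' (Submodule.Quotient.mk (⟨v, hv⟩ : S))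
    rw [secAut_mk, secAut_mk, eq_comm, Submodule.Quotient.eq] at h3
    exact h3
  · -- irreducibility
    intro T hT
    set T1 : Submodule F V := (T.comap (S'.submoduleOf S).mkQ).map S.subtype with hT1
    have hmem : ∀ v : V, v ∈ T1 ↔ ∃ h : v ∈ S, Submodule.Quotient.mk (⟨v, h⟩ : S) ∈ T := by
      intro v
      rw [hT1, Submodule.mem_map]
      constructor
      · rintro ⟨w, hw, rfl⟩
        exact ⟨w.2, hw⟩
      · rintro ⟨h, h'⟩
        exact ⟨⟨v, h⟩, h', rfl⟩
    have h3 := hirr T1 (by
      intro m hm v hv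
      obtain ⟨h, h'⟩ := (hmem v).1 hv
      refine (hmem _).2 ⟨hS m hm v h, ?_⟩
      exact hT ⟨m, hm⟩ _ h') (by
      intro v hv
      refine (hmem v).2 ⟨hle hv, ?_⟩
      have : (Submodule.Quotient.mk (⟨v, hle hv⟩ : S) : S ⧸ S'.submoduleOf S) = 0 := by
        rw [Submodule.Quotient.mk_eq_zero]
        exact hv
      rw [this]
      exact T.zero_mem) (by
      intro v hv
      exact ((hmem v).1 hv).1)
    rcases h3 with h3 | h3
    · left
      rw [eq_bot_iff]
      intro q hq
      obtain ⟨v, rfl⟩ := Submodule.Quotient.mk_surjective _ q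
      rw [Submodule.mem_bot, Submodule.Quotient.mk_eq_zero]
      show (v : V) ∈ S'
      rw [← h3]
      exact (hmem _).2 ⟨v.2, hq⟩
    · right
      rw [eq_top_iff]
      intro q _
      obtain ⟨v, rfl⟩ := Submodule.Quotient.mk_surjective _ q
      have h4 : (v : V) ∈ T1 := by rw [h3]; exact v.2
      exact ((hmem _).1 h4).2

end sections

end Cfsg.Agent.H465.OEight
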