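import Cfsg.Agent.H465.OEBase
import Cfsg.Agent.H465.OELin
import Cfsg.Agent.LieClassical.OrthFinite

/-!
# Frames: the subspaces invariant under a Singer element (helper465)
-/

set_option autoImplicit false

namespace Cfsg.Agent.H465.OEight

open Module QuadraticMap Cfsg.Agent.LieClassical.OrthCore Cfsg.Agent.LieClassical.OrthTrans
  Cfsg.Agent.ClassicalGeometry.OrthAut1 Cfsg.Agent.LieClassical.QuadForms Cfsg.Agent.ClassicalGeometry.TrialityOct
  Cfsg.Agent.ClassicalGeometry.Triality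

universe u

variable {F : Type u} [Field F] {c₁ c₂ : V8 F} {W₁ W₂ : Submodule F (V8 F)}

/-- the hyperplane `u^⊥` -/
def perp (u : V8 F) : Submodule F (V8 F) := LinearMap.ker (polarBilin (plusForm 4 F) u)

theorem mem_perp {u a : V8 F} : a ∈ perp u ↔ polar (plusForm 4 F) u a = 0 := Iff.rfl

theorem finrank_V8 : finrank F (V8 F) = 8 := by
  rw [Module.finrank_fintype_fun_eq_card]
  rfl

theorem polar_self_of {u : V8 F} (hu : plusForm 4 F u = 0) : polar (plusForm 4 F) u u = 0 := by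
  rw [QuadraticMap.polar_self, hu, smul_zero]

namespace Frame

variable (h : Frame c₁ c₂ W₁ W₂)
include h

theorem symm : Frame c₁ c₂ W₂ W₁ :=
  ⟨h.q₁, h.q₂, h.pair, h.ts₂, h.ts₁, h.d₂, h.d₁, by rw [inf_comm, h.disj], h.perp₂, h.perp₁⟩

theorem swap : Frame c₂ c₁ W₁ W₂ :=
  ⟨h.q₂, h.q₁, by rw [polar_comm, h.pair], h.ts₁, h.ts₂, h.d₁, h.d₂, h.disj, fun w hw => (h.perp₁ w hw).symm,
    fun w hw => (h.perp₂ w hw).symm⟩

theorem sup_eq : W₁ ⊔ W₂ = perp c₁ ⊓ perp c₂ := by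
  let φ : V8 F →ₗ[F] F × F := (polarBilin (plusForm 4 F) c₁).prod (polarBilin (plusForm 4 F) c₂)
  have hφ : LinearMap.ker φ = perp c₁ ⊓ perp c₂ := by
    ext v
    rw [LinearMap.mem_ker, Submodule.mem_inf, mem_perp, mem_perp]
    exact Prod.mk_eq_zero
  have hsurj : LinearMap.range φ = ⊤ := by
    rw [LinearMap.range_eq_top]
    rintro ⟨a, b⟩
    refine ⟨b • c₁ + a • c₂, ?_⟩
    show (polar (plusForm 4 F) c₁ (b • c₁ + a • c₂), polar (plusForm 4 F) c₂ (b • c₁ + a • c₂)) = (a, b)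
    rw [polar_add_right, polar_add_right, polar_smul_right, polar_smul_right, polar_smul_right, polar_smul_right,
      polar_self_of h.q₁, polar_self_of h.q₂, h.pair, polar_comm _ c₂ c₁, h.pair]
    simp
  have hd : finrank F (LinearMap.ker φ) = 6 := by
    have h1 := LinearMap.finrank_range_add_finrank_ker φ
    rw [hsurj, finrank_top, finrank_V8, Module.finrank_prod, Module.finrank_self] at h1
    omega
  have hle : W₁ ⊔ W₂ ≤ LinearMap.ker φ := by
    rw [hφ]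
    refine sup_le (fun w hw => ?_) (fun w hw => ?_)
    · exact h.perp₁ w hw
    · exact h.perp₂ w hw
  have h6 : finrank F ↥(W₁ ⊔ W₂) = 6 := by
    have h1 := Submodule.finrank_sup_add_finrank_inf_eq W₁ W₂
    rw [h.disj, finrank_bot, h.d₁, h.d₂] at h1
    omega
  rw [← hφ]
  exact Submodule.eq_of_le_of_finrank_eq hle (by rw [h6, hd])

theorem decomp (v : V8 F) : ∃ w₁ ∈ W₁, ∃ w₂ ∈ W₂,
    v = polar (plusForm 4 F) c₂ v • c₁ + polar (plusForm 4 F) c₁ v • c₂ + (w₁ + w₂) := by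
  have h1 : v - (polar (plusForm 4 F) c₂ v • c₁ + polar (plusForm 4 F) c₁ v • c₂) ∈ W₁ ⊔ W₂ := by
    rw [h.sup_eq, Submodule.mem_inf, mem_perp, mem_perp, polar_sub_right, polar_sub_right, polar_add_right,
      polar_add_right, polar_smul_right, polar_smul_right, polar_smul_right, polar_smul_right,
      polar_self_of h.q₁, polar_self_of h.q₂, h.pair, polar_comm _ c₂ c₁, h.pair]
    constructor <;> simp
  obtain ⟨w₁, hw₁, w₂, hw₂, h2⟩ := Submodule.mem_sup.1 h1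
  exact ⟨w₁, hw₁, w₂, hw₂, by rw [h2]; abel⟩

theorem eq_zero_of_add {w₁ w₂ : V8 F} (h₁ : w₁ ∈ W₁) (h₂ : w₂ ∈ W₂) (h0 : w₁ + w₂ = 0) : w₁ = 0 ∧ w₂ = 0 := by
  have h3 : w₁ ∈ W₁ ⊓ W₂ := ⟨h₁, by rw [eq_neg_of_add_eq_zero_left h0]; exact W₂.neg_mem h₂⟩
  rw [h.disj, Submodule.mem_bot] at h3
  refine ⟨h3, ?_⟩
  rw [h3, zero_add] at h0
  exact h0

theorem eq_of_add {w₁ w₂ w₁' w₂' : V8 F} (h₁ : w₁ ∈ W₁) (h₂ : w₂ ∈ W₂) (h₁' : w₁' ∈ W₁) (h₂' : w₂' ∈ W₂)
    (h0 : w₁ + w₂ = w₁' + w₂') : w₁ = w₁' ∧ w₂ = w₂' := by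
  have h3 := h.eq_zero_of_add (W₁.sub_mem h₁ h₁') (W₂.sub_mem h₂ h₂') (by
    rw [← sub_eq_zero] at h0
    rw [← h0]
    abel)
  exact ⟨sub_eq_zero.1 h3.1, sub_eq_zero.1 h3.2⟩

/-- `W₁` and `W₂` are dual to each other -/
theorem dual {w₁ : V8 F} (h₁ : w₁ ∈ W₁) (h0 : ∀ w₂ ∈ W₂, polar (plusForm 4 F) w₁ w₂ = 0) : w₁ = 0 := by
  refine nondeg8 w₁ fun y => ?_
  obtain ⟨a₁, ha₁, a₂, ha₂, hy⟩ := h.decomp y
  rw [hy, polar_add_right, polar_add_right, polar_add_right, polar_smul_right, polar_smul_right, h0 a₂ ha₂,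
    h.ts₁.polar h₁ ha₁, polar_comm _ w₁ c₁, (h.perp₁ w₁ h₁).1, polar_comm _ w₁ c₂, (h.perp₁ w₁ h₁).2]
  simp

theorem q_add {w₁ w₂ : V8 F} (h₁ : w₁ ∈ W₁) (h₂ : w₂ ∈ W₂) :
    plusForm 4 F (w₁ + w₂) = polar (plusForm 4 F) w₁ w₂ := by
  rw [Q_add, h.ts₁ _ h₁, h.ts₂ _ h₂]
  simp

end Frame

/-! ### Singer elements -/

namespace Singer

variable {r : ℕ} {g : V8 F ≃ₗ[F] V8 F} (h : Frame c₁ c₂ W₁ W₂) (hs : Singer r g c₁ c₂ W₁ W₂)

include hs in
theorem symm : Singer r g c₁ c₂ W₂ W₁ := ⟨hs.mem, hs.ord, hs.fix₁, hs.fix₂, hs.inv₂, hs.inv₁, hs.trans₂, hs.trans₁⟩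

include hs in
theorem swap : Singer r g c₂ c₁ W₁ W₂ := ⟨hs.mem, hs.ord, hs.fix₂, hs.fix₁, hs.inv₁, hs.inv₂, hs.trans₁, hs.trans₂⟩

/-- powers preserve an invariant subspace -/
theorem pow_mem {S : Submodule F (V8 F)} {g : V8 F ≃ₗ[F] V8 F} (hS : ∀ v ∈ S, g v ∈ S) (k : ℕ) :
    ∀ v ∈ S, (g ^ k) v ∈ S := by
  induction k with
  | zero => intro v hv; exact hv
  | succ k ih =>
    intro v hv
    rw [pow_succ']
    exact hS _ (ih v hv)

include h hs

/-- no fixed vectors in `W₁` -/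
theorem fixed_eq_zero {w : V8 F} (hw : w ∈ W₁) (hg : g w = w) : w = 0 := by
  by_contra h0
  have hk : ∀ k : ℕ, (g ^ k) w = w := by
    intro k
    induction k with
    | zero => rfl
    | succ k ih =>
      rw [pow_succ']
      show g ((g ^ k) w) = w
      rw [ih, hg]
  have hle : W₁ ≤ Submodule.span F {w} := by
    intro w' hw'
    by_cases h1 : w' = 0
    · rw [h1]; exact Submodule.zero_mem _
    obtain ⟨k, a, h2⟩ := hs.trans₁ w hw w' hw' h0 h1
    rw [hk] at h2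
    have ha : a ≠ 0 := by
      rintro rfl
      rw [zero_smul] at h2
      exact h0 h2
    rw [Submodule.mem_span_singleton]
    exact ⟨a⁻¹, by rw [h2, smul_smul, inv_mul_cancel₀ ha, one_smul]⟩
  have h3 := Submodule.finrank_mono hle
  rw [h.d₁, finrank_span_singleton h0] at h3
  omega

theorem fixed_eq_zero' {w : V8 F} (hw : w ∈ W₁ ⊔ W₂) (hg : g w = w) : w = 0 := by
  obtain ⟨w₁, h₁, w₂, h₂, rfl⟩ := Submodule.mem_sup.1 hw
  rw [map_add] at hg
  obtain ⟨h3, h4⟩ := h.eq_of_add (hs.inv₁ _ h₁) (hs.inv₂ _ h₂) h₁ h₂ hg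
  rw [fixed_eq_zero h hs h₁ h3, fixed_eq_zero h.symm hs.symm h₂ h4, add_zero]

theorem fix_C (a b : F) : g (a • c₁ + b • c₂) = a • c₁ + b • c₂ := by
  rw [map_add, map_smul, map_smul, hs.fix₁, hs.fix₂]

/-- fixed vectors lie in `⟨c₁, c₂⟩` -/
theorem mem_C_of_fixed {v : V8 F} (hg : g v = v) :
    v = polar (plusForm 4 F) c₂ v • c₁ + polar (plusForm 4 F) c₁ v • c₂ := by
  obtain ⟨w₁, h₁, w₂, h₂, hv⟩ := h.decomp v
  have h3 : g (w₁ + w₂) = w₁ + w₂ := by
    have h4 : g v = g (polar (plusForm 4 F) c₂ v • c₁ + polar (plusForm 4 F) c₁ v • c₂) + g (w₁ + w₂) := by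
      rw [← map_add, ← hv]
    rw [hg, fix_C h hs] at h4
    have h5 := h4.symm.trans hv
    exact add_left_cancel h5
  have h6 := fixed_eq_zero' h hs (Submodule.add_mem_sup h₁ h₂) h3
  rw [h6, add_zero] at hv
  exact hv

/-- the components of a vector of an invariant subspace -/
theorem comp_mem (hr : (r : F) = 1) {S : Submodule F (V8 F)} (hS : ∀ v ∈ S, g v ∈ S) {v : V8 F} (hv : v ∈ S) :
    polar (plusForm 4 F) c₂ v • c₁ + polar (plusForm 4 F) c₁ v • c₂ ∈ S := by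
  set c := polar (plusForm 4 F) c₂ v • c₁ + polar (plusForm 4 F) c₁ v • c₂ with hc
  obtain ⟨w₁, h₁, w₂, h₂, hv'⟩ := h.decomp v
  rw [← hc] at hv'
  have h3 : ∑ k ∈ Finset.range r, (g ^ k) v ∈ S := S.sum_mem fun k _ => pow_mem hS k v hv
  have hck : ∀ k : ℕ, (g ^ k) c = c := by
    intro k
    induction k with
    | zero => rfl
    | succ k ih =>
      rw [pow_succ']
      show g ((g ^ k) c) = c
      rw [ih, hc, fix_C h hs]
  have h4 : ∑ k ∈ Finset.range r, (g ^ k) v = c + ∑ k ∈ Finset.range r, (g ^ k) (w₁ + w₂) := by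
    have h5 : ∀ k ∈ Finset.range r, (g ^ k) v = c + (g ^ k) (w₁ + w₂) := by
      intro k _
      rw [hv', map_add, hck]
    rw [Finset.sum_congr rfl h5, Finset.sum_add_distrib, Finset.sum_const, Finset.card_range,
      ← Nat.cast_smul_eq_nsmul F, hr, one_smul]
  have h6 : ∑ k ∈ Finset.range r, (g ^ k) (w₁ + w₂) = 0 := by
    apply fixed_eq_zero' h hs
    · refine Submodule.sum_mem _ fun k _ => ?_
      rw [map_add]
      exact Submodule.add_mem_sup (pow_mem hs.inv₁ k _ h₁) (pow_mem hs.inv₂ k _ h₂)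
    · rw [map_sum]
      have h7 : ∀ k ∈ Finset.range r, g ((g ^ k) (w₁ + w₂)) = (g ^ (k + 1)) (w₁ + w₂) := by
        intro k _
        rw [pow_succ']
        rfl
      rw [Finset.sum_congr rfl h7]
      have h8 := Finset.sum_range_succ (fun k => (g ^ k) (w₁ + w₂)) r
      have h9 := Finset.sum_range_succ' (fun k => (g ^ k) (w₁ + w₂)) r
      have h10 : (g ^ r) (w₁ + w₂) = (g ^ 0) (w₁ + w₂) := by
        rw [← hs.ord, pow_orderOf_eq_one, pow_zero]
      rw [h8, h10] at h9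
      exact (add_right_cancel h9).symm
  rw [h4, h6, add_zero] at h3
  exact h3

theorem le_of_mem {S : Submodule F (V8 F)} (hS : ∀ v ∈ S, g v ∈ S) {w : V8 F} (hw : w ∈ W₁) (hw0 : w ≠ 0)
    (hwS : w ∈ S) : W₁ ≤ S := by
  intro w' hw'
  by_cases h1 : w' = 0
  · rw [h1]; exact Submodule.zero_mem _
  obtain ⟨k, a, h2⟩ := hs.trans₁ w hw w' hw' hw0 h1
  have ha : a ≠ 0 := by
    rintro rfl
    rw [zero_smul] at h2
    exact hw0 ((g ^ k).map_eq_zero_iff.1 h2)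
  have h3 : w' = a⁻¹ • (g ^ k) w := by rw [h2, smul_smul, inv_mul_cancel₀ ha, one_smul]
  rw [h3]
  exact S.smul_mem _ (pow_mem hS k w hwS)

/-- `W₁` and `W₂` are not isomorphic -/
theorem eq_bot_of_graph [Finite F] {S : Submodule F (V8 F)} (hS : ∀ v ∈ S, g v ∈ S) (hU : S ≤ W₁ ⊔ W₂)
    (h1 : S ⊓ W₁ = ⊥) (h2 : S ⊓ W₂ = ⊥) : S = ⊥ := by
  by_contra hne
  obtain ⟨v, hv, hv0⟩ := Submodule.exists_mem_ne_zero_of_ne_bot hne
  -- every element of `S` with trivial component vanishes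
  have hz1 : ∀ {a₁ a₂ : V8 F}, a₁ ∈ W₁ → a₂ ∈ W₂ → a₁ + a₂ ∈ S → a₁ = 0 → a₂ = 0 := by
    intro a₁ a₂ ha₁ ha₂ ha h0
    rw [h0, zero_add] at ha
    have : a₂ ∈ S ⊓ W₂ := ⟨ha, ha₂⟩
    rwa [h2, Submodule.mem_bot] at this
  have hz2 : ∀ {a₁ a₂ : V8 F}, a₁ ∈ W₁ → a₂ ∈ W₂ → a₁ + a₂ ∈ S → a₂ = 0 → a₁ = 0 := by
    intro a₁ a₂ ha₁ ha₂ ha h0
    rw [h0, add_zero] at ha
    have : a₁ ∈ S ⊓ W₁ := ⟨ha, ha₁⟩
    rwa [h1, Submodule.mem_bot] at this
  -- the projections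
  let P₁ : Submodule F (V8 F) :=
    { carrier := {a | a ∈ W₁ ∧ ∃ b ∈ W₂, a + b ∈ S}
      add_mem' := by
        rintro a a' ⟨ha, b, hb, hab⟩ ⟨ha', b', hb', hab'⟩
        refine ⟨W₁.add_mem ha ha', b + b', W₂.add_mem hb hb', ?_⟩
        have : a + a' + (b + b') = (a + b) + (a' + b') := by abel
        rw [this]
        exact S.add_mem hab hab'
      zero_mem' := ⟨W₁.zero_mem, 0, W₂.zero_mem, by rw [add_zero]; exact S.zero_mem⟩
      smul_mem' := by
        rintro c a ⟨ha, b, hb, hab⟩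
        exact ⟨W₁.smul_mem c ha, c • b, W₂.smul_mem c hb, by rw [← smul_add]; exact S.smul_mem c hab⟩ }
  have hP₁ : W₁ ≤ P₁ := by
    obtain ⟨a₁, ha₁, a₂, ha₂, rfl⟩ := Submodule.mem_sup.1 (hU hv)
    have h3 : a₁ ≠ 0 := fun h0 => hv0 (by rw [h0, hz1 ha₁ ha₂ hv h0, add_zero])
    refine le_of_mem h hs (S := P₁) ?_ ha₁ h3 ⟨ha₁, a₂, ha₂, hv⟩
    rintro a ⟨ha, b, hb, hab⟩
    exact ⟨hs.inv₁ _ ha, g b, hs.inv₂ _ hb, by rw [← map_add]; exact hS _ hab⟩
  -- a singular vector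
  have hdim : 3 ≤ finrank F S := by
    have h3 : ∀ w : W₁, ∃ b ∈ W₂, (w : V8 F) + b ∈ S := fun w => (hP₁ w.2).2
    choose f hf hf' using h3
    have hadd : ∀ x y : W₁, f (x + y) = f x + f y := by
      intro x y
      have h4 : (0 : V8 F) + (f (x + y) - (f x + f y)) ∈ S := by
        have : (0 : V8 F) + (f (x + y) - (f x + f y)) = ((x + y : W₁) : V8 F) + f (x + y) - (((x : V8 F) + f x) +
            ((y : V8 F) + f y)) := by
          rw [Submodule.coe_add]; abel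
        rw [this]
        exact S.sub_mem (hf' _) (S.add_mem (hf' _) (hf' _))
      exact sub_eq_zero.1 (hz1 W₁.zero_mem (W₂.sub_mem (hf _) (W₂.add_mem (hf _) (hf _))) h4 rfl)
    have hsmul : ∀ (c : F) (x : W₁), f (c • x) = c • f x := by
      intro c x
      have h4 : (0 : V8 F) + (f (c • x) - c • f x) ∈ S := by
        have : (0 : V8 F) + (f (c • x) - c • f x) = ((c • x : W₁) : V8 F) + f (c • x) - c • ((x : V8 F) + f x) := by
          rw [Submodule.coe_smul, smul_add]; abel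
        rw [this]
        exact S.sub_mem (hf' _) (S.smul_mem _ (hf' _))
      exact sub_eq_zero.1 (hz1 W₁.zero_mem (W₂.sub_mem (hf _) (W₂.smul_mem _ (hf _))) h4 rfl)
    let j : W₁ →ₗ[F] S :=
      { toFun := fun x => ⟨(x : V8 F) + f x, hf' x⟩
        map_add' := fun x y => by
          apply Subtype.ext
          show ((x + y : W₁) : V8 F) + f (x + y) = ((x : V8 F) + f x) + ((y : V8 F) + f y)
          rw [hadd, Submodule.coe_add]; abel
        map_smul' := fun c x => by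
          apply Subtype.ext
          show ((c • x : W₁) : V8 F) + f (c • x) = c • ((x : V8 F) + f x)
          rw [hsmul, Submodule.coe_smul, smul_add] }
    have hj : Function.Injective j := by
      intro x y hxy
      have h4 : (x : V8 F) + f x = (y : V8 F) + f y := congrArg Subtype.val hxy
      exact Subtype.ext (h.eq_of_add x.2 (hf x) y.2 (hf y) h4).1
    have h5 := LinearMap.finrank_le_finrank_of_injective hj
    rwa [h.d₁] at h5
  obtain ⟨s, hsS, hs0, hsq⟩ := Cfsg.Agent.LieClassical.OrthFinite.exists_sing_mem (Q := plusForm 4 F) S hdim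
  obtain ⟨a₁, ha₁, a₂, ha₂, rfl⟩ := Submodule.mem_sup.1 (hU hsS)
  have ha₁0 : a₁ ≠ 0 := fun h0 => hs0 (by rw [h0, hz1 ha₁ ha₂ hsS h0, add_zero])
  -- all vectors of `S` are singular
  have hTS : TS (plusForm 4 F) S := by
    intro t ht
    obtain ⟨b₁, hb₁, b₂, hb₂, rfl⟩ := Submodule.mem_sup.1 (hU ht)
    by_cases hb0 : b₁ = 0
    · rw [hb0, hz1 hb₁ hb₂ ht hb0, add_zero, QuadraticMap.map_zero]
    obtain ⟨k, a, h3⟩ := hs.trans₁ a₁ ha₁ b₁ hb₁ ha₁0 hb0
    have ha : a ≠ 0 := by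
      rintro rfl
      rw [zero_smul] at h3
      exact ha₁0 ((g ^ k).map_eq_zero_iff.1 h3)
    have h4 : (0 : V8 F) + ((g ^ k) a₂ - a • b₂) ∈ S := by
      have : (0 : V8 F) + ((g ^ k) a₂ - a • b₂) = (g ^ k) (a₁ + a₂) - a • (b₁ + b₂) := by
        rw [map_add, h3, smul_add]; abel
      rw [this]
      exact S.sub_mem (pow_mem hS k _ hsS) (S.smul_mem _ ht)
    have h5 := sub_eq_zero.1 (hz1 W₁.zero_mem (W₂.sub_mem (pow_mem hs.inv₂ k _ ha₂) (W₂.smul_mem _ hb₂)) h4 rfl)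
    have h6 : a • (b₁ + b₂) = (g ^ k) (a₁ + a₂) := by rw [map_add, h3, h5, smul_add]
    have h7 : plusForm 4 F (a • (b₁ + b₂)) = 0 := by
      rw [h6]
      have h8 : ((g ^ k : V8 F ≃ₗ[F] V8 F)) ∈ O (plusForm 4 F) := E_le_O ((E (plusForm 4 F)).pow_mem hs.mem k)
      rw [← hsq]
      exact h8 _
    rw [QuadraticMap.map_smul, smul_eq_mul, mul_eq_zero] at h7
    exact h7.resolve_left (mul_ne_zero ha ha)
  -- the alternating form
  have hlift : ∀ w ∈ W₁, ∃ b ∈ W₂, w + b ∈ S := fun w hw => (hP₁ hw).2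
  let bs := Module.finBasisOfFinrankEq F W₁ h.d₁
  have he : ∀ i : Fin 3, ∃ b ∈ W₂, ((bs i : W₁) : V8 F) + b ∈ S := fun i => hlift _ (bs i).2
  choose φ hφ hφS using he
  set e : Fin 3 → V8 F := fun i => ((bs i : W₁) : V8 F) with hedef
  have heW : ∀ i, e i ∈ W₁ := fun i => (bs i).2
  have hq : ∀ i, polar (plusForm 4 F) (e i) (φ i) = 0 := by
    intro i
    rw [← h.q_add (heW i) (hφ i)]
    exact hTS _ (hφS i)
  have hpol : ∀ i j, polar (plusForm 4 F) (e i) (φ j) = - polar (plusForm 4 F) (e j) (φ i) := by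
    intro i j
    have h3 := hTS.polar (hφS i) (hφS j)
    change polar (plusForm 4 F) (e i + φ i) (e j + φ j) = 0 at h3
    rw [polar_add_left, polar_add_right, polar_add_right, h.ts₁.polar (heW i) (heW j), h.ts₂.polar (hφ i) (hφ j),
      polar_comm _ (φ i) (e j)] at h3
    linear_combination h3
  -- the `φ i` span `W₂`
  have hspan : ∀ w ∈ W₂, ∃ x : Fin 3 → F, w = ∑ i, x i • φ i := by
    intro w hw
    -- the second projection is onto
    obtain ⟨b, hb, hbw⟩ : ∃ b ∈ W₁, b + w ∈ S := by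
      let P₂ : Submodule F (V8 F) :=
        { carrier := {a | a ∈ W₂ ∧ ∃ b ∈ W₁, b + a ∈ S}
          add_mem' := by
            rintro a a' ⟨ha, b, hb, hab⟩ ⟨ha', b', hb', hab'⟩
            refine ⟨W₂.add_mem ha ha', b + b', W₁.add_mem hb hb', ?_⟩
            have : b + b' + (a + a') = (b + a) + (b' + a') := by abel
            rw [this]
            exact S.add_mem hab hab'
          zero_mem' := ⟨W₂.zero_mem, 0, W₁.zero_mem, by rw [add_zero]; exact S.zero_mem⟩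
          smul_mem' := by
            rintro c a ⟨ha, b, hb, hab⟩
            exact ⟨W₂.smul_mem c ha, c • b, W₁.smul_mem c hb, by rw [← smul_add]; exact S.smul_mem c hab⟩ }
      have hP₂ : W₂ ≤ P₂ := by
        have h3 : a₂ ≠ 0 := fun h0 => ha₁0 (hz2 ha₁ ha₂ hsS h0)
        refine le_of_mem h.symm hs.symm (S := P₂) ?_ ha₂ h3 ⟨ha₂, a₁, ha₁, hsS⟩
        rintro a ⟨ha, b, hb, hab⟩
        exact ⟨hs.inv₂ _ ha, g b, hs.inv₁ _ hb, by rw [← map_add]; exact hS _ hab⟩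
      exact (hP₂ hw).2
    refine ⟨fun i => bs.repr ⟨b, hb⟩ i, ?_⟩
    have h3 : b = ∑ i, bs.repr ⟨b, hb⟩ i • e i := by
      have h4 := bs.sum_repr ⟨b, hb⟩
      have h5 := congrArg (Subtype.val : W₁ → V8 F) h4
      rw [Submodule.coe_sum] at h5
      exact h5.symm
    have h6 : (0 : V8 F) + (w - ∑ i, bs.repr ⟨b, hb⟩ i • φ i) ∈ S := by
      have h7 : (0 : V8 F) + (w - ∑ i, bs.repr ⟨b, hb⟩ i • φ i) = (b + w) - ∑ i, bs.repr ⟨b, hb⟩ i • (e i + φ i) := by
        have h8 : ∑ i, bs.repr ⟨b, hb⟩ i • (e i + φ i) = ∑ i, bs.repr ⟨b, hb⟩ i • e i +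
            ∑ i, bs.repr ⟨b, hb⟩ i • φ i := by
          rw [← Finset.sum_add_distrib]
          exact Finset.sum_congr rfl fun i _ => smul_add _ _ _
        rw [h8, ← h3]
        abel
      rw [h7]
      exact S.sub_mem hbw (S.sum_mem fun i _ => S.smul_mem _ (hφS i))
    exact sub_eq_zero.1 (hz1 W₁.zero_mem (W₂.sub_mem hw (W₂.sum_mem fun i _ => W₂.smul_mem _ (hφ i))) h6 rfl)
  -- the radical vector
  set β : Fin 3 → Fin 3 → F := fun i j => polar (plusForm 4 F) (e i) (φ j) with hβ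
  have hx : β 1 2 • e 0 - β 0 2 • e 1 + β 0 1 • e 2 = 0 := by
    refine h.dual (W₁.add_mem (W₁.sub_mem (W₁.smul_mem _ (heW 0)) (W₁.smul_mem _ (heW 1))) (W₁.smul_mem _ (heW 2)))
      fun w hw => ?_
    obtain ⟨x, rfl⟩ := hspan w hw
    have key : ∀ j, polar (plusForm 4 F) (β 1 2 • e 0 - β 0 2 • e 1 + β 0 1 • e 2) (φ j) = 0 := by
      intro j
      rw [polar_add_left, polar_sub_left, polar_smul_left, polar_smul_left, polar_smul_left]
      have h00 : β 0 0 = 0 := hq 0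
      have h11 : β 1 1 = 0 := hq 1
      have h22 : β 2 2 = 0 := hq 2
      have h10 : β 1 0 = - β 0 1 := hpol 1 0
      have h20 : β 2 0 = - β 0 2 := hpol 2 0
      have h21 : β 2 1 = - β 1 2 := hpol 2 1
      change β 1 2 • β 0 j - β 0 2 • β 1 j + β 0 1 • β 2 j = 0
      fin_cases j
      · change β 1 2 • β 0 0 - β 0 2 • β 1 0 + β 0 1 • β 2 0 = 0
        rw [h00, h10, h20]; simp only [smul_eq_mul]; ring
      · change β 1 2 • β 0 1 - β 0 2 • β 1 1 + β 0 1 • β 2 1 = 0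
        rw [h11, h21]; simp only [smul_eq_mul]; ring
      · change β 1 2 • β 0 2 - β 0 2 • β 1 2 + β 0 1 • β 2 2 = 0
        rw [h22]; simp only [smul_eq_mul]; ring
    have hlin : ∀ u : V8 F, polar (plusForm 4 F) u (∑ i, x i • φ i) = ∑ i, x i * polar (plusForm 4 F) u (φ i) := by
      intro u
      have h3 := map_sum (polarBilin (plusForm 4 F) u) (fun i => x i • φ i) Finset.univ
      simp only [map_smul, polarBilin_apply_apply, smul_eq_mul] at h3
      exact h3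
    rw [hlin]
    exact Finset.sum_eq_zero fun i _ => by rw [key, mul_zero]
  have hβ0 : β 1 2 = 0 ∧ β 0 2 = 0 ∧ β 0 1 = 0 := by
    have hli := bs.linearIndependent
    have h3 : β 1 2 • bs 0 + (-β 0 2) • bs 1 + β 0 1 • bs 2 = 0 := by
      apply Subtype.ext
      show β 1 2 • e 0 + (-β 0 2) • e 1 + β 0 1 • e 2 = 0
      rw [← hx]
      module
    have h4 := Fintype.linearIndependent_iff.1 hli ![β 1 2, -β 0 2, β 0 1] (by
      rw [Fin.sum_univ_three]
      exact h3)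
    refine ⟨h4 0, neg_eq_zero.1 (h4 1), h4 2⟩
  -- contradiction
  have h3 : e 0 = 0 := by
    refine h.dual (heW 0) fun w hw => ?_
    obtain ⟨x, rfl⟩ := hspan w hw
    have h3 := map_sum (polarBilin (plusForm 4 F) (e 0)) (fun i => x i • φ i) Finset.univ
    simp only [map_smul, polarBilin_apply_apply, smul_eq_mul] at h3
    rw [h3, Fin.sum_univ_three]
    have h00 : β 0 0 = 0 := hq 0
    change x 0 * β 0 0 + x 1 * β 0 1 + x 2 * β 0 2 = 0
    rw [h00, hβ0.2.1, hβ0.2.2]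
    ring
  exact bs.ne_zero 0 (Subtype.ext h3)

end Singer

end Cfsg.Agent.H465.OEight
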