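import Cfsg.Agent.H465.OEGrp
import Cfsg.Agent.H462.OEight.Stab
import Cfsg.Agent.H462.OEight.Singer
import Cfsg.Agent.H907.TriFlag
import Cfsg.Agent.H184.OEScal
import Cfsg.Agent.H597.OEG5

/-!
# `PΩ⁺₈(q)`, `q² + q + 1` prime: automorphisms induced by similitudes (helper465)
-/

set_option autoImplicit false
set_option linter.unusedSectionVars false

namespace Cfsg.Agent.H465.OEight

open Module QuadraticMap Cfsg.Agent.LieClassical.OrthCore Cfsg.Agent.LieClassical.OrthTrans
  Cfsg.Agent.ClassicalGeometry.OrthAut1 Cfsg.Agent.LieClassical.QuadForms Cfsg.Agent.ClassicalGeometry.TrialityOct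
  Cfsg.Agent.ClassicalGeometry.Triality Cfsg.Agent.ClassicalGeometry.OrthSemi Cfsg.Agent.H198.TriAut
  Cfsg.Agent.ClassicalGeometry.TrialityIndex

universe u

variable {F : Type u} [Field F]

/-- all `⟨conj y, β⟩`, `y` of order `r`, are solvable -/
def HS (r : ℕ) {K : Type*} [Group K] (β : MulAut K) : Prop :=
  ∀ y : K, orderOf y = r → Group.IsSolvable (Subgroup.closure ({MulAut.conj y, β} : Set (MulAut K)))

theorem HS.conj {r : ℕ} {K : Type*} [Group K] {β : MulAut K} (h : HS r β) (α : MulAut K) :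
    HS r (α⁻¹ * β * α) := by
  intro y hy
  have h1 := h (α y) (by rw [MulEquiv.orderOf_eq, hy])
  have h2 : (Subgroup.closure ({MulAut.conj (α y), β} : Set (MulAut K))).map (MulAut.conj α⁻¹).toMonoidHom =
      Subgroup.closure ({MulAut.conj y, α⁻¹ * β * α} : Set (MulAut K)) := by
    rw [MonoidHom.map_closure, Set.image_pair]
    congr 2
    · show α⁻¹ * MulAut.conj (α y) * α⁻¹⁻¹ = MulAut.conj y
      rw [inv_inv]
      ext k
      show α.symm (α y * α k * (α y)⁻¹) = y * k * y⁻¹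
      rw [← map_mul, ← map_inv, ← map_mul, MulEquiv.symm_apply_apply]
  rw [← h2]
  exact Group.isSolvable_of_surjective (f := ((MulAut.conj α⁻¹).toMonoidHom.subgroupMap _))
    (MonoidHom.subgroupMap_surjective _ _)

/-- the image of a Singer element -/
theorem Singer.orderOf_mk {r : ℕ} [Fact r.Prime] {g : V8 F ≃ₗ[F] V8 F} {c₁ c₂ : V8 F}
    {W₁ W₂ : Submodule F (V8 F)} (hG : Good (plusForm 4 F)) (h : Frame c₁ c₂ W₁ W₂)
    (hs : Singer r g c₁ c₂ W₁ W₂) : orderOf (((⟨g, hs.mem⟩ : ↥(E (plusForm 4 F))) : P8 F)) = r := by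
  have hr : r.Prime := Fact.out
  have h1 : orderOf (((⟨g, hs.mem⟩ : ↥(E (plusForm 4 F))) : P8 F)) ∣ r := by
    have h2 := orderOf_map_dvd (QuotientGroup.mk' (Subgroup.center ↥(E (plusForm 4 F))))
      (⟨g, hs.mem⟩ : ↥(E (plusForm 4 F)))
    rw [Subgroup.orderOf_mk, hs.ord] at h2
    exact h2
  rcases (Nat.dvd_prime hr).1 h1 with h2 | h2
  · exfalso
    rw [orderOf_eq_one_iff, QuotientGroup.eq_one_iff] at h2
    obtain ⟨c, hc⟩ := center_scalar hG h2
    have h3 : c₁ = c • c₁ := by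
      rw [← hc c₁]
      exact hs.fix₁.symm
    have h4 : c = 1 := by
      have h5 : (1 - c) • c₁ = 0 := by rw [sub_smul, one_smul, sub_eq_zero]; exact h3
      exact (sub_eq_zero.1 ((smul_eq_zero.1 h5).resolve_right h.c₁_ne)).symm
    have h5 : g = 1 := by
      ext1 v
      have h6 := hc v
      rw [h4, one_smul] at h6
      exact h6
    have h6 := hs.ord
    rw [h5, orderOf_one] at h6
    exact hr.one_lt.ne h6
  · exact h2

/-- the subspace is fixed by the generators -/
theorem inv_closure {a g : V8 F ≃ₗ[F] V8 F} {S : Submodule F (V8 F)} (ha : im a S = S) (hg : ∀ v ∈ S, g v ∈ S) :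
    Inv (Subgroup.closure {a, g}) S := by
  apply inv_of_im
  let T : Subgroup (V8 F ≃ₗ[F] V8 F) :=
    { carrier := {m | im m S = S}
      mul_mem' := fun {a b} (ha : im a S = S) (hb : im b S = S) => by
        show im (a * b) S = S
        rw [im_mul, hb, ha]
      one_mem' := im_one S
      inv_mem' := fun {a} (ha : im a S = S) => by
        show im a⁻¹ S = S
        nth_rewrite 1 [← ha]
        exact im_inv_im a S }
  have h1 : Subgroup.closure {a, g} ≤ T := by
    rw [Subgroup.closure_le]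
    rintro x (rfl | rfl)
    · exact ha
    · exact im_eq_of_le hg
  exact fun m hm => h1 hm

/-- the data of the group -/
structure Dat (F : Type u) [Field F] [Fintype F] (p r : ℕ) : Prop where
  good : Good (plusForm 4 F)
  card : (Fintype.card F).Prime
  hr : r = Fintype.card F ^ 2 + Fintype.card F + 1
  gam : ¬ r ^ 2 ∣ Nat.card (Gam (plusForm 4 F))
  cen : ∀ M : Subgroup (V8 F ≃ₗ[F] V8 F), (∀ m ∈ M, Sim m) → Cen F p r M

section

variable [Fintype F] {p r : ℕ} [Fact p.Prime] [CharP F p] [Fact r.Prime] (D : Dat F p r)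
include D

theorem Dat.cast : (r : F) = 1 := by
  rw [D.hr]
  push_cast
  rw [Nat.cast_card_eq_zero F]
  ring

/-- the group generated by `b` and `g` -/
theorem Dat.closure (b : SG F) (hS : HS r (psi b)) {g : V8 F ≃ₗ[F] V8 F} {c₁ c₂ : V8 F}
    {W₁ W₂ : Submodule F (V8 F)} (h : Frame c₁ c₂ W₁ W₂) (hs : Singer r g c₁ c₂ W₁ W₂) :
    Group.IsSolvable (Subgroup.closure {b.1, g}) ∧ (∀ m ∈ Subgroup.closure {b.1, g}, Sim m) ∧
      ¬ r ^ 2 ∣ Nat.card (Subgroup.closure {b.1, g}) ∧ Cen F p r (Subgroup.closure {b.1, g}) := by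
  have hsim : ∀ m ∈ Subgroup.closure {b.1, g}, Sim m := by
    have h1 : Subgroup.closure {b.1, g} ≤ SG F := by
      rw [Subgroup.closure_le]
      rintro x (rfl | rfl)
      · exact b.2
      · exact sim_of_E hs.mem
    exact h1
  refine ⟨?_, hsim, fun h1 => D.gam (h1.trans (card_dvd_Gam hsim)), D.cen _ hsim⟩
  have h1 := hS _ (Singer.orderOf_mk D.good h hs)
  refine solvable_of D.good hsim h1 fun m hm => ?_
  -- induction on `m`
  have h2 : Subgroup.closure {b.1, g} ≤ ((Subgroup.closure ({MulAut.conj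
      (((⟨g, hs.mem⟩ : ↥(E (plusForm 4 F))) : P8 F)), psi b} : Set (MulAut (P8 F)))).comap
      (psi (F := F))).map (SG F).subtype := by
    rw [Subgroup.closure_le]
    rintro x (rfl | rfl)
    · exact ⟨b, Subgroup.subset_closure (by simp), rfl⟩
    · refine ⟨⟨x, E_le_SG hs.mem⟩, ?_, rfl⟩
      show psi ⟨x, E_le_SG hs.mem⟩ ∈ Subgroup.closure _
      rw [psi_of_E ⟨x, hs.mem⟩]
      exact Subgroup.subset_closure (by simp)
  obtain ⟨m', hm', hmm⟩ := h2 hm
  have h3 : m' = ⟨m, hsim m hm⟩ := Subtype.ext hmm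
  rw [← h3]
  exact hm'

/-- **(A)**: a fixed singular point -/
theorem Dat.scalar_of_point (b : SG F) (hS : HS r (psi b)) {u : V8 F} (hu : plusForm 4 F u = 0) (hu0 : u ≠ 0)
    (hbu : im b.1 (Submodule.span F {u}) = Submodule.span F {u}) : ∃ a : F, ∀ v, b.1 v = a • v := by
  refine H597.OEight.scalar_of (fun u hu hu0 hbu => ?_) ⟨u, hu, hu0, hbu⟩
  refine H184.OEScal.scalar_mod b.2 hu hu0 hbu fun X X' hX hX' h4 h4' hXX => ?_
  obtain ⟨c₂, hc⟩ := Cfsg.Agent.LieClassical.OrthTrans.exists_hyp (x := u)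
    (fun x hx => polar_plusForm_nondeg 4 x hx : Nondeg (plusForm 4 F)) hu hu0
  have huX : u ∈ X := by
    have h1 : u ∈ X ⊓ X' := by rw [hXX]; exact Submodule.mem_span_singleton_self u
    exact h1.1
  have huX' : u ∈ X' := by
    have h1 : u ∈ X ⊓ X' := by rw [hXX]; exact Submodule.mem_span_singleton_self u
    exact h1.2
  have hu2 : u ∉ perp c₂ := by
    rw [mem_perp, polar_comm, hc.pair]
    exact one_ne_zero
  have hd : ∀ Y : Submodule F (V8 F), finrank F Y = 4 → u ∈ Y → finrank F ↥(Y ⊓ perp c₂) = 3 := by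
    intro Y h4 huY
    have h1 : finrank F ↥(Y ⊓ perp c₂) < finrank F Y := by
      apply Submodule.finrank_lt_finrank_of_lt
      refine lt_of_le_of_ne inf_le_left fun h2 => hu2 ?_
      have h3 : u ∈ Y ⊓ perp c₂ := by rw [h2]; exact huY
      exact h3.2
    have h2 := Submodule.finrank_sup_add_finrank_inf_eq Y (perp c₂)
    have h3 : finrank F ↥(Y ⊔ perp c₂) ≤ 8 := by
      rw [← finrank_V8 (F := F)]
      exact Submodule.finrank_le _
    have h5 : 7 ≤ finrank F (perp c₂) := H597.OEight.finrank_perp c₂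
    omega
  have hsp : ∀ Y : Submodule F (V8 F), finrank F Y = 4 → u ∈ Y →
      Submodule.span F {u} ⊔ (Y ⊓ perp c₂) = Y := by
    intro Y h4 huY
    apply Submodule.eq_of_le_of_finrank_le
    · refine sup_le ?_ inf_le_left
      rw [Submodule.span_singleton_le_iff_mem]
      exact huY
    · have h1 := Submodule.finrank_sup_add_finrank_inf_eq (Submodule.span F {u}) (Y ⊓ perp c₂)
      have h2 : Submodule.span F {u} ⊓ (Y ⊓ perp c₂) = ⊥ := by
        rw [eq_bot_iff]
        rintro x ⟨hx, hx'⟩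
        obtain ⟨a, rfl⟩ := Submodule.mem_span_singleton.1 hx
        have h3 := mem_perp.1 hx'.2
        rw [polar_smul_right, polar_comm, hc.pair, smul_eq_mul, mul_one] at h3
        rw [h3, zero_smul]
        exact Submodule.zero_mem _
      rw [h2, finrank_bot, hd Y h4 huY, finrank_span_singleton hu0] at h1
      omega
  have hF : Frame u c₂ (X ⊓ perp c₂) (X' ⊓ perp c₂) := by
    refine ⟨hu, hc.right, hc.pair, fun w hw => hX w hw.1, fun w hw => hX' w hw.1, hd X h4 huX, hd X' h4' huX', ?_,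
      fun w hw => ⟨hX.polar huX hw.1, hw.2⟩, fun w hw => ⟨hX'.polar huX' hw.1, hw.2⟩⟩
    rw [eq_bot_iff]
    rintro x ⟨hx, hx'⟩
    have h1 : x ∈ Submodule.span F {u} := by rw [← hXX]; exact ⟨hx.1, hx'.1⟩
    obtain ⟨a, rfl⟩ := Submodule.mem_span_singleton.1 h1
    have h3 := mem_perp.1 hx.2
    rw [polar_smul_right, polar_comm, hc.pair, smul_eq_mul, mul_one] at h3
    rw [h3, zero_smul]
    exact Submodule.zero_mem _
  obtain ⟨g, hs⟩ := H462.OEight.exists_singer D.hr Fact.out hF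
  obtain ⟨h1, h2, h3, h5⟩ := D.closure b hS hF hs
  have : Finite (V8 F ≃ₗ[F] V8 F) := finite_equiv
  have h6 := claim_six (p := p) hF hs h1 (Subgroup.subset_closure (by simp)) h3 h5 h2 D.cast
    (inv_closure hbu (Singer.inv_span hF hs)) (m := b.1) (Subgroup.subset_closure (by simp))
  rw [hsp X h4 huX, hsp X' h4' huX'] at h6
  exact h6

theorem Dat.exists_psi {α : MulAut (P8 F)} (h : α ∈ (Psi (plusForm 4 F)).range) : ∃ b : SG F, psi b = α := by
  rw [← range_psi D.card] at h
  exact h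

theorem Dat.psi_eq_one_of_point (b : SG F) (hS : HS r (psi b)) {u : V8 F} (hu : plusForm 4 F u = 0) (hu0 : u ≠ 0)
    (hbu : im b.1 (Submodule.span F {u}) = Submodule.span F {u}) : psi b = 1 := by
  obtain ⟨a, ha⟩ := D.scalar_of_point b hS hu hu0 hbu
  ext k
  obtain ⟨k, rfl⟩ := QuotientGroup.mk_surjective k
  rw [psi_mk]
  show _ = (k : P8 F)
  congr 1
  apply Subtype.ext
  ext1 v
  show b.1 (k.1 (b.1⁻¹ v)) = k.1 v
  rw [ha, ← map_smul, ← ha]
  congr 1
  exact b.1.apply_symm_apply v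

/-- **(B)**: a fixed totally singular 4-space -/
theorem Dat.psi_eq_one_of_four (b : SG F) (hS : HS r (psi b)) {X : Submodule F (V8 F)}
    (hX : TS (plusForm 4 F) X) (h4 : finrank F X = 4) (hbX : im b.1 X = X) : psi b = 1 := by
  obtain ⟨α, u, hu, hu0, hα⟩ := H462.OEight.exists_aut_stab D.good hX h4
  have h1 := map_stab D.good b X
  rw [hbX, ← hα] at h1
  -- `α⁻¹ ψ(b) α` fixes the stabiliser of the point
  have h2 : (stab D.good (Submodule.span F {u})).map (α⁻¹ * psi b * α).toMonoidHom =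
      stab D.good (Submodule.span F {u}) := by
    rw [map_mulAut_mul, map_mulAut_mul, h1, map_mulAut_inv]
  have h3 := AutOrth.Final.mem_range_of_pt D.good (by rw [finrank_V8]; norm_num)
    (H907.TriFlag.pt_of_one D.good hu hu0 hu hu0 h2)
  obtain ⟨b', hb'⟩ := D.exists_psi h3
  have h5 := map_stab D.good b' (Submodule.span F {u})
  rw [hb', h2] at h5
  have hne : Submodule.span F {u} ≠ ⊥ := by
    rw [Ne, Submodule.span_singleton_eq_bot]
    exact hu0
  have hTS : TS (plusForm 4 F) (Submodule.span F {u}) := ClassicalGeometry.OrthAut2.TS_span hu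
  have hTS' : TS (plusForm 4 F) (im b'.1 (Submodule.span F {u})) := by
    rintro _ ⟨w, hw, rfl⟩
    exact Sim.q_eq_zero b'.2 (hTS w hw)
  have h6 := stab_injective D.good hTS hTS' hne (fun h0 => hne ?_) h5
  · have h7 := D.psi_eq_one_of_point b' (by rw [hb']; exact hS.conj α) hu hu0 h6.symm
    rw [hb'] at h7
    have h8 : psi b = α * (α⁻¹ * psi b * α) * α⁻¹ := by group
    rw [h8, h7, mul_one, mul_inv_cancel]
  · have h8 := finrank_im b'.1 (Submodule.span F {u})
    rw [h0, finrank_bot] at h8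
    exact Submodule.finrank_eq_zero.1 h8.symm

/-- **(C)**: a fixed totally singular 3-space -/
theorem Dat.psi_eq_one_of_three (b : SG F) (hS : HS r (psi b)) {ℓ : ℕ} (hℓ : ℓ.Prime) (hb : psi b ^ ℓ = 1)
    {W : Submodule F (V8 F)} (hW : TS (plusForm 4 F) W) (h3 : finrank F W = 3) (hbW : im b.1 W = W) : psi b = 1 := by
  obtain ⟨s, hs⟩ := exists_scalar (b := b ^ ℓ) D.good (by rw [map_pow]; exact hb)
  rcases H597.OEight.fixed_of_three b.2 hℓ hs hW h3 hbW with ⟨u, hu, hu0, hbu⟩ | ⟨X, hX, h4, hbX⟩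
  · exact D.psi_eq_one_of_point b hS hu hu0 hbu
  · exact D.psi_eq_one_of_four b hS hX h4 hbX

/-- **the case of similitudes** -/
theorem Dat.psi_eq_one (b : SG F) (hS : HS r (psi b)) {ℓ : ℕ} (hℓ : ℓ.Prime) (hb : psi b ^ ℓ = 1) : psi b = 1 := by
  by_contra hcon
  obtain ⟨c₁, c₂, W₁, W₂, h, hbW⟩ := H597.OEight.exists_not_swap b.1
  obtain ⟨g, hs⟩ := H462.OEight.exists_singer D.hr Fact.out h
  obtain ⟨h1, h2, h3, h5⟩ := D.closure b hS h hs
  have : Finite (V8 F ≃ₗ[F] V8 F) := finite_equiv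
  have hgM : g ∈ Subgroup.closure {b.1, g} := Subgroup.subset_closure (by simp)
  have hbM : b.1 ∈ Subgroup.closure {b.1, g} := Subgroup.subset_closure (by simp)
  have hN : NoTS (Subgroup.closure {b.1, g}) := by
    intro S hS' hI
    by_contra hne
    have hbS : im b.1 S = S := hI.im_eq hbM
    rcases Singer.finrank_cases h hs D.cast (fun v hv => hI g hgM v hv) hS' hne with h6 | h6 | h6
    · obtain ⟨u, hu0, hu⟩ := finrank_eq_one_iff'.1 h6
      have h7 : Submodule.span F {(u : V8 F)} = S := by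
        apply le_antisymm
        · rw [Submodule.span_singleton_le_iff_mem]; exact u.2
        · intro w hw
          obtain ⟨c, hc⟩ := hu ⟨w, hw⟩
          exact Submodule.mem_span_singleton.2 ⟨c, congrArg Subtype.val hc⟩
      exact hcon (D.psi_eq_one_of_point b hS (u := u) (hS' u u.2) (fun h0 => hu0 (Subtype.ext h0))
        (by rw [h7]; exact hbS))
    · exact hcon (D.psi_eq_one_of_three b hS hℓ hb hS' h6 hbS)
    · exact hcon (D.psi_eq_one_of_four b hS hS' h6 hbS)
  have h6 := claim_eight (p := p) h hs h1 hgM h3 h5 h2 D.cast hN b.1 hbM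
  rcases h6 with h6 | h6
  · exact hcon (D.psi_eq_one_of_three b hS hℓ hb h.ts₁ h.d₁ h6.1)
  · exact hbW h6.1

end

end Cfsg.Agent.H465.OEight
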