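import Cfsg.Agent.H465.OEFin
import Cfsg.Agent.H597.OECards
import Cfsg.Agent.H907.IndexThree

/-!
# `PΩ⁺₈(q)`, `q = 2, 3, 5` (helper465)
-/

set_option autoImplicit false

namespace Cfsg.Agent.H465.OEight

open Module QuadraticMap Cfsg.Agent.LieClassical.OrthCore Cfsg.Agent.LieClassical.OrthTrans
  Cfsg.Agent.ClassicalGeometry.OrthAut1 Cfsg.Agent.LieClassical.QuadForms Cfsg.Agent.ClassicalGeometry.TrialityOct
  Cfsg.Agent.ClassicalGeometry.Triality Cfsg.Agent.ClassicalGeometry.OrthSemi Cfsg.Agent.H198.TriAut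

universe u

variable {F : Type u} [Field F] [Fintype F]

theorem exc_P8 (hq : Fintype.card F = 2 ∨ Fintype.card F = 3 ∨ Fintype.card F = 5) : H518.SU.Exc2 (P8 F) := by
  have hp : (Fintype.card F).Prime := by
    rcases hq with h | h | h <;> rw [h] <;> norm_num
  have hfp : Fact (Fintype.card F).Prime := ⟨hp⟩
  have hchar : CharP F (Fintype.card F) := charP_of_card_eq_prime rfl
  have hr := H597.OECards.prime_r hq
  have hfr : Fact (Fintype.card F ^ 2 + Fintype.card F + 1).Prime := ⟨hr⟩
  have hfinV : Finite (V8 F ≃ₗ[F] V8 F) := finite_equiv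
  have D : Dat F (Fintype.card F) (Fintype.card F ^ 2 + Fintype.card F + 1) := by
    refine ⟨AutOrth.Main.good_plus (by norm_num), hp, rfl, H597.OECards.not_sq_Gam hq, fun M hM => ?_⟩
    by_cases h2 : Fintype.card F = 2
    · refine cen_of_arith hr M fun t k ht htr htp htk hrt => ?_
      have h3 : Fintype.card F ^ 2 + Fintype.card F + 1 = 7 := by rw [h2]; norm_num
      rw [h3] at htr hrt
      rw [h2] at htp
      exact H597.OECards.arith_two h2 t k ht htr htp (htk.trans (card_dvd_Gam hM)) hrt
    · refine cen_of_lin hr ?_ M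
      rcases hq with h | h | h
      · exact absurd h h2
      · rw [h]; norm_num
      · rw [h]; norm_num
  have hs : IsSimpleGroup (P8 F) := H597.OECards.isSimpleGroup_P8
  have hfP := D.finite_P8
  have hfA : Finite (MulAut (P8 F)) := inferInstance
  refine D.exc H597.OECards.center_P8 (H597.OECards.not_sq_card hq) (fun x hx hn => ?_)
    (H597.OECards.not_dvd_out hq)
  refine H907.pow_three _ ?_ hx hn
  have h3 := AutOrth.Final.index_plus_four (F := F)
  rw [AutOrth.Main.plusForm_eq] at h3
  exact h3

end Cfsg.Agent.H465.OEight
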