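import Cfsg.Agent.H465.OEEight

/-!
# Solvable groups of similitudes containing a Singer element, part 3 (helper465)

`normal_of_permutes` : if `M` permutes `{W₁, W₂}` then `⟨g⟩ ⊲ M`.
-/

set_option autoImplicit false
set_option linter.unusedSectionVars false

namespace Cfsg.Agent.H465.OEight

open Module QuadraticMap Cfsg.Agent.LieClassical.OrthCore Cfsg.Agent.LieClassical.OrthTrans
  Cfsg.Agent.ClassicalGeometry.OrthAut1 Cfsg.Agent.LieClassical.QuadForms Cfsg.Agent.ClassicalGeometry.TrialityOct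
  Cfsg.Agent.ClassicalGeometry.Triality

universe u

variable {F : Type u} [Field F] {c₁ c₂ : V8 F} {W₁ W₂ : Submodule F (V8 F)} {M : Subgroup (V8 F ≃ₗ[F] V8 F)}

/-- conjugates of isometries by similitudes are isometries -/
theorem conj_isom {m g : V8 F ≃ₗ[F] V8 F} (hm : Sim m) (hg : ∀ v, plusForm 4 F (g v) = plusForm 4 F v) (v : V8 F) :
    plusForm 4 F ((m * g * m⁻¹) v) = plusForm 4 F v := by
  obtain ⟨c, hc, h⟩ := hm
  show plusForm 4 F (m (g (m⁻¹ v))) = _
  rw [h, hg, ← h]
  congr 1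
  exact m.apply_symm_apply v

theorem polar_isom {g : V8 F ≃ₗ[F] V8 F} (hg : ∀ v, plusForm 4 F (g v) = plusForm 4 F v) (v w : V8 F) :
    polar (plusForm 4 F) (g v) (g w) = polar (plusForm 4 F) v w := by
  unfold QuadraticMap.polar
  rw [← map_add, hg, hg, hg]

/-- **If `M` permutes `{W₁, W₂}` then `⟨g⟩ ⊲ M`.** -/
theorem normal_of_permutes [Finite F] {p r : ℕ} [Fact p.Prime] [CharP F p] [Fact r.Prime] {g : V8 F ≃ₗ[F] V8 F}
    (h : Frame c₁ c₂ W₁ W₂) (hs : Singer r g c₁ c₂ W₁ W₂) (hM : Group.IsSolvable M) [Finite M] (hg : g ∈ M)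
    (h2 : ¬ r ^ 2 ∣ Nat.card M) (hC : Cen F p r M) (hsim : ∀ m ∈ M, Sim m)
    (hP : Perm M W₁ W₂) {m : V8 F ≃ₗ[F] V8 F} (hm : m ∈ M) : m * g * m⁻¹ ∈ Subgroup.zpowers g := by
  have h8 : finrank F (V8 F) ≤ 8 := finrank_V8.le
  have hgQ : ∀ v, plusForm 4 F (g v) = plusForm 4 F v := fun v => E_le_O hs.mem v
  have hbot : Inv M (⊥ : Submodule F (V8 F)) := by
    intro m _ v hv
    rw [Submodule.mem_bot] at hv ⊢
    rw [hv, map_zero]
  have hU : Inv M (W₁ ⊔ W₂) := by
    intro m hm v hv
    obtain ⟨a, ha, b, hb, rfl⟩ := Submodule.mem_sup.1 hv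
    rw [map_add]
    rcases hP m hm with ⟨h3, h4⟩ | ⟨h3, h4⟩
    · exact Submodule.add_mem_sup (h3 ▸ Submodule.mem_map_of_mem ha) (h4 ▸ Submodule.mem_map_of_mem hb)
    · rw [add_comm (m a)]
      exact Submodule.add_mem_sup (h4 ▸ Submodule.mem_map_of_mem hb) (h3 ▸ Submodule.mem_map_of_mem ha)
  have hpl : Inv M (plane c₁ c₂) := by
    have h3 : orth (W₁ ⊔ W₂) = plane c₁ c₂ := by
      apply le_antisymm
      · intro x hx
        obtain ⟨w₁, h₁, w₂, h₂, hx'⟩ := h.decomp x
        have h10 : w₁ + w₂ = 0 := by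
          have h11 : ∀ u ∈ W₁ ⊔ W₂, polar (plusForm 4 F) u (w₁ + w₂) = 0 := by
            intro u hu
            have h12 := hx u hu
            rw [hx', polar_add_right, polar_comm _ u (_ + _ : V8 F), h.plane_perp (mem_plane.2 ⟨_, _, rfl⟩) hu,
              zero_add] at h12
            exact h12
          have h12 : w₁ = 0 := h.dual h₁ fun u hu => by
            have h13 := h11 u (Submodule.mem_sup_right hu)
            rw [polar_add_right, h.ts₂.polar hu h₂, add_zero, polar_comm] at h13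
            exact h13
          have h13 : w₂ = 0 := h.symm.dual h₂ fun u hu => by
            have h13 := h11 u (Submodule.mem_sup_left hu)
            rw [polar_add_right, h.ts₁.polar hu h₁, zero_add, polar_comm] at h13
            exact h13
          rw [h12, h13, add_zero]
        rw [hx', h10, add_zero]
        exact mem_plane.2 ⟨_, _, rfl⟩
      · intro c hc u hu
        rw [polar_comm]
        exact h.plane_perp hc hu
    rw [← h3]
    exact inv_orth hsim hU
  -- it suffices to compare on `W₁ ⊔ W₂`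
  have hfixC : ∀ x ∈ plane c₁ c₂, g x = x := by
    intro x hx
    obtain ⟨s, t, rfl⟩ := mem_plane.1 hx
    exact Singer.fix_C h hs _ _
  have hpow : ∀ j : ℕ, ∀ x ∈ plane c₁ c₂, (g ^ j) x = x := by
    intro j x hx
    induction j with
    | zero => rfl
    | succ j ih =>
      rw [pow_succ']
      show g ((g ^ j) x) = x
      rw [ih, hfixC x hx]
  have key : (∃ k : ℕ, ∀ v ∈ W₁ ⊔ W₂, (m * g * m⁻¹) v = (g ^ k) v) → m * g * m⁻¹ ∈ Subgroup.zpowers g := by
    rintro ⟨k, hk⟩
    have h3 : m * g * m⁻¹ = g ^ k := by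
      ext1 v
      obtain ⟨w₁, h₁, w₂, h₂, hv⟩ := h.decomp v
      have hc : polar (plusForm 4 F) c₂ v • c₁ + polar (plusForm 4 F) c₁ v • c₂ ∈ plane c₁ c₂ :=
        mem_plane.2 ⟨_, _, rfl⟩
      rw [hv]
      generalize polar (plusForm 4 F) c₂ v • c₁ + polar (plusForm 4 F) c₁ v • c₂ = c at hc ⊢
      rw [map_add (m * g * m⁻¹) c, map_add (g ^ k) c, hk _ (Submodule.add_mem_sup h₁ h₂), hpow k _ hc]
      congr 1
      show m (g (m⁻¹ _)) = _
      rw [hfixC _ (hpl _ (M.inv_mem hm) _ hc)]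
      exact m.apply_symm_apply _
    rw [h3]
    exact Subgroup.pow_mem _ (Subgroup.mem_zpowers g) k
  apply key
  by_cases hsw : ∃ n ∈ M, im n W₁ = W₂
  · -- `W₁ ⊔ W₂` is irreducible
    obtain ⟨n, hn, hnW⟩ := hsw
    have hne : W₁ ≠ W₂ := by
      intro he
      have h2 := h.disj
      rw [← he, inf_idem] at h2
      exact h.W₁_ne h2
    obtain ⟨k, hk⟩ := section_normal (p := p) (r := r) (M := M) h8 hM hg hs.ord h2 hC hbot hU bot_le (by
      intro T hT _ hTU
      have hTn := hT.im_eq hn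
      rcases Singer.cases_U h hs (hT g hg) hTU with h3 | h3 | h3 | h3
      · exact Or.inl h3
      · rw [h3, hnW] at hTn
        exact absurd hTn.symm hne
      · rw [h3] at hTn
        rcases hP n hn with ⟨h4, h5⟩ | ⟨h4, h5⟩
        · exact absurd (h4.symm.trans hnW) hne
        · exact absurd (h5.symm.trans hTn) hne
      · exact Or.inr h3) hm
    refine ⟨k, fun v hv => ?_⟩
    have h3 := hk v hv
    rw [Submodule.mem_bot, sub_eq_zero] at h3
    exact h3
  · push Not at hsw
    have hW : ∀ n ∈ M, im n W₁ = W₁ ∧ im n W₂ = W₂ := fun n hn => (hP n hn).resolve_right fun h3 => hsw n hn h3.1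
    have hI₁ : Inv M W₁ := fun n hn v hv => by
      have h3 : n v ∈ im n W₁ := Submodule.mem_map_of_mem hv
      rw [(hW n hn).1] at h3
      exact h3
    have hI₂ : Inv M W₂ := fun n hn v hv => by
      have h3 : n v ∈ im n W₂ := Submodule.mem_map_of_mem hv
      rw [(hW n hn).2] at h3
      exact h3
    have hirr : ∀ T, Inv M T → ⊥ ≤ T → T ≤ W₁ → T = ⊥ ∨ T = W₁ := by
      intro T hT _ hTU
      have hTU' : T ≤ W₁ ⊔ W₂ := le_trans hTU le_sup_left
      rcases Singer.cases_U h hs (hT g hg) hTU' with h3 | h3 | h3 | h3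
      · exact Or.inl h3
      · exact Or.inr h3
      · exfalso
        have h4 : W₂ ≤ W₁ ⊓ W₂ := le_inf (h3 ▸ hTU) le_rfl
        rw [h.disj] at h4
        exact h.symm.W₁_ne (le_bot_iff.1 h4)
      · right
        apply le_antisymm hTU
        rw [h3]
        exact le_sup_left
    obtain ⟨k, hk⟩ := section_normal (p := p) (r := r) (M := M) h8 hM hg hs.ord h2 hC hbot hI₁ bot_le hirr hm
    have hk1 : ∀ v ∈ W₁, (m * g * m⁻¹) v = (g ^ k) v := by
      intro v hv
      have h3 := hk v hv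
      rw [Submodule.mem_bot, sub_eq_zero] at h3
      exact h3
    have hmg : m * g * m⁻¹ ∈ M := M.mul_mem (M.mul_mem hm hg) (M.inv_mem hm)
    have hgk : g ^ k ∈ M := M.pow_mem hg k
    have hQ1 := conj_isom (hsim m hm) hgQ
    have hQ2 : ∀ v, plusForm 4 F ((g ^ k) v) = plusForm 4 F v := by
      intro v
      induction k with
      | zero => rfl
      | succ k ih =>
        clear * - hgQ
        generalize k + 1 = j
        induction j with
        | zero => rfl
        | succ j ih =>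
          rw [pow_succ']
          show plusForm 4 F (g ((g ^ j) v)) = _
          rw [hgQ, ih]
    have hk2 : ∀ v ∈ W₂, (m * g * m⁻¹) v = (g ^ k) v := by
      intro v hv
      rw [← sub_eq_zero]
      refine h.symm.dual (W₂.sub_mem (hI₂ _ hmg v hv) (hI₂ _ hgk v hv)) fun w hw => ?_
      -- write `w = g ^ k w'`
      obtain ⟨w', hw', rfl⟩ : ∃ w' ∈ W₁, (g ^ k) w' = w := by
        have h3 := hI₁.im_eq hgk
        rw [← h3] at hw
        exact hw
      rw [polar_sub_left, polar_isom hQ2]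
      conv_lhs => rw [← hk1 w' hw', polar_isom hQ1]
      exact sub_self _
    refine ⟨k, fun v hv => ?_⟩
    obtain ⟨a, ha, b, hb, rfl⟩ := Submodule.mem_sup.1 hv
    rw [map_add, map_add, hk1 a ha, hk2 b hb]

end Cfsg.Agent.H465.OEight
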