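import Cfsg.Agent.H465.OEGam
import Cfsg.Agent.H465.SU

/-!
# `PΩ⁺₈(q)`, `q² + q + 1` prime: automorphisms not conjugate to similitudes (helper465)
-/

set_option autoImplicit false
set_option linter.unusedSectionVars false

namespace Cfsg.Agent.H465.OEight

open Module QuadraticMap Cfsg.Agent.LieClassical.OrthCore Cfsg.Agent.LieClassical.OrthTrans
  Cfsg.Agent.ClassicalGeometry.OrthAut1 Cfsg.Agent.LieClassical.QuadForms Cfsg.Agent.ClassicalGeometry.TrialityOct
  Cfsg.Agent.ClassicalGeometry.Triality Cfsg.Agent.ClassicalGeometry.OrthSemi Cfsg.Agent.H198.TriAut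
  Cfsg.Agent.ClassicalGeometry.TrialityIndex

universe u

variable {F : Type u} [Field F]

/-- a normal subgroup of order `r` of a subgroup contains all elements of order `r` -/
theorem mem_of_normalises {K : Type*} [Group K] [Finite K] {r : ℕ} [Fact r.Prime] (hK : ¬ r ^ 2 ∣ Nat.card K)
    {y z : K} (hy : orderOf y = r) (hz : orderOf z = r) (hn : z * y * z⁻¹ ∈ Subgroup.zpowers y) :
    z ∈ Subgroup.zpowers y := by
  have hr : r.Prime := Fact.out
  have hpu : IsPGroup r (Subgroup.zpowers y) := IsPGroup.of_card (n := 1) (by rw [Nat.card_zpowers, hy, pow_one])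
  have hpv : IsPGroup r (Subgroup.zpowers z) := IsPGroup.of_card (n := 1) (by rw [Nat.card_zpowers, hz, pow_one])
  have hle : Subgroup.zpowers z ≤ Subgroup.normalizer (Subgroup.zpowers y : Set K) := by
    rw [Subgroup.zpowers_le, Subgroup.mem_normalizer_iff_map_conj_eq, MonoidHom.map_zpowers]
    have h1 : Subgroup.zpowers (z * y * z⁻¹) ≤ Subgroup.zpowers y := by rwa [Subgroup.zpowers_le]
    refine Subgroup.eq_of_le_of_card_ge h1 ?_
    rw [Nat.card_zpowers, Nat.card_zpowers]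
    exact (MulEquiv.orderOf_eq (MulAut.conj z) y).ge
  have hsup : IsPGroup r (Subgroup.zpowers y ⊔ Subgroup.zpowers z : Subgroup K) :=
    IsPGroup.to_sup_of_normal_left' hpu hpv hle
  obtain ⟨n, hn⟩ := IsPGroup.iff_card.1 hsup
  have h3 : n < 2 := by
    by_contra hcon
    apply hK
    have h4 : r ^ n ∣ Nat.card K := by
      rw [← hn]
      exact Subgroup.card_subgroup_dvd_card _
    exact (pow_dvd_pow r (by omega)).trans h4
  have h4 : Subgroup.zpowers y = Subgroup.zpowers y ⊔ Subgroup.zpowers z := by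
    refine Subgroup.eq_of_le_of_card_ge le_sup_left ?_
    rw [hn, Nat.card_zpowers, hy]
    have h5 : r ^ n ≤ r ^ 1 := Nat.pow_le_pow_right hr.pos (by omega)
    rwa [pow_one] at h5
  rw [h4]
  exact (le_sup_right : Subgroup.zpowers z ≤ _) (Subgroup.mem_zpowers z)

section

variable [Fintype F] {p r : ℕ} [Fact p.Prime] [CharP F p] [Fact r.Prime] (D : Dat F p r)
include D

/-- **the trialitarian case** -/
theorem Dat.normalises (hK : ¬ r ^ 2 ∣ Nat.card (P8 F)) {β : MulAut (P8 F)} (hS : HS r β) (h3 : β ^ 3 = 1)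
    (hn : ∀ α : MulAut (P8 F), α⁻¹ * β * α ∉ (Psi (plusForm 4 F)).range) {g : V8 F ≃ₗ[F] V8 F} {c₁ c₂ : V8 F}
    {W₁ W₂ : Submodule F (V8 F)} (h : Frame c₁ c₂ W₁ W₂) (hs : Singer r g c₁ c₂ W₁ W₂) :
    (Subgroup.zpowers (((⟨g, hs.mem⟩ : ↥(E (plusForm 4 F))) : P8 F))).map β.toMonoidHom =
      Subgroup.zpowers (((⟨g, hs.mem⟩ : ↥(E (plusForm 4 F))) : P8 F)) := by
  have hfinV : Finite (V8 F ≃ₗ[F] V8 F) := finite_equiv
  have hG := D.good
  set y : P8 F := ((⟨g, hs.mem⟩ : ↥(E (plusForm 4 F))) : P8 F) with hy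
  have hyo : orderOf y = r := Singer.orderOf_mk hG h hs
  have hsol := hS y hyo
  set H : Subgroup (MulAut (P8 F)) := Subgroup.closure ({MulAut.conj y, β} : Set (MulAut (P8 F))) with hH
  have hyH : MulAut.conj y ∈ H := Subgroup.subset_closure (by simp)
  have hβH : β ∈ H := Subgroup.subset_closure (by simp)
  set L : Subgroup (P8 F) := H.comap (MulAut.conj : P8 F →* MulAut (P8 F)) with hL
  have hyL : y ∈ L := hyH
  have hLβ' : ∀ k ∈ L, β k ∈ L := by
    intro k hk
    show MulAut.conj (β k) ∈ H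
    have h4 : (MulAut.conj (β k) : MulAut (P8 F)) = β * MulAut.conj k * β⁻¹ := by
      ext l
      simp
    rw [h4]
    exact H.mul_mem (H.mul_mem hβH hk) (H.inv_mem hβH)
  have hLβ : L.map β.toMonoidHom = L := by
    apply Subgroup.eq_of_le_of_card_ge
    · rintro _ ⟨k, hk, rfl⟩
      exact hLβ' k hk
    · rw [Subgroup.card_map_of_injective β.injective]
  set M : Subgroup (V8 F ≃ₗ[F] V8 F) :=
    (L.comap (QuotientGroup.mk' (Subgroup.center ↥(E (plusForm 4 F))))).map (E (plusForm 4 F)).subtype with hM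
  have hmem : ∀ (m : V8 F ≃ₗ[F] V8 F) (hm : m ∈ E (plusForm 4 F)),
      m ∈ M ↔ ((⟨m, hm⟩ : ↥(E (plusForm 4 F))) : P8 F) ∈ L := by
    intro m hm
    constructor
    · rintro ⟨m', hm', rfl⟩
      exact hm'
    · intro hm'
      exact ⟨⟨m, hm⟩, hm', rfl⟩
  have hME : ∀ m ∈ M, m ∈ E (plusForm 4 F) := by
    rintro _ ⟨m, -, rfl⟩
    exact m.2
  have hsim : ∀ m ∈ M, Sim m := fun m hm => sim_of_E (hME m hm)
  have hgM : g ∈ M := (hmem g hs.mem).2 hyL
  have hMsol : Group.IsSolvable M := by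
    refine solvable_of hG hsim hsol fun m hm => ?_
    have h4 := psi_of_E ⟨m, hME m hm⟩
    have h5 : psi ⟨m, hsim m hm⟩ = MulAut.conj ((⟨m, hME m hm⟩ : ↥(E (plusForm 4 F))) : P8 F) := h4
    rw [h5]
    exact (hmem m (hME m hm)).1 hm
  have h2 : ¬ r ^ 2 ∣ Nat.card M := fun h4 => D.gam (h4.trans (card_dvd_Gam hsim))
  have hC := D.cen M hsim
  have hginv : ∀ {S : Submodule F (V8 F)}, L ≤ stab hG S → ∀ v ∈ S, g v ∈ S := fun hS' v hv =>
    apply_mem_of_mem_stab (hS' hyL) hv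
  have hPerm : Perm M W₁ W₂ := by
    by_cases hN : NoTS M
    · exact claim_eight (p := p) h hs hMsol hgM h2 hC hsim D.cast hN
    · unfold NoTS at hN
      push Not at hN
      obtain ⟨S, hSTS, hSI, hSne⟩ := hN
      have hd := Singer.finrank_cases h hs D.cast (fun v hv => hSI g hgM v hv) hSTS hSne
      have hLS : L ≤ stab hG S := by
        intro k hk
        obtain ⟨k, rfl⟩ := QuotientGroup.mk_surjective k
        exact mem_stab_of_map_le hG fun w hw => hSI k.1 ((hmem k.1 k.2).2 hk) w hw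
      have hfl := H907.TriFlag.tri_flag_of hG (fun hX h4 => H462.OEight.exists_aut_stab hG hX h4)
        (fun hX h4 h3 hWX => H462.OEight.stab_le_stab hG hX h4 h3 hWX)
        (fun hW h3 => H462.OEight.exists_four hG hW h3) β h3 hn hLβ hSTS hd hLS
      rcases hfl with ⟨C, W, hW, hCW, hC1, hW3, hLC, hLW⟩ | ⟨C, U₁, U₂, -, hU₁, hU₂, -, hd₁, hd₂, hne, -, -, -, -, -,
        hL₁, hL₂⟩
      · exfalso
        obtain ⟨c, hc0, -⟩ := finrank_eq_one_iff'.1 hC1
        have hc0' : (c : V8 F) ≠ 0 := fun h0 => hc0 (Subtype.ext h0)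
        have hle : W ≤ C := by
          rcases Singer.eq_of_three h hs D.cast (hginv hLW) hW hW3 with h5 | h5
          · rw [h5]
            exact Singer.le_of_mem h hs (hginv hLC) (h5 ▸ hCW c.2) hc0' c.2
          · rw [h5]
            exact Singer.le_of_mem h.symm hs.symm (hginv hLC) (h5 ▸ hCW c.2) hc0' c.2
        have h5 := Submodule.finrank_mono hle
        omega
      · have h5 := Singer.eq_of_three h hs D.cast (hginv hL₁) hU₁ hd₁
        have h6 := Singer.eq_of_three h hs D.cast (hginv hL₂) hU₂ hd₂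
        have h7 : L ≤ stab hG W₁ ∧ L ≤ stab hG W₂ := by
          rcases h5 with h5 | h5 <;> rcases h6 with h6 | h6
          · exact absurd (h5.trans h6.symm) hne
          · exact ⟨h5 ▸ hL₁, h6 ▸ hL₂⟩
          · exact ⟨h6 ▸ hL₂, h5 ▸ hL₁⟩
          · exact absurd (h5.trans h6.symm) hne
        intro m hm
        have h8 := (hmem m (hME m hm)).1 hm
        exact Or.inl ⟨mem_stab.1 (h7.1 h8), mem_stab.1 (h7.2 h8)⟩
  have hnor : ∀ k ∈ L, k * y * k⁻¹ ∈ Subgroup.zpowers y := by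
    intro k hk
    obtain ⟨k, rfl⟩ := QuotientGroup.mk_surjective k
    have h4 := normal_of_permutes (p := p) h hs hMsol hgM h2 hC hsim hPerm ((hmem k.1 k.2).2 hk)
    obtain ⟨j, hj⟩ := Subgroup.mem_zpowers_iff.1 h4
    refine Subgroup.mem_zpowers_iff.2 ⟨j, ?_⟩
    have h5 : (⟨g, hs.mem⟩ : ↥(E (plusForm 4 F))) ^ j = k * ⟨g, hs.mem⟩ * k⁻¹ := by
      apply Subtype.ext
      push_cast
      exact hj
    rw [hy]
    exact congrArg (QuotientGroup.mk' (Subgroup.center ↥(E (plusForm 4 F)))) h5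
  have h5 : β y ∈ Subgroup.zpowers y :=
    mem_of_normalises hK hyo (by rw [MulEquiv.orderOf_eq, hyo]) (hnor _ (hLβ' y hyL))
  rw [MonoidHom.map_zpowers]
  apply Subgroup.eq_of_le_of_card_ge
  · rw [Subgroup.zpowers_le]
    exact h5
  · rw [Nat.card_zpowers, Nat.card_zpowers]
    exact (MulEquiv.orderOf_eq β y).ge

end

end Cfsg.Agent.H465.OEight
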