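import Cfsg.Agent.OrdDiv.Main
import Cfsg.Prelude.Def_Quasithin

/-!
# The groups on the quasithin list with `|G|_2 = 2 ^ 7` and `9 ∣ |G|` (helper465, S1829)
-/

set_option autoImplicit false

namespace Cfsg.Agent.H465.OrdTwo

open Cfsg Cfsg.Agent.OrdDiv

universe u

/-! ### arithmetic -/

theorem mul_eq {X k N c d : ℕ} (hd : Odd d) (hc : Odd c) (h : d * X = (2 ^ k) ^ N * c)
    (h1 : 128 ∣ X) (h2 : ¬ 256 ∣ X) : k * N = 7 := by
  rw [← pow_mul] at h
  apply le_antisymm
  · by_contra hlt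
    apply h2
    have h3 : 2 ^ 8 ∣ d * X := by
      rw [h]
      exact Dvd.dvd.mul_right (pow_dvd_pow 2 (by omega)) c
    have h4 : Nat.Coprime (2 ^ 8) d := Nat.Coprime.pow_left 8 (Nat.coprime_two_left.2 hd)
    have := h4.dvd_of_dvd_mul_left h3
    norm_num at this
    exact this
  · have h3 : 2 ^ 7 ∣ 2 ^ (k * N) * c := by
      rw [← h]
      exact Dvd.dvd.mul_left (by norm_num; exact h1) d
    have h4 : Nat.Coprime (2 ^ 7) c := Nat.Coprime.pow_left 7 (Nat.coprime_two_left.2 hc)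
    have h5 := h4.dvd_of_dvd_mul_right h3
    exact (Nat.pow_dvd_pow_iff_le_right (by norm_num)).1 h5

theorem odd_sub {q : ℕ} (hq : Even q) (hq1 : 1 ≤ q) {k : ℕ} (hk : k ≠ 0) : Odd (q ^ k - 1) :=
  Nat.Even.sub_odd (Nat.one_le_pow _ _ hq1) ((Nat.even_pow' hk).2 hq) odd_one

theorem odd_add {q : ℕ} (hq : Even q) {k : ℕ} (hk : k ≠ 0) : Odd (q ^ k + 1) :=
  Even.add_odd ((Nat.even_pow' hk).2 hq) odd_one

theorem even_two_pow {k : ℕ} (hk : 1 ≤ k) : Even (2 ^ k) := (Nat.even_pow' (by omega)).2 even_two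

/-! ### cardinal of a field of characteristic two -/

theorem card_char_two {F : Type} [Field F] [Fintype F] (h : CharP F 2) : ∃ k, 1 ≤ k ∧ Fintype.card F = 2 ^ k := by
  obtain ⟨n, -, hn⟩ := FiniteField.card F 2
  exact ⟨n, n.2, hn⟩

/-! ### the classical groups -/

variable {F : Type} [Field F] [Fintype F]

theorem prod_psl (q n : ℕ) : ∏ i : Fin n, (q ^ n - q ^ (i : ℕ)) =
    q ^ (n * (n - 1) / 2) * ∏ i ∈ Finset.range n, (q ^ (i + 1) - 1) := by
  rw [Fin.prod_univ_eq_prod_range (fun i => q ^ n - q ^ i) n]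
  have h : ∀ i ∈ Finset.range n, q ^ n - q ^ i = q ^ i * (q ^ (n - i) - 1) := by
    intro i hi
    rw [Finset.mem_range] at hi
    rw [Nat.mul_sub, mul_one, ← pow_add, Nat.add_sub_cancel' hi.le]
  rw [Finset.prod_congr rfl h, Finset.prod_mul_distrib, Finset.prod_pow_eq_pow_sum, Finset.sum_range_id,
    ← Finset.prod_range_reflect]
  congr 1
  apply Finset.prod_congr rfl
  intro i hi
  rw [Finset.mem_range] at hi
  congr 2
  omega

theorem odd_prod {f : ℕ → ℕ} (n : ℕ) (h : ∀ i, i < n → Odd (f i)) : Odd (∏ i ∈ Finset.range n, f i) := by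
  induction n with
  | zero => simp
  | succ n ih =>
    rw [Finset.prod_range_succ]
    exact (ih fun i hi => h i (by omega)).mul (h n (by omega))

theorem odd_gcd_right {a b : ℕ} (h : Odd b) : Odd (Nat.gcd a b) := by
  rw [← Nat.not_even_iff_odd] at h ⊢
  rw [even_iff_two_dvd] at h ⊢
  exact fun hd => h (hd.trans (Nat.gcd_dvd_right _ _))

theorem psl {k n : ℕ} (hk : 1 ≤ k) (hF : Fintype.card F = 2 ^ k) (hn : 2 ≤ n)
    (h1 : 128 ∣ Nat.card (Matrix.ProjectiveSpecialLinearGroup (Fin n) F))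
    (h2 : ¬ 256 ∣ Nat.card (Matrix.ProjectiveSpecialLinearGroup (Fin n) F)) : k * (n * (n - 1) / 2) = 7 := by
  have h := S0243.result hF n hn
  rw [prod_psl, ← mul_assoc] at h
  have he := even_two_pow hk
  have ho : Odd ((2 ^ k) - 1) := by
    have := odd_sub he (Nat.one_le_pow _ _ (by norm_num)) (k := 1) one_ne_zero
    rwa [pow_one] at this
  refine mul_eq ?_ ?_ h h1 h2
  · exact (odd_gcd_right ho).mul ho
  · exact odd_prod n fun i _ => odd_sub he (Nat.one_le_pow _ _ (by norm_num)) (by omega)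

theorem psp {k m : ℕ} (hk : 1 ≤ k) (hF : Fintype.card F = 2 ^ k) (hm : 1 ≤ m)
    (h1 : 128 ∣ Nat.card (PSp m F)) (h2 : ¬ 256 ∣ Nat.card (PSp m F)) : k * m ^ 2 = 7 := by
  have e1 := S0245.result hF m
  have e2 := S0246.result hF m hm
  have h3 := Subgroup.card_eq_card_quotient_mul_card_subgroup
    (Subgroup.center (Matrix.symplecticGroup (Fin m) F))
  rw [e1, e2, mul_comm (Nat.card _) _] at h3
  have he := even_two_pow hk
  have ho : Odd ((2 ^ k) - 1) := by
    have := odd_sub he (Nat.one_le_pow _ _ (by norm_num)) (k := 1) one_ne_zero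
    rwa [pow_one] at this
  refine mul_eq ?_ ?_ h3.symm h1 h2
  · exact odd_gcd_right ho
  · exact odd_prod m fun i _ => odd_sub he (Nat.one_le_pow _ _ (by norm_num)) (by omega)

theorem psu {k n : ℕ} (hk : 1 ≤ k) (hF : Fintype.card F = (2 ^ k) ^ 2) (hn : 2 ≤ n)
    (h1 : 128 ∣ Nat.card (PSU n F (2 ^ k)))
    (h2 : ¬ 256 ∣ Nat.card (PSU n F (2 ^ k))) : k * (n * (n - 1) / 2) = 7 := by
  have h := S0280.result hF n hn
  rw [← mul_assoc] at h
  have he := even_two_pow hk
  have ho : Odd ((2 ^ k) + 1) := by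
    have := odd_add he (k := 1) one_ne_zero
    rwa [pow_one] at this
  refine mul_eq ?_ ?_ h h1 h2
  · exact (odd_gcd_right ho).mul ho
  · refine odd_prod n fun i _ => ?_
    split_ifs
    · exact odd_add he (by omega)
    · exact odd_sub he (Nat.one_le_pow _ _ (by norm_num)) (by omega)

/-! ### the groups of the list -/

/-- the groups on the quasithin list which have a Sylow `2`-subgroup of order `2 ^ 7` and order divisible by `9` -/
def Short (G : Type u) [Group G] : Prop :=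
  (∃ (F : Type) (_ : Field F) (_ : Fintype F), Odd (Fintype.card F) ∧
    Nonempty (G ≃* Matrix.ProjectiveSpecialLinearGroup (Fin 2) F)) ∨
  (∃ (F : Type) (_ : Field F) (_ : Fintype F), Fintype.card F = 3 ∧
    Nonempty (G ≃* Matrix.ProjectiveSpecialLinearGroup (Fin 4) F)) ∨
  (∃ (F : Type) (_ : Field F) (_ : Fintype F), Fintype.card F = 9 ∧ Nonempty (G ≃* PSU 4 F 3)) ∨
  Spor.IsoM22 G ∨ Spor.IsoM23 G ∨ Spor.IsoJ2 G ∨ Spor.IsoJ3 G

theorem seven_of {k N : ℕ} (h : k * N = 7) : N = 1 ∨ N = 7 := by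
  have : N ∣ 7 := Dvd.intro_left k h
  exact (Nat.dvd_prime (by norm_num)).1 this

variable {G : Type u} [Group G]

theorem bender (T : OrderTable.{u}) (hL : IsBenderGroup G) (h1 : 1152 ∣ Nat.card G) (h2 : ¬ 256 ∣ Nat.card G) :
    False := by
  have h128 : 128 ∣ Nat.card G := Dvd.dvd.trans (by norm_num) h1
  have h9 : 9 ∣ Nat.card G := Dvd.dvd.trans (by norm_num) h1
  rcases hL with ⟨F, _, _, hc, -, ⟨e⟩⟩ | ⟨F, _, _, n, hn, hF, ⟨e⟩⟩ | ⟨F, _, _, m, hm, hF, ⟨e⟩⟩
  · obtain ⟨k, hk, hF⟩ := card_char_two hc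
    rw [Nat.card_congr e.toEquiv] at h128 h9 h2
    have h := psl hk hF le_rfl h128 h2
    norm_num at h
    subst h
    have h3 := S0243.result hF 2 le_rfl
    rw [Fin.prod_univ_two] at h3
    norm_num at h3
    omega
  · rw [Nat.card_congr e.toEquiv] at h128 h2
    have h := seven_of (psu (by omega) hF (by norm_num) h128 h2)
    norm_num at h
  · rw [Nat.card_congr e.toEquiv, T.sz F m hm hF] at h128 h2
    have hev : Even (2 ^ (2 * m + 1)) := even_two_pow (by omega)
    have h := seven_of (mul_eq (d := 1) (k := 2 * m + 1) (N := 2) (c := (2 ^ (2 * m + 1) - 1) * ((2 ^ (2 * m + 1)) ^ 2 + 1)) odd_one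
      (Odd.mul (by simpa using odd_sub hev (Nat.one_le_pow _ _ (by norm_num)) (k := 1) one_ne_zero)
        (odd_add hev two_ne_zero)) (by simp only [one_mul, mul_assoc]) h128 h2)
    norm_num at h

theorem charTwo (T : OrderTable.{u}) (hL : IsLieRankLETwoCharTwo G) (h1 : 1152 ∣ Nat.card G)
    (h2 : ¬ 256 ∣ Nat.card G) : False := by
  have h128 : 128 ∣ Nat.card G := Dvd.dvd.trans (by norm_num) h1
  rcases hL with h | ⟨F, _, _, hc, (⟨⟨e⟩⟩ | ⟨-, ⟨e⟩⟩ | ⟨-, ⟨e⟩⟩)⟩ | ⟨F, _, _, n, hn, hF, ⟨e⟩⟩ | ⟨F, _, _, hF, ⟨e⟩⟩ |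
    ⟨F, _, _, n, hn, hF, ⟨e⟩⟩ | ⟨F, _, _, m, hm, hF, ⟨e⟩⟩ | h
  · exact bender T h h1 h2
  · obtain ⟨k, hk, hF⟩ := card_char_two hc
    rw [Nat.card_congr e.toEquiv] at h128 h2
    have h := seven_of (psl hk hF (by norm_num) h128 h2)
    norm_num at h
  · obtain ⟨k, hk, hF⟩ := card_char_two hc
    rw [Nat.card_congr e.toEquiv] at h128 h2
    have h := seven_of (psp hk hF (by norm_num) h128 h2)
    norm_num at h
  · obtain ⟨k, hk, hF⟩ := card_char_two hc
    rw [Nat.card_congr e.toEquiv, T.g2 F, hF] at h128 h2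
    have hev : Even (2 ^ k) := even_two_pow hk
    have h := seven_of (mul_eq (d := 1) (k := k) (N := 6) (c := ((2 ^ k) ^ 2 - 1) * ((2 ^ k) ^ 6 - 1)) odd_one
      (Odd.mul (odd_sub hev (Nat.one_le_pow _ _ (by norm_num)) (by norm_num))
        (odd_sub hev (Nat.one_le_pow _ _ (by norm_num)) (by norm_num))) (by simp only [one_mul, mul_assoc]) h128 h2)
    norm_num at h
  · rw [Nat.card_congr e.toEquiv] at h128 h2
    have h := seven_of (psu (by omega) hF (by norm_num) h128 h2)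
    norm_num at h
  · rw [Nat.card_congr e.toEquiv] at h128 h2
    have h := seven_of (psu (k := 2) (n := 5) (F := F) (by omega) (by rw [hF]; norm_num) (by norm_num) h128 h2)
    norm_num at h
  · have hq : IsPrimePow (2 ^ n) := ⟨2, n, Nat.prime_two.prime, by omega, rfl⟩
    rw [Nat.card_congr e.toEquiv, T.td4 F (2 ^ n) hq hF] at h128 h2
    have hev : Even (2 ^ n) := even_two_pow hn
    have h := seven_of (mul_eq (d := 1) (k := n) (N := 12)
      (c := ((2 ^ n) ^ 2 - 1) * ((2 ^ n) ^ 6 - 1) * ((2 ^ n) ^ 8 + (2 ^ n) ^ 4 + 1)) odd_one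
      (Odd.mul (Odd.mul (odd_sub hev (Nat.one_le_pow _ _ (by norm_num)) (by norm_num))
        (odd_sub hev (Nat.one_le_pow _ _ (by norm_num)) (by norm_num)))
        (Even.add_odd (((Nat.even_pow' (by norm_num)).2 hev).add ((Nat.even_pow' (by norm_num)).2 hev)) odd_one))
      (by simp only [one_mul, mul_assoc]) h128 h2)
    norm_num at h
  · rw [Nat.card_congr e.toEquiv, T.tf4 F m hm hF] at h128 h2
    have hev : Even (2 ^ (2 * m + 1)) := even_two_pow (by omega)
    have h := seven_of (mul_eq (d := 1) (k := 2 * m + 1) (N := 12)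
      (c := (2 ^ (2 * m + 1) - 1) * ((2 ^ (2 * m + 1)) ^ 3 + 1) * ((2 ^ (2 * m + 1)) ^ 4 - 1) *
        ((2 ^ (2 * m + 1)) ^ 6 + 1)) odd_one
      (Odd.mul (Odd.mul (Odd.mul (by simpa using odd_sub hev (Nat.one_le_pow _ _ (by norm_num)) (k := 1) one_ne_zero)
        (odd_add hev (by norm_num)))
        (odd_sub hev (Nat.one_le_pow _ _ (by norm_num)) (by norm_num)))
        (odd_add hev (by norm_num)))
      (by simp only [one_mul, mul_assoc]) h128 h2)
    norm_num at h
  · have hc := T.spor G (.tits, 17971200) (by decide) h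
    change Nat.card G = 17971200 at hc
    rw [hc] at h2
    norm_num at h2

theorem alt {n : ℕ} (hn : 5 ≤ n) (e : G ≃* ↥(alternatingGroup (Fin n))) (h : ¬ 128 ∣ n.factorial / 2)
    (h1 : 1152 ∣ Nat.card G) : False := by
  have h128 : 128 ∣ Nat.card G := Dvd.dvd.trans (by norm_num) h1
  have h3 := alt_card hn e
  apply h
  rw [h3, Nat.mul_div_cancel_left _ (by norm_num)]
  exact h128

theorem list (T : OrderTable.{u}) (hL : IsOnQTKEList G) (h1 : 1152 ∣ Nat.card G)
    (h2 : ¬ 256 ∣ Nat.card G) : Short G := by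
  have h128 : 128 ∣ Nat.card G := Dvd.dvd.trans (by norm_num) h1
  have hS : ∀ g n, (g, n) ∈ OrdDiv.spor → Real g G → (¬ 128 ∣ n ∨ 256 ∣ n) → Short G := by
    intro g n hm hr hn
    have hc : Nat.card G = n := T.spor G (g, n) hm hr
    rcases hn with hn | hn
    · exact absurd (hc ▸ h128) hn
    · exact absurd (hc ▸ hn) h2
  rcases hL with h | ⟨F, _, _, hF, (⟨⟨e⟩⟩ | ⟨⟨e⟩⟩ | ⟨⟨e⟩⟩)⟩ | (⟨⟨e⟩⟩ | ⟨⟨e⟩⟩ | ⟨⟨e⟩⟩ | ⟨⟨e⟩⟩) |
    (⟨F, _, _, hF, he⟩ | ⟨F, _, _, hF, (⟨⟨e⟩⟩ | he | ⟨⟨e⟩⟩)⟩ | ⟨F, _, _, hF, (⟨⟨e⟩⟩ | he)⟩) |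
    (h | h | h | h | h | h | h | h | h | h | h)
  · exact (charTwo T h h1 h2).elim
  · rw [Nat.card_congr e.toEquiv] at h128 h2
    have h := psl (k := 1) (n := 4) (F := F) le_rfl (by rw [hF]; rfl) (by norm_num) h128 h2
    norm_num at h
  · rw [Nat.card_congr e.toEquiv] at h128 h2
    have h := psl (k := 1) (n := 5) (F := F) le_rfl (by rw [hF]; rfl) (by norm_num) h128 h2
    norm_num at h
  · rw [Nat.card_congr e.toEquiv] at h128 h2
    have h := psp (k := 1) (m := 3) (F := F) le_rfl (by rw [hF]; rfl) (by norm_num) h128 h2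
    norm_num at h
  · exact (alt (by norm_num) e (by decide) h1).elim
  · exact (alt (by norm_num) e (by decide) h1).elim
  · exact (alt (by norm_num) e (by decide) h1).elim
  · exact (alt (by norm_num) e (by decide) h1).elim
  · by_cases ho : Odd (Fintype.card F)
    · exact Or.inl ⟨F, _, _, ho, he⟩
    · exfalso
      have hp : (Fintype.card F).Prime := by
        exact hF.1
      have h2' : Fintype.card F = 2 := by
        rcases hp.eq_two_or_odd' with h | h
        · exact h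
        · exact absurd h ho
      obtain ⟨e⟩ := he
      rw [Nat.card_congr e.toEquiv] at h128 h2
      have h := psl (k := 1) (n := 2) (F := F) le_rfl (by rw [h2']; rfl) (by norm_num) h128 h2
      norm_num at h
  · -- `L_3(3)`
    rw [Nat.card_congr e.toEquiv] at h128
    have h3 := S0243.result hF 3 (by norm_num)
    rw [Fin.prod_univ_three] at h3
    norm_num at h3
    exfalso
    omega
  · exact Or.inr (Or.inl ⟨F, _, _, hF, he⟩)
  · -- `G_2(3)`
    rw [Nat.card_congr e.toEquiv, T.g2 F, hF] at h128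
    norm_num at h128
  · -- `U_3(3)`
    rw [Nat.card_congr e.toEquiv] at h128
    have h3 := S0280.result (F := F) (q := 3) (by rw [hF]; rfl) 3 (by norm_num)
    norm_num [Finset.prod_range_succ, Nat.even_iff] at h3
    exfalso
    omega
  · exact Or.inr (Or.inr (Or.inl ⟨F, _, _, hF, he⟩))
  · exact hS .m11 _ (by simp [OrdDiv.spor]; rfl) h (by norm_num)
  · exact hS .m12 _ (by simp [OrdDiv.spor]; rfl) h (by norm_num)
  · exact Or.inr (Or.inr (Or.inr (Or.inl h)))
  · exact Or.inr (Or.inr (Or.inr (Or.inr (Or.inl h))))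
  · exact hS .m24 244823040 (by simp [OrdDiv.spor]) h (by norm_num)
  · exact Or.inr (Or.inr (Or.inr (Or.inr (Or.inr (Or.inl h)))))
  · exact Or.inr (Or.inr (Or.inr (Or.inr (Or.inr (Or.inr h)))))
  · exact hS .j4 86775571046077562880 (by simp [OrdDiv.spor]) h (by norm_num)
  · exact hS .hs 44352000 (by simp [OrdDiv.spor]) h (by norm_num)
  · exact hS .he 4030387200 (by simp [OrdDiv.spor]) h (by norm_num)
  · exact hS .ru 145926144000 (by simp [OrdDiv.spor]) h (by norm_num)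

end Cfsg.Agent.H465.OrdTwo
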