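import Cfsg.Agent.H465.PEFin
import Cfsg.Agent.H518.SUExcAll

/-!
# S3853: `PE K` for all known simple groups, complete (helper465)
-/

set_option autoImplicit false

namespace Cfsg.Agent.H465.PEAll

open Subgroup Cfsg Cfsg.Agent.H465.SU Cfsg.Agent.H465.Red Cfsg.Agent.H518.SU Cfsg.Agent.H465.PEFin

universe u v

variable {K : Type u} [Group K] [Finite K] [IsSimpleGroup K]

theorem left (hK : ¬ IsMulCommutative K) (h : Left K) : PE K := by
  have hZ := PETable.center_eq_bot hK
  obtain ⟨F, _, _, ⟨hF, ⟨e⟩⟩ | ⟨hF, ⟨e⟩⟩⟩ := h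
  · have hs : IsSimpleGroup (Cfsg.PSp 2 F) := e.symm.isSimpleGroup
    exact PE.of_Exc1_congr hK e (exc_psp_four hF hs (center_eq_bot_of e hZ))
  · have hs : IsSimpleGroup (Cfsg.PSU 4 F 2) := e.symm.isSimpleGroup
    exact PE.of_Exc1_congr hK e (exc_psu_four hF hs (center_eq_bot_of e hZ))

/-- **All known simple groups have the property `PE`** (`IH` is needed only for `Fi₂₂`). -/
theorem pe (hK : ¬ IsMulCommutative K) (h : IsKnownSimple' K)
    (IH : ∀ (L : Type u) [Group L] [Finite L] [IsSimpleGroup L], ¬ IsMulCommutative L → Nat.card L < Nat.card K →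
      PE L) : PE K := by
  rcases final hK h IH with h | h
  · exact h
  · exact left hK h

end Cfsg.Agent.H465.PEAll
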