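import Mathlib
import Cfsg.Prelude.Def_LieTwisted
import Cfsg.Prelude.Def_Sz
import Cfsg.Agent.H465.SULin
import Cfsg.Agent.H465.SpArith
import Cfsg.Agent.H728.DghpSyl
import Cfsg.Agent.Lib.Zsigmondy
import Cfsg.Agent.OddCyclic.ClaimC.SzIso
import Cfsg.Agent.S0331
import Cfsg.Agent.S0324
import Cfsg.Agent.S1158
import Cfsg.Agent.S1069

/-!
# Solvably unique elements of the Suzuki and Ree groups (helper465)
-/

set_option autoImplicit false

namespace Cfsg.Agent.H465.SzRee

open Subgroup Cfsg.Agent.H465.SU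

/-- the natural representation of a general linear group -/
noncomputable def glRep (ι F : Type*) [Fintype ι] [DecidableEq ι] [Field F] :
    GL ι F →* ((ι → F) ≃ₗ[F] (ι → F)) :=
  (LinearMap.GeneralLinearGroup.generalLinearEquiv F (ι → F)).toMonoidHom.comp
    (Matrix.GeneralLinearGroup.toLin (n := ι) (R := F)).toMonoidHom

theorem glRep_injective (ι F : Type*) [Fintype ι] [DecidableEq ι] [Field F] :
    Function.Injective (glRep ι F) :=
  (LinearMap.GeneralLinearGroup.generalLinearEquiv F (ι → F)).injective.comp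
    (Matrix.GeneralLinearGroup.toLin (n := ι) (R := F)).injective

/-- an element of prime order `p`, the order of the characteristic `r` modulo `p` exceeds the exponent of `r` in `|G|` -/
theorem SUel.of_ord {G : Type*} [Group G] [Finite G] {F V : Type*} [Field F] [AddCommGroup V] [Module F V]
    [FiniteDimensional F V] (ρ : G →* (V ≃ₗ[F] V)) (hinj : Function.Injective ρ) {r N p : ℕ} [CharP F r]
    (hr : r.Prime) (hp : p.Prime) (hp2 : p ≠ 2) (hpr : r ≠ p) (hN : ¬ r ^ (N + 1) ∣ Nat.card G)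
    (hord : N < orderOf ((r : ℕ) : ZMod p)) (hcyc : ∀ P : Sylow p G, IsCyclic P) (hdim : Module.finrank F V + 1 < p)
    {y : G} (hy : orderOf y = p) : SUel p y := by
  have : Fact p.Prime := ⟨hp⟩
  refine SUel.of_linear ρ hinj hp hp2 (a := 1) (le_refl 1) (by rw [hy, pow_one]) hcyc (Or.inl (by simpa using hdim)) ?_
  intro t ht htp h0 T hT hyT u hu
  have htr : t = r := by
    have h2 := (CharP.cast_eq_zero_iff F r t).1 h0
    exact ((Nat.prime_dvd_prime_iff_eq hr ht).1 h2).symm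
  subst htr
  have : Fact t.Prime := ⟨ht⟩
  obtain ⟨k, hk⟩ := IsPGroup.iff_card.1 hT
  obtain ⟨j, hjk, hj, hdvd⟩ := card_fixed hp ht hpr hy hk hyT
  have hj0 : j = 0 := by
    by_contra hj0
    have h1 : orderOf ((t : ℕ) : ZMod p) ∣ j := (Lib.Zsigmondy.dvd_pow_sub_one_iff ht.one_lt.le j).1 hdvd
    have h2 := Nat.le_of_dvd (Nat.pos_of_ne_zero hj0) h1
    apply hN
    refine (pow_dvd_pow t (by omega : N + 1 ≤ k)).trans ?_
    rw [← hk]
    exact card_subgroup_dvd_card T
  rw [hj0, Nat.sub_zero, ← hk] at hj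
  have h2 : T ⊓ centralizer ({y} : Set G) = T := eq_of_le_of_card_ge inf_le_left hj.ge
  have h3 : u ∈ T ⊓ centralizer ({y} : Set G) := by rw [h2]; exact hu
  rw [Nat.sub_self, pow_zero, pow_one]
  exact (mem_centralizer_singleton_iff.1 h3.2).symm

theorem not_dvd_of_ord {a p n j : ℕ} (ha : 2 ≤ a) (h : orderOf (a : ZMod p) = n) (hj : ¬ n ∣ j) : ¬ p ∣ a ^ j - 1 := by
  rw [Lib.Zsigmondy.dvd_pow_sub_one_iff (by omega), h]
  exact hj

/-- a solvably unique element generating a Sylow `p`-subgroup -/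
def HasSUS (G : Type*) [Group G] : Prop :=
  ∃ (p a : ℕ) (y : G), p.Prime ∧ 5 ≤ p ∧ 1 ≤ a ∧ orderOf y = p ^ a ∧ ¬ p ^ (a + 1) ∣ Nat.card G ∧ SUel p y

theorem HasSUS.hasSU {G : Type*} [Group G] (h : HasSUS G) : HasSU G := by
  obtain ⟨p, a, y, hp, hp5, -, -, -, h⟩ := h
  exact ⟨p, hp, by omega, y, h⟩

theorem HasSUS.of_one {G : Type*} [Group G] (h : HasSU1 G) : HasSUS G := by
  obtain ⟨p, y, hp, hp5, h1, h2, h⟩ := h
  exact ⟨p, 1, y, hp, hp5, le_rfl, by rw [pow_one, h1], h2, h⟩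

theorem HasSUS.congr {G H : Type*} [Group G] [Group H] (e : G ≃* H) (h : HasSUS G) : HasSUS H := by
  obtain ⟨p, a, y, hp, hp5, ha, h1, h2, h⟩ := h
  exact ⟨p, a, e y, hp, hp5, ha, by rw [MulEquiv.orderOf_eq, h1], by rwa [← Nat.card_congr e.toEquiv], h.congr e⟩

/-- passing to a generator of a cyclic Sylow subgroup -/
theorem HasSUS.of_cyclic {G : Type*} [Group G] [Finite G] {p : ℕ} (hp : p.Prime) (hp5 : 5 ≤ p)
    (hcyc : ∀ P : Sylow p G, IsCyclic P) {y : G} (h : SUel p y) : HasSUS G := by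
  have : Fact p.Prime := ⟨hp⟩
  obtain ⟨hy1, ⟨k, hk⟩, hu⟩ := h
  have hz : IsPGroup p (zpowers y) := IsPGroup.of_card (n := k) (by rw [Nat.card_zpowers, hk])
  obtain ⟨P, hP⟩ := hz.exists_le_sylow
  obtain ⟨g, hg⟩ := (hcyc P).exists_generator
  have hgo : orderOf (g : G) = p ^ (Nat.card G).factorization p := by
    rw [orderOf_coe, orderOf_eq_card_of_forall_mem_zpowers hg, P.card_eq_multiplicity]
  have hyg : y ∈ zpowers (g : G) := by
    have h1 : y ∈ (P : Subgroup G) := hP (mem_zpowers y)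
    obtain ⟨i, hi⟩ := mem_zpowers_iff.1 (hg ⟨y, h1⟩)
    refine mem_zpowers_iff.2 ⟨i, ?_⟩
    rw [← SubgroupClass.coe_zpow, hi]
  refine ⟨p, (Nat.card G).factorization p, g, hp, hp5, ?_, hgo, ?_, ?_, ⟨_, hgo⟩, ?_⟩
  · by_contra h0
    have h1 : (Nat.card G).factorization p = 0 := by omega
    rw [h1, pow_zero, orderOf_eq_one_iff] at hgo
    rw [hgo, zpowers_one_eq_bot, mem_bot] at hyg
    exact hy1 hyg
  · exact Nat.pow_succ_factorization_not_dvd Nat.card_pos.ne' hp
  · intro h0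
    rw [h0, zpowers_one_eq_bot, mem_bot] at hyg
    exact hy1 hyg
  · intro M hM hgM A B hA hB hAc hBc
    exact hu M hM ((zpowers_le.2 hgM) hyg) A B hA hB hAc hBc

/-- **the Suzuki groups** -/
theorem row_sz {F : Type*} [Field F] [Fintype F] {m : ℕ} (hm : 1 ≤ m) (hF : Fintype.card F = 2 ^ (2 * m + 1)) :
    ∃ (p : ℕ) (y : Cfsg.Sz F m), p.Prime ∧ 13 ≤ p ∧ orderOf ((2 : ℕ) : ZMod p) = 4 * (2 * m + 1) ∧ orderOf y = p ∧
      SUel p y := by
  obtain ⟨p, hp, hord⟩ := Lib.Zsigmondy.exists_prime_orderOf (a := 2) (n := 4 * (2 * m + 1)) le_rfl (by omega)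
    (by omega) (by omega)
  have : Fact p.Prime := ⟨hp⟩
  have hcard := Cfsg.Agent.S0324.result hm hF
  set q := 2 ^ (2 * m + 1) with hq
  have hq8 : 8 ≤ q := by
    have : 2 ^ 3 ≤ 2 ^ (2 * m + 1) := Nat.pow_le_pow_right (by norm_num) (by omega)
    omega
  have hp2' : ¬ p ∣ 2 := by
    intro h
    have h2 : p = 2 := (Nat.prime_dvd_prime_iff_eq hp Nat.prime_two).1 h
    subst h2
    have h3 : ((2 : ℕ) : ZMod 2) = 0 := ZMod.natCast_self 2
    rw [h3] at hord
    have h4 : orderOf (0 : ZMod 2) = 0 := by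
      rw [orderOf_eq_zero_iff']
      intro n hn h5
      rw [zero_pow hn.ne'] at h5
      exact zero_ne_one h5
    omega
  have hp2 : p ≠ 2 := fun h => hp2' (h ▸ dvd_rfl)
  have hp13 : 13 ≤ p := by
    have h1 := Lib.Zsigmondy.orderOf_dvd_pred hp hp2'
    rw [hord] at h1
    have h2 := Nat.le_of_dvd (by have := hp.two_le; omega) h1
    omega
  have hfin : Finite (Cfsg.Sz F m) := by
    apply Nat.finite_of_card_ne_zero
    rw [hcard]
    have : q - 1 ≠ 0 := by omega
    positivity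
  -- `p ∣ q² + 1`
  have hpq : p ∣ q ^ 2 + 1 := by
    have h1 : p ∣ 2 ^ (4 * (2 * m + 1)) - 1 := (Lib.Zsigmondy.dvd_pow_sub_one_iff (by norm_num) _).2 (by rw [hord])
    have h2 : 2 ^ (4 * (2 * m + 1)) - 1 = (q ^ 2 + 1) * (2 ^ (2 * (2 * m + 1)) - 1) := by
      have e1 : 2 ^ (4 * (2 * m + 1)) = (q ^ 2) ^ 2 := by rw [hq]; ring
      have e2 : 2 ^ (2 * (2 * m + 1)) = q ^ 2 := by rw [hq]; ring
      rw [e1, e2]
      have := Nat.sq_sub_sq (q ^ 2) 1
      rwa [one_pow] at this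
    rw [h2] at h1
    rcases (hp.dvd_mul).1 h1 with h3 | h3
    · exact h3
    · exact absurd h3 (not_dvd_of_ord le_rfl hord (fun h4 => by
        have := Nat.le_of_dvd (by omega) h4
        omega))
  obtain ⟨y, hy⟩ := exists_prime_orderOf_dvd_card' (G := Cfsg.Sz F m) p (by
    rw [hcard]
    exact (hpq.mul_left _).mul_right _)
  refine ⟨p, y, hp, hp13, hord, hy, ?_⟩
  have hchar : CharP F 2 := by
    have h1 : ringChar F = 2 := by
      by_contra h
      have h2 := FiniteField.odd_card_of_char_ne_two h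
      rw [hF, hq] at h2
      have h3 : 2 ∣ 2 ^ (2 * m + 1) := dvd_pow_self 2 (by omega)
      omega
    exact ringChar.of_eq h1
  have hcyc : ∀ P : Sylow p (Cfsg.Sz F m), IsCyclic P := fun P => S0331.result hm hF hp2 P
  refine SUel.of_ord (F := F) (r := 2) (N := 2 * (2 * m + 1)) (V := Fin 4 → F)
    ((Matrix.SpecialLinearGroup.toLin' (n := Fin 4) (R := F)).comp (Cfsg.Sz F m).subtype)
    (Matrix.SpecialLinearGroup.toLin'_injective.comp (Cfsg.Sz F m).subtype_injective) Nat.prime_two hp hp2 hp2.symm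
    ?_ ?_ hcyc ?_ hy
  · -- the 2-part of the order
    rw [hcard]
    intro h
    have hodd : Nat.Coprime (2 ^ (2 * (2 * m + 1) + 1)) ((q ^ 2 + 1) * (q - 1)) := by
      apply Nat.Coprime.pow_left
      have h2 : 2 ∣ q := by rw [hq]; exact dvd_pow_self 2 (by omega)
      apply Nat.Coprime.mul_right
      · rw [Nat.coprime_two_left, Nat.odd_iff]
        have : 2 ∣ q ^ 2 := h2.trans (dvd_pow_self q (by norm_num))
        omega
      · rw [Nat.coprime_two_left, Nat.odd_iff]
        omega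
    have h3 : 2 ^ (2 * (2 * m + 1) + 1) ∣ q ^ 2 := by
      refine hodd.dvd_of_dvd_mul_right ?_
      convert h using 1
      ring
    have h4 : q ^ 2 = 2 ^ (2 * (2 * m + 1)) := by rw [hq]; ring
    rw [h4, Nat.pow_dvd_pow_iff_le_right (by norm_num)] at h3
    omega
  · rw [hord]; omega
  · rw [Module.finrank_fintype_fun_eq_card, Fintype.card_fin]
    omega

theorem hasSUS_sz {G : Type*} [Group G] [Finite G] (h : Cfsg.Lie.IsoSuzuki G) : HasSUS G := by
  obtain ⟨F, _, _, m, hm, hF, ⟨e⟩⟩ := h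
  obtain ⟨p, y, hp, hp13, hord, hy, hSU⟩ := row_sz hm hF
  have : Fact p.Prime := ⟨hp⟩
  obtain ⟨e'⟩ := Cfsg.Agent.OddCyclic.ClaimC.SzIso.iso (F := F) hm hF
  have f : Cfsg.Sz F m ≃* G := e'.trans e.symm
  have : Finite (Cfsg.Sz F m) := Finite.of_equiv G f.symm.toEquiv
  exact (HasSUS.of_cyclic hp (by omega) (fun P => S0331.result hm hF (by omega) P) hSU).congr f

/-! ### the Ree groups -/

/-- Sylow subgroups contained in a conjugate of a cyclic subgroup -/
theorem cyclic_of_hall {G : Type*} [Group G] [Finite G] {p : ℕ} [Fact p.Prime] {A : Subgroup G} (hA : IsCyclic A)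
    (hind : ¬ p ∣ A.index) (P : Sylow p G) : IsCyclic P := by
  obtain ⟨g, hg⟩ := H728.DghpSyl.exists_conj_le Fact.out hind P.2
  have h1 : IsCyclic ((P : Subgroup G).map (MulAut.conj g).toMonoidHom) :=
    isCyclic_of_injective (inclusion hg) (inclusion_injective hg)
  exact isCyclic_of_surjective
    ((P : Subgroup G).equivMapOfInjective (MulAut.conj g).toMonoidHom (MulAut.conj g).injective).symm.toMonoidHom
    (MulEquiv.surjective _)

theorem row_ree {K : Type*} [Field K] [Fintype K] {m : ℕ} (hm : 1 ≤ m) (hK : Fintype.card K = 3 ^ (2 * m + 1)) :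
    HasSUS (Cfsg.Lie.twistedG2 K (3 ^ m)) := by
  obtain ⟨p, hp, hord⟩ := Lib.Zsigmondy.exists_prime_orderOf (a := 3) (n := 6 * (2 * m + 1)) (by norm_num) (by omega)
    (by omega) (by omega)
  have : Fact p.Prime := ⟨hp⟩
  have hcard := Cfsg.Agent.S1069.result (K := K) hK
  have hS := Cfsg.Agent.S1158.result hm hK
  set q := 3 ^ (2 * m + 1) with hq
  set t := 3 ^ (m + 1) with ht
  have hq27 : 27 ≤ q := by
    have : 3 ^ 3 ≤ 3 ^ (2 * m + 1) := Nat.pow_le_pow_right (by norm_num) (by omega)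
    omega
  have htq : t ≤ q := Nat.pow_le_pow_right (by norm_num) (by omega)
  have htt : t ^ 2 = 3 * q := by
    rw [ht, hq]
    ring
  have hp3' : ¬ p ∣ 3 := by
    intro h
    have h2 : p = 3 := (Nat.prime_dvd_prime_iff_eq hp Nat.prime_three).1 h
    subst h2
    have h3 : ((3 : ℕ) : ZMod 3) = 0 := ZMod.natCast_self 3
    rw [h3] at hord
    have h4 : orderOf (0 : ZMod 3) = 0 := by
      rw [orderOf_eq_zero_iff']
      intro n hn h5
      rw [zero_pow hn.ne'] at h5
      exact zero_ne_one h5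
    omega
  have hp3 : p ≠ 3 := fun h => hp3' (h ▸ dvd_rfl)
  have hp19 : 19 ≤ p := by
    have h1 := Lib.Zsigmondy.orderOf_dvd_pred hp hp3'
    rw [hord] at h1
    have h2 := Nat.le_of_dvd (by have := hp.two_le; omega) h1
    omega
  have hprod : q ^ 3 + 1 = (q + 1) * ((q + t + 1) * (q - t + 1)) := by
    have : (t : ℤ) ^ 2 = 3 * q := by exact_mod_cast htt
    zify [htq]
    linear_combination (q + 1 : ℤ) * this
  have hfin : Finite ↥(Cfsg.Lie.twistedG2 K (3 ^ m)) := by
    apply Nat.finite_of_card_ne_zero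
    rw [hcard]
    have : q - 1 ≠ 0 := by omega
    positivity
  have hn1 : ¬ p ∣ q - 1 := by
    have h1 := not_dvd_of_ord (a := 3) (j := 2 * m + 1) (by norm_num) hord (fun h => by
      have := Nat.le_of_dvd (by omega) h
      omega)
    exact h1
  have hn2 : ¬ p ∣ q ^ 2 - 1 := by
    have h1 := not_dvd_of_ord (a := 3) (j := 2 * (2 * m + 1)) (by norm_num) hord (fun h => by
      have := Nat.le_of_dvd (by omega) h
      omega)
    have e : 3 ^ (2 * (2 * m + 1)) = q ^ 2 := by rw [hq]; ring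
    rwa [e] at h1
  have hn3 : ¬ p ∣ q + 1 := by
    intro h
    apply hn2
    have : q ^ 2 - 1 = (q + 1) * (q - 1) := by
      have := Nat.sq_sub_sq q 1
      rwa [one_pow] at this
    rw [this]
    exact h.mul_right _
  -- `p ∣ q³ + 1`
  have hpq : p ∣ q ^ 3 + 1 := by
    have h1 : p ∣ 3 ^ (6 * (2 * m + 1)) - 1 := (Lib.Zsigmondy.dvd_pow_sub_one_iff (by norm_num) _).2 (by rw [hord])
    have h2 : 3 ^ (6 * (2 * m + 1)) - 1 = (q ^ 3 + 1) * (3 ^ (3 * (2 * m + 1)) - 1) := by
      have e1 : 3 ^ (6 * (2 * m + 1)) = (q ^ 3) ^ 2 := by rw [hq]; ring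
      have e2 : 3 ^ (3 * (2 * m + 1)) = q ^ 3 := by rw [hq]; ring
      rw [e1, e2]
      have := Nat.sq_sub_sq (q ^ 3) 1
      rwa [one_pow] at this
    rw [h2] at h1
    rcases (hp.dvd_mul).1 h1 with h3 | h3
    · exact h3
    · exact absurd h3 (not_dvd_of_ord (by norm_num) hord (fun h4 => by
        have := Nat.le_of_dvd (by omega) h4
        omega))
  -- cyclic Sylow subgroups
  have hcyc : ∀ P : Sylow p ↥(Cfsg.Lie.twistedG2 K (3 ^ m)), IsCyclic P := by
    intro P
    have hpt : p ∣ q + t + 1 ∨ p ∣ q - t + 1 := by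
      rw [hprod] at hpq
      rcases (hp.dvd_mul).1 hpq with h | h
      · exact absurd h hn3
      · exact (hp.dvd_mul).1 h
    have hpq0 : ¬ p ∣ q := fun h => hp3' (hp.dvd_of_dvd_pow (hq ▸ h))
    have hboth : ¬ (p ∣ q + t + 1 ∧ p ∣ q - t + 1) := by
      rintro ⟨ha, hb⟩
      have h3 : p ∣ (q + t + 1) - (q - t + 1) := Nat.dvd_sub ha hb
      have h4 : (q + t + 1) - (q - t + 1) = 2 * t := by omega
      rw [h4] at h3
      rcases (hp.dvd_mul).1 h3 with h5 | h5
      · have := Nat.le_of_dvd (by norm_num) h5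
        omega
      · exact hp3' (hp.dvd_of_dvd_pow (ht ▸ h5))
    rcases hpt with h | h
    · obtain ⟨A, hAc, hAn, hAN, hAC⟩ := hS (q + t + 1, 6 * (q + t + 1)) (by simp)
      refine cyclic_of_hall hAc ?_ P
      have hc1 : Nat.card ↥(Cfsg.Lie.twistedG2 K (3 ^ m)) = (q + t + 1) * (q ^ 3 * (q - 1) * (q + 1) * (q - t + 1)) := by
        rw [hcard, hprod]; ring
      have h3 := Subgroup.card_mul_index A
      rw [hAn, hc1] at h3
      rw [Nat.eq_of_mul_eq_mul_left (by omega) h3]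
      intro h4
      rcases (hp.dvd_mul).1 h4 with h4 | h4
      · rcases (hp.dvd_mul).1 h4 with h4 | h4
        · rcases (hp.dvd_mul).1 h4 with h4 | h4
          · exact hpq0 (hp.dvd_of_dvd_pow h4)
          · exact hn1 h4
        · exact hn3 h4
      · exact hboth ⟨h, h4⟩
    · obtain ⟨A, hAc, hAn, hAN, hAC⟩ := hS (q - t + 1, 6 * (q - t + 1)) (by simp)
      refine cyclic_of_hall hAc ?_ P
      have hc1 : Nat.card ↥(Cfsg.Lie.twistedG2 K (3 ^ m)) = (q - t + 1) * (q ^ 3 * (q - 1) * (q + 1) * (q + t + 1)) := by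
        rw [hcard, hprod]; ring
      have h3 := Subgroup.card_mul_index A
      rw [hAn, hc1] at h3
      rw [Nat.eq_of_mul_eq_mul_left (by omega) h3]
      intro h4
      rcases (hp.dvd_mul).1 h4 with h4 | h4
      · rcases (hp.dvd_mul).1 h4 with h4 | h4
        · rcases (hp.dvd_mul).1 h4 with h4 | h4
          · exact hpq0 (hp.dvd_of_dvd_pow h4)
          · exact hn1 h4
        · exact hn3 h4
      · exact hboth ⟨h4, h⟩
  obtain ⟨y, hy⟩ := exists_prime_orderOf_dvd_card' (G := ↥(Cfsg.Lie.twistedG2 K (3 ^ m))) p (by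
    rw [hcard]
    exact hpq.mul_left _)
  refine HasSUS.of_cyclic hp (by omega) hcyc (y := y) ?_
  have hchar : CharP K 3 := by
    obtain ⟨r, hr⟩ := CharP.exists K
    have hrp : r.Prime := (CharP.char_is_prime_or_zero K r).resolve_right (CharP.char_ne_zero_of_finite K r)
    have : Fact r.Prime := ⟨hrp⟩
    obtain ⟨n, -, hn⟩ := FiniteField.card K r
    rw [hK, hq] at hn
    have h1 : r ∣ 3 ^ (2 * m + 1) := by rw [hn]; exact dvd_pow_self r n.ne_zero
    have h2 : r = 3 := (Nat.prime_dvd_prime_iff_eq hrp Nat.prime_three).1 (hrp.dvd_of_dvd_pow h1)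
    rwa [h2] at hr
  refine SUel.of_ord (F := K) (r := 3) (N := 3 * (2 * m + 1))
    ((glRep _ K).comp (Cfsg.Lie.twistedG2 K (3 ^ m)).subtype)
    ((glRep_injective _ K).comp (Cfsg.Lie.twistedG2 K (3 ^ m)).subtype_injective) Nat.prime_three hp (by omega)
    hp3.symm ?_ ?_ hcyc ?_ hy
  · -- the 3-part of the order
    rw [hcard]
    intro h
    have h3q : 3 ∣ q := by rw [hq]; exact dvd_pow_self 3 (by omega)
    have hco : Nat.Coprime (3 ^ (3 * (2 * m + 1) + 1)) ((q - 1) * (q ^ 3 + 1)) := by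
      apply Nat.Coprime.pow_left
      apply Nat.Coprime.mul_right
      · rw [Nat.Prime.coprime_iff_not_dvd Nat.prime_three]
        omega
      · rw [Nat.Prime.coprime_iff_not_dvd Nat.prime_three]
        intro h4
        have h5 : 3 ∣ q ^ 3 := h3q.trans (dvd_pow_self q (by norm_num))
        omega
    have h3 : 3 ^ (3 * (2 * m + 1) + 1) ∣ q ^ 3 := by
      refine hco.dvd_of_dvd_mul_right ?_
      convert h using 1
      ring
    have h4 : q ^ 3 = 3 ^ (3 * (2 * m + 1)) := by rw [hq]; ring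
    rw [h4, Nat.pow_dvd_pow_iff_le_right (by norm_num)] at h3
    omega
  · rw [hord]; omega
  · rw [Module.finrank_fintype_fun_eq_card]
    have : Fintype.card Cfsg.Lie.chevG2.Idx = 14 := by decide
    omega

theorem hasSUS_ree {G : Type*} [Group G] [Finite G] (h : Cfsg.Lie.IsoRee G) : HasSUS G := by
  obtain ⟨K, _, _, m, hm, hK, ⟨e⟩⟩ := h
  exact (row_ree hm hK).congr e.symm

end Cfsg.Agent.H465.SzRee
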