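import Cfsg.Agent.H465.RedRC
import Cfsg.Agent.H465.AltPE
import Cfsg.Agent.H465.LTwo
import Cfsg.Agent.H465.SzRee
import Cfsg.Agent.H465.SpRows
import Cfsg.Agent.H465.SpFi23
import Cfsg.Agent.H518.SUTable
import Cfsg.Agent.H585.SuG2
import Cfsg.Agent.H585.SuF4
import Cfsg.Agent.H585.SuE6
import Cfsg.Agent.H585.SuE7
import Cfsg.Agent.H585.SuE8
import Cfsg.Agent.H585.SuTD4
import Cfsg.Agent.H585.SuTE6
import Cfsg.Agent.H965.SUTits
import Cfsg.Agent.H965.SUTwF4
import Cfsg.Agent.H679.SpJ2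
import Cfsg.Agent.H679.SpHe
import Cfsg.Agent.H60.SpMcL
import Cfsg.Agent.H821.SpCo2
import Cfsg.Agent.H821.SpB
import Cfsg.Agent.H322.SU.CoOne

/-!
# S3853: the table of the known simple groups
-/

set_option autoImplicit false

namespace Cfsg.Agent.H465.PETable

open Subgroup Cfsg Cfsg.Agent.H465.SU Cfsg.Agent.H465.Red

universe u

variable {K : Type u} [Group K] [Finite K] [IsSimpleGroup K]

theorem center_eq_bot (hK : ¬ IsMulCommutative K) : center K = ⊥ := by
  rcases (inferInstance : (center K).Normal).eq_bot_or_eq_top with h1 | h1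
  · exact h1
  · exfalso
    apply hK
    refine ⟨⟨fun a b => ?_⟩⟩
    have h2 : a ∈ center K := by rw [h1]; exact mem_top a
    exact (mem_center_iff.1 h2 b).symm

theorem PE.of_HasSU (hK : ¬ IsMulCommutative K) (h : HasSU K) : PE K := PE.of_P2 hK (P2.of_SU hK h)

theorem PE.of_HasSU1 (hK : ¬ IsMulCommutative K) (h : HasSU1 K) : PE K := PE.of_HasSU hK h.hasSU

/-- helper518's rows give `HasSU`. -/
theorem hasSU_of_rowOut (h : H518.SU.RowOut K) : HasSU K := by
  obtain ⟨p, a, hp, hp5, ha, -, -, y, hy, hel⟩ := h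
  refine ⟨p, hp, by omega, y, ?_, ⟨a, hy⟩, fun M hM hyM A B hA hB hAc hBc =>
    hel.eq_of_card hp ha hy M hM hyM A B hA hB hAc hBc⟩
  intro h1
  rw [h1, orderOf_one] at hy
  exact (Nat.one_lt_pow (by omega) hp.one_lt).ne hy

/-- the sporadic groups, except `Fi₂₂` -/
theorem hasSU1_sporadic (h : IsSporadicGroup K) : HasSU1 K ∨ Spor.IsoFi22 K := by
  rcases h with h | h | h | h | h | h | h | h | h | h | h | h | h | h | h | h | h | h | h | h | h | h | h | h | h | h
  · exact Or.inl (SpRows.m11 h)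
  · exact Or.inl (SpRows.m12 h)
  · exact Or.inl (SpRows.m22 h)
  · exact Or.inl (SpRows.m23 h)
  · exact Or.inl (SpRows.m24 h)
  · exact Or.inl (SpRows.j1 h)
  · exact Or.inl (H679.SpJ2.j2 h)
  · exact Or.inl (SpRows.j3 h)
  · exact Or.inl (SpRows.j4 h)
  · exact Or.inl (H322.SUCo.co1 h)
  · exact Or.inl (H821.SpCo2.co2 h)
  · exact Or.inl (SpRows.co3 h)
  · exact Or.inl (H60.SpMcL.mcl h)
  · exact Or.inl (SpRows.hs h)
  · exact Or.inl (H322.SUCo.suz h)
  · exact Or.inl (H679.SpHe.he h)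
  · exact Or.inl (SpRows.ru h)
  · exact Or.inl (SpRows.on h)
  · exact Or.inl (SpRows.ly h)
  · exact Or.inr h
  · exact Or.inl (SpFi23.fi23 h)
  · exact Or.inl (SpRows.fi24 h)
  · exact Or.inl (SpRows.hn h)
  · exact Or.inl (SpRows.th h)
  · exact Or.inl (H821.SpB.hasSU1 h)
  · exact Or.inl (SpRows.m h)

/-- the exceptional groups, except `³D₄(2)` -/
theorem hasSU_exceptional (h : IsExceptionalLieType K) : HasSU K ∨
    ∃ (F : Type) (_ : Field F) (_ : Fintype F), Fintype.card F = 2 ^ 3 ∧ Nonempty (K ≃* Lie.twistedD4 F 2) := by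
  rcases h with h | h | h | h | h | h | h | h | h | h | h
  · obtain ⟨F, _, _, h3, ⟨e⟩⟩ := h
    exact Or.inl ((H585.SuG2.result (F := F) (by omega)).congr e.symm).hasSU
  · obtain ⟨F, _, _, ⟨e⟩⟩ := h
    exact Or.inl ((H585.SuF4.result (F := F)).congr e.symm).hasSU
  · obtain ⟨F, _, _, ⟨e⟩⟩ := h
    exact Or.inl ((H585.SuE6.result (F := F)).congr e.symm).hasSU
  · obtain ⟨F, _, _, ⟨e⟩⟩ := h
    exact Or.inl ((H585.SuE7.result (F := F)).congr e.symm).hasSU
  · obtain ⟨F, _, _, ⟨e⟩⟩ := h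
    exact Or.inl ((H585.SuE8.result (F := F)).congr e.symm).hasSU
  · obtain ⟨F, _, _, q, hq, hF, ⟨e⟩⟩ := h
    exact Or.inl ((H585.SuTE6.result hq hF).congr e.symm).hasSU
  · obtain ⟨F, _, _, q, hq, hF, ⟨e⟩⟩ := h
    by_cases h2 : q = 2
    · subst h2
      exact Or.inr ⟨F, _, _, hF, ⟨e⟩⟩
    · exact Or.inl ((H585.SuTD4.result hq hF h2).congr e.symm).hasSU
  · exact Or.inl (SzRee.hasSUS_sz h).hasSU
  · exact Or.inl (SzRee.hasSUS_ree h).hasSU
  · obtain ⟨p, a, y, hy⟩ := H965.SU.row_twF4 K h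
    exact Or.inl hy.hasSU
  · obtain ⟨p, a, y, hy⟩ := H965.SU.row_tits K h
    exact Or.inl hy.hasSU

/-- the groups with a separate argument -/
def Open (K : Type u) [Group K] : Prop :=
  H518.SU.Exceptions K ∨ Spor.IsoFi22 K ∨
    ∃ (F : Type) (_ : Field F) (_ : Fintype F), Fintype.card F = 2 ^ 3 ∧ Nonempty (K ≃* Lie.twistedD4 F 2)

theorem classical (hK : ¬ IsMulCommutative K) (h : IsPSL K ∨ IsPSp K ∨ IsPSU K ∨ IsPOmegaOdd K ∨ IsPOmegaPlus K ∨
    IsPOmegaMinus K) : PE K ∨ Open K := by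
  rcases H518.SU.table (center_eq_bot hK) h with ⟨F, _, _, hF, ⟨e⟩⟩ | h | h
  · exact Or.inl (PE.of_P2 hK (LTwo.p2_psl_two hK e hF))
  · exact Or.inr (Or.inl h)
  · exact Or.inl (PE.of_HasSU hK (hasSU_of_rowOut h))

/-- **The table**: `PE K` for all known simple groups outside a finite list. -/
theorem table (hK : ¬ IsMulCommutative K) (h : IsKnownSimple' K) : PE K ∨ Open K := by
  rcases h with h | h | h | h | h | h | h | h | h | h
  · exfalso
    have : Fact (Nat.card K).Prime := ⟨h⟩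
    have := isCyclic_of_prime_card (α := K) rfl
    exact hK IsCyclic.commutative
  · exact Or.inl (AltPE.pe_alternating hK h)
  · exact classical hK (Or.inl h)
  · exact classical hK (Or.inr (Or.inl h))
  · exact classical hK (Or.inr (Or.inr (Or.inl h)))
  · exact classical hK (Or.inr (Or.inr (Or.inr (Or.inl h))))
  · exact classical hK (Or.inr (Or.inr (Or.inr (Or.inr (Or.inl h)))))
  · exact classical hK (Or.inr (Or.inr (Or.inr (Or.inr (Or.inr h)))))
  · rcases hasSU_exceptional h with h | h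
    · exact Or.inl (PE.of_HasSU hK h)
    · exact Or.inr (Or.inr (Or.inr h))
  · rcases hasSU1_sporadic h with h | h
    · exact Or.inl (PE.of_HasSU1 hK h)
    · exact Or.inr (Or.inr (Or.inl h))

end Cfsg.Agent.H465.PETable
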