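import Cfsg.Agent.H465.PiBSTau
import Cfsg.Agent.BabyM.Instance
import Cfsg.Agent.BM.KHAll
import Cfsg.Agent.CpAut.TwoInnerB
import Cfsg.Agent.H518.PiB.Co2Inv

/-!
# Involutory automorphisms of the Baby Monster (helper465, S3876, SPORADIC B)

`inv3_b`, from `PiBSTau.bad_all` for the model `BabyM.Inst.M` (`C = 2^{1+22}.Co2`) and `H518.PiB.i3_co2`.
-/

set_option autoImplicit false
set_option maxRecDepth 100000

namespace Cfsg.Agent.H465.SporB.BB

open Subgroup Cfsg Cfsg.Agent.H799.PiBS Cfsg.Agent.BabyM Cfsg.Agent.BabyM.Model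

section

variable {W : Type} [AddCommGroup W] [Module ℚ W] {M : BData W} {K₀ : Type} [Group K₀]

/-- the data in the group of the model -/
theorem data (H : BGroup M K₀) (hCG : M.C ≤ M.G) (t3 : M.τ * M.τ * M.τ = 1) (tz : M.τ * M.z * M.τ⁻¹ ∈ M.Q)
    (tz_ne : M.τ * M.z * M.τ⁻¹ ≠ M.z) (hτ : M.τ ∈ M.G) {e : W ≃ₗ[ℚ] W} (he : e ∈ M.Q) (hi : e * M.τ * e⁻¹ = M.τ⁻¹) :
    Tau.Data (M.C.subgroupOf M.G) (M.Q.subgroupOf M.G) (⟨M.z, hCG (H.Q_le H.z_mem)⟩ : M.G) ⟨M.τ, hτ⟩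
      ⟨e, hCG (H.Q_le he)⟩ where
  le := fun x hx => H.Q_le hx
  zQ := H.z_mem
  z_ne := fun h => H.z_ne (congrArg Subtype.val h)
  z_sq := Subtype.ext H.z_sq
  cen := fun g hg => Subtype.ext (H.z_comm g hg)
  comm := fun x hx y hy => (H.Q_comm x hx y hy).imp (fun h => Subtype.ext h) (fun h => Subtype.ext h)
  nrm := fun g hg q hq => H.Q_normal g hg q hq
  center := fun x hx h => (H.Q_center x hx (fun y hy =>
    congrArg Subtype.val (h ⟨y, hCG (H.Q_le hy)⟩ hy))).imp (fun h => Subtype.ext h) (fun h => Subtype.ext h)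
  irr := by
    intro N hN hn
    have hmem : ∀ x : W ≃ₗ[ℚ] W, x ∈ N.map M.G.subtype ↔ ∃ y ∈ N, (y : W ≃ₗ[ℚ] W) = x := fun x => Subgroup.mem_map
    rcases H.Q_irred (N.map M.G.subtype) (by
        intro x hx
        obtain ⟨y, hy, rfl⟩ := (hmem x).1 hx
        exact hN hy) (by
        intro g hg n hn'
        obtain ⟨y, hy, rfl⟩ := (hmem n).1 hn'
        exact (hmem _).2 ⟨⟨g, hCG hg⟩ * y * ⟨g, hCG hg⟩⁻¹, hn ⟨g, hCG hg⟩ hg y hy, rfl⟩) with h1 | h1
    · left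
      intro n hn
      exact (h1 n ((hmem _).2 ⟨n, hn, rfl⟩)).imp (fun h => Subtype.ext h) (fun h => Subtype.ext h)
    · right
      refine le_antisymm hN fun x hx => ?_
      have h2 : (x : W ≃ₗ[ℚ] W) ∈ N.map M.G.subtype := by rw [h1]; exact hx
      obtain ⟨y, hy, h3⟩ := (hmem _).1 h2
      have : y = x := Subtype.ext h3
      rwa [← this]
  t3 := Subtype.ext t3
  tz := tz
  tz_ne := fun h => tz_ne (congrArg Subtype.val h)
  eQ := he
  e_inv := Subtype.ext hi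

end

/-- **all involutions of the model are bad** -/
theorem bad_model {u : Inst.M.G} (hu : u * u = 1) (h1 : u ≠ 1) : Bad (MulAut.conj u) := by
  have A := Instance.all
  have H := A.grp
  have hB := Instance.isB
  have hfin : Finite Inst.M.G := Nat.finite_of_card_ne_zero (by rw [hB.2]; norm_num)
  have D := data H A.C_le_G A.orb.τ_cube A.orb.τ_z A.orb.τ_z_ne A.τ_mem_G
    (e := Conc.E .X10) (Conc.E_mem_Q rfl) Cfsg.Agent.BabyM.ConcGrp.e_inv
  refine Tau.bad_all D ?_ ?_ hu h1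
  · have h2 := (Inst.M.C.subgroupOf Inst.M.G).card_mul_index
    rw [hB.2, Nat.card_congr (subgroupOfEquivOfLe A.C_le_G).toEquiv, H.card_C] at h2
    have h3 : (Inst.M.C.subgroupOf Inst.M.G).index = 11707448673375 := by
      have h4 : 2 ^ 23 * 42305421312000 * (Inst.M.C.subgroupOf Inst.M.G).index =
        2 ^ 23 * 42305421312000 * 11707448673375 := by rw [h2]; norm_num
      exact Nat.eq_of_mul_eq_mul_left (by norm_num) h4
    rw [h3]
    decide
  · intro v hv hvv hvQ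
    obtain ⟨π, hπ, hker⟩ := H.quot
    obtain ⟨x, hx⟩ : ∃ x : Inst.M.C, (x : Conc.V ≃ₗ[ℚ] Conc.V) = v := ⟨⟨v, hv⟩, rfl⟩
    have h2 : orderOf (π x) = 2 := by
      have : Fact (Nat.Prime 2) := ⟨Nat.prime_two⟩
      refine orderOf_eq_prime ?_ ?_
      · rw [← map_pow, pow_two]
        have h3 : x * x = 1 := Subtype.ext (by
          show (x : Conc.V ≃ₗ[ℚ] Conc.V) * x = 1
          rw [hx]
          exact congrArg Subtype.val hvv)
        rw [h3, map_one]
      · intro h3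
        apply hvQ
        show (v : Conc.V ≃ₗ[ℚ] Conc.V) ∈ Inst.M.Q
        rw [← hx]
        exact (hker x).1 h3
    obtain ⟨g, g1, g2, g3⟩ := H518.PiB.i3_co2
      (by rw [SporadicStructure.Co2RankThree.norm_eq]; exact GroupInst.dt_l₀) h2
    obtain ⟨m, rfl⟩ := hπ g
    -- the commutator
    refine ⟨⟨m, A.C_le_G m.2⟩, ?_⟩
    have h4 : π (x * m * x⁻¹ * m⁻¹) = π m := by
      rw [map_mul, map_mul, map_mul, map_inv, map_inv, g3]
      rw [← mul_inv_rev, inv_eq_iff_mul_eq_one]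
      exact g1
    have h5 : orderOf (π m) = 3 := by
      have : Fact (Nat.Prime 3) := ⟨Nat.prime_three⟩
      exact orderOf_eq_prime (by rw [pow_succ, pow_two]; exact g1) g2
    have h6 : 3 ∣ orderOf (x * m * x⁻¹ * m⁻¹) := by
      rw [← h5, ← h4]
      exact orderOf_map_dvd _ _
    have h7 : orderOf (MulAut.conj v (⟨m, A.C_le_G m.2⟩ : Inst.M.G) * (⟨m, A.C_le_G m.2⟩ : Inst.M.G)⁻¹) =
        orderOf (x * m * x⁻¹ * m⁻¹) := by
      rw [← Subgroup.orderOf_coe, ← Subgroup.orderOf_coe (x * m * x⁻¹ * m⁻¹)]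
      congr 1
      show (v : Conc.V ≃ₗ[ℚ] Conc.V) * m * (v : Conc.V ≃ₗ[ℚ] Conc.V)⁻¹ * (m : Conc.V ≃ₗ[ℚ] Conc.V)⁻¹ =
        (x : Conc.V ≃ₗ[ℚ] Conc.V) * m * (x : Conc.V ≃ₗ[ℚ] Conc.V)⁻¹ * (m : Conc.V ≃ₗ[ℚ] Conc.V)⁻¹
      rw [hx]
    rw [h7]
    exact h6

theorem center_b : center Spor.BabyMonster = ⊥ := by
  have h0 : IsB Spor.BabyMonster := S1704.result
  have := h0.1
  have : Finite Spor.BabyMonster := Nat.finite_of_card_ne_zero (by rw [h0.2]; norm_num)
  refine center_bot ?_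
  rw [h0.2]
  intro hp
  have h2 : 2 ∣ 4154781481226426191177580544000000 := by norm_num
  have h3 := (Nat.prime_dvd_prime_iff_eq Nat.prime_two hp).1 h2
  norm_num at h3

theorem inv3_b_model : Inv3 Spor.BabyMonster := by
  refine Inv3.of_inner center_b (fun x => CpAut.TwoInner.inner_b x) fun t ht ht1 => ?_
  let f := BM.KHAll.iso
  obtain ⟨a, ha⟩ := bad_model (u := f t) (by rw [← map_mul, ht, map_one]) (fun h => ht1 (f.map_eq_one_iff.1 h))
  refine ⟨f.symm a, ?_⟩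
  have e : f (MulAut.conj t (f.symm a) * (f.symm a)⁻¹) = MulAut.conj (f t) a * a⁻¹ := by
    rw [MulAut.conj_apply, MulAut.conj_apply, map_mul, map_mul, map_mul, map_inv, map_inv, f.apply_symm_apply]
  rw [← MulEquiv.orderOf_eq f, e]
  exact ha

universe u

/-- **`B`** -/
theorem inv3_b {K : Type u} [Group K] (h : Spor.IsoB K) : Inv3 K := Inv3.congr h.some inv3_b_model

end Cfsg.Agent.H465.SporB.BB
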