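import Cfsg.Agent.H469.PiBS.Def
import Cfsg.Agent.Involutions.BaerSuzuki

/-!
# The end of the rows of S3876 (π-Baer–Suzuki): `π` meets `|Aut S|` in one prime (helper465)
-/

set_option autoImplicit false
set_option linter.unusedSectionVars false

namespace Cfsg.Agent.H469.PiBS

open Cfsg Subgroup

universe u

variable {π : Set ℕ} {S : Type u} [Group S] [Finite S] {A : Subgroup (MulAut S)} {x : MulAut S} {l : ℕ}

/-- if `l` is the only prime of `π` dividing `|Aut S|`, `S` nonabelian simple: contradiction (Baer–Suzuki). -/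
theorem Hyp.false_of_unique (h : Hyp π A x l) [IsSimpleGroup S] (hna : ¬ IsMulCommutative S)
    (hu : ∀ p : ℕ, p.Prime → p ∈ π → p ∣ Nat.card (MulAut S) → p = l) : False := by
  classical
  have hl : Fact l.Prime := ⟨h.prime⟩
  have : Finite (MulAut S) := inferInstance
  have hlg : ∀ K : Subgroup (MulAut S), IsPiSubgroup π K → IsPGroup l K := by
    intro K hK
    rw [IsPGroup.iff_card]
    exact ⟨_, Nat.eq_prime_pow_of_unique_prime_dvd Nat.card_pos.ne' fun {d} hd hdK =>
      hu d hd (hK d hd hdK) (hdK.trans (Subgroup.card_subgroup_dvd_card K))⟩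
  -- Baer–Suzuki in `A`
  have hBS : IsPGroup l (normalClosure {(⟨x, h.mem⟩ : A)} : Subgroup A) := by
    refine Cfsg.Agent.Involutions.BaerSuzuki.baer_suzuki_element _ fun g => ?_
    have h1 := hlg _ (h.pairs 1 (one_mem A) g g.2)
    rw [one_mul, inv_one, mul_one] at h1
    refine (h1.comap_of_injective A.subtype A.subtype_injective).to_le ?_
    rw [closure_le]
    rintro y (rfl | hy)
    · exact subset_closure (Or.inl rfl)
    · rw [Set.mem_singleton_iff] at hy
      subst hy
      exact subset_closure (Or.inr rfl)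
  set N : Subgroup A := normalClosure {(⟨x, h.mem⟩ : A)} with hN
  have hxN : (⟨x, h.mem⟩ : A) ∈ N := subset_normalClosure (by simp)
  have hNn : N.Normal := normalClosure_normal
  -- the inner automorphisms
  let ι : S →* A := MonoidHom.codRestrict (MulAut.conj : S →* MulAut S) A h.inn
  have hι : ∀ s : S, (ι s : MulAut S) = MulAut.conj s := fun s => rfl
  have hZ : center S = ⊥ := by
    rcases (IsSimpleGroup.eq_bot_or_eq_top_of_normal (center S) inferInstance) with h1 | h1
    · exact h1
    · exfalso
      refine hna ⟨⟨fun a b => ?_⟩⟩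
      have : b ∈ center S := by rw [h1]; trivial
      exact (mem_center_iff.1 this) a
  have hinj : Function.Injective ι := by
    intro a b hab
    exact conj_injective hZ (congrArg Subtype.val hab)
  rcases (IsSimpleGroup.eq_bot_or_eq_top_of_normal (N.comap ι) inferInstance) with h1 | h1
  · -- `x` centralises `S`
    refine h.ne_one (MulEquiv.ext fun s => ?_)
    have h2 : x s * s⁻¹ ∈ N.comap ι := by
      rw [mem_comap]
      have h3 : ι (x s * s⁻¹) = (⟨x, h.mem⟩ : A) * ((ι s) * (⟨x, h.mem⟩ : A)⁻¹ * (ι s)⁻¹) := by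
        apply Subtype.ext
        show MulAut.conj (x s * s⁻¹) = x * (MulAut.conj s * x⁻¹ * (MulAut.conj s)⁻¹)
        ext t
        simp only [MulAut.conj_apply, MulAut.mul_apply, map_mul, map_inv, MulAut.apply_inv_self, mul_inv_rev, inv_inv,
          MulAut.conj_inv_apply]
      rw [h3]
      exact mul_mem hxN (hNn.conj_mem _ (inv_mem hxN) _)
    rw [h1, mem_bot] at h2
    rw [MulAut.one_apply]
    exact mul_inv_eq_one.1 h2
  · -- `S` is an `l`-group
    have h2 : IsPGroup l S := by
      have h3 : IsPGroup l ι.range := hBS.to_le (by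
        rintro _ ⟨s, rfl⟩
        have : s ∈ N.comap ι := by rw [h1]; trivial
        exact this)
      exact h3.of_equiv (MonoidHom.ofInjective hinj).symm
    have h3 : Nontrivial S := inferInstance
    have h4 : Nontrivial (center S) := h2.center_nontrivial
    rw [hZ] at h4
    exact not_nontrivial _ h4

end Cfsg.Agent.H469.PiBS
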