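import Cfsg.Agent.H799.PiBS.Inv3
import Cfsg.Agent.H842.RadTwoA
import Cfsg.Agent.H842.RadTwoB
import Cfsg.Agent.H842.RadTwoD
import Cfsg.Agent.R08.FiTwentyThree

/-!
# Involutory automorphisms of the Fischer groups (helper465, S3876, SPORADIC B)

* `exists_inv` : an involutory automorphism preserving a set of 3-transpositions (with the link property) is trivial on
  it or inverts an element of order three which is a product of products of two of them;
* `inv3_fi22`, `inv3_fi23`, `inv3_fi24`.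
-/

set_option autoImplicit false

namespace Cfsg.Agent.H465.SporB.Fi

open Subgroup Cfsg Cfsg.Agent.H799.PiBS

section Gen

variable {F : Type*} [Group F]

/-- 3-transpositions with the link property -/
structure ThreeT (L : Set F) : Prop where
  sq : ∀ a ∈ L, a * a = 1
  three : ∀ a ∈ L, ∀ b ∈ L, a * b = b * a ∨ (a * b) ^ 3 = 1
  link : ∀ a ∈ L, ∀ b ∈ L, a ≠ b → a * b = b * a → ∃ c ∈ L, c * a = a * c ∧ c * b ≠ b * c

variable {L : Set F} {N : Subgroup F}

theorem exists_inv (h : ThreeT L) (hN : ∀ a ∈ L, ∀ b ∈ L, a * b ∈ N) (x : F →* F) (hxx : ∀ a, x (x a) = a)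
    (hx : ∀ a ∈ L, x a ∈ L) : (∀ a ∈ L, x a = a) ∨ ∃ y ∈ N, y ^ 3 = 1 ∧ y ≠ 1 ∧ x y = y⁻¹ := by
  have key : ∀ d ∈ L, x d * d ≠ d * x d → ∃ y ∈ N, y ^ 3 = 1 ∧ y ≠ 1 ∧ x y = y⁻¹ := by
    intro d hd hne
    refine ⟨x d * d, hN _ (hx d hd) _ hd, ?_, ?_, ?_⟩
    · rcases h.three _ (hx d hd) _ hd with h1 | h1
      · exact absurd h1 hne
      · exact h1
    · intro h1
      apply hne
      have h2 : x d = d⁻¹ := eq_inv_of_mul_eq_one_left h1
      rw [h2, inv_mul_cancel, mul_inv_cancel]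
    · rw [map_mul, hxx, mul_inv_rev, inv_eq_of_mul_eq_one_left (h.sq _ hd),
        inv_eq_of_mul_eq_one_left (h.sq _ (hx d hd))]
  by_cases hc : ∀ d ∈ L, x d * d = d * x d
  swap
  · push Not at hc
    obtain ⟨d, hd, h1⟩ := hc
    exact Or.inr (key d hd h1)
  by_cases hf : ∀ a ∈ L, x a = a
  · exact Or.inl hf
  right
  push Not at hf
  obtain ⟨a, ha, hne⟩ := hf
  have hb := hx a ha
  obtain ⟨e, he, hea, heb⟩ := h.link a ha (x a) hb (Ne.symm hne) (hc a ha).symm
  have hfL := hx e he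
  have hfb : x e * x a = x a * x e := by rw [← map_mul, hea, map_mul]
  have hfa : x e * a ≠ a * x e := by
    intro h1
    apply heb
    have h2 := congrArg x h1
    rw [map_mul, map_mul, hxx] at h2
    exact h2
  have hfe := hc e he
  have hba := hc a ha
  have h3 : (x a * e) ^ 3 = 1 := by
    rcases h.three _ hb _ he with h1 | h1
    · exact absurd h1.symm heb
    · exact h1
  have h4 : (x e * a) ^ 3 = 1 := by
    rcases h.three _ hfL _ ha with h1 | h1
    · exact absurd h1 hfa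
    · exact h1
  have c1 : Commute (x a * e) (x e * a) := by
    have e1 : Commute (x a) (x e) := hfb.symm
    have e2 : Commute (x a) a := hba
    have e3 : Commute e (x e) := hfe.symm
    have e4 : Commute e a := hea
    exact (e1.mul_right e2).mul_left (e3.mul_right e4)
  refine ⟨x a * x e * (e * a), N.mul_mem (hN _ hb _ hfL) (hN _ he _ ha), ?_, ?_, ?_⟩
  · have e1 : x a * x e * (e * a) = x a * e * (x e * a) := by
      calc x a * x e * (e * a) = x a * (x e * e) * a := by group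
        _ = x a * (e * x e) * a := by rw [hfe]
        _ = _ := by group
    rw [e1, c1.mul_pow, h3, h4, one_mul]
  · intro h1
    have e1 : x a * x e * (e * a) = x a * e * (x e * a) := by
      calc x a * x e * (e * a) = x a * (x e * e) * a := by group
        _ = x a * (e * x e) * a := by rw [hfe]
        _ = _ := by group
    rw [e1] at h1
    have h5 : x a * e = (x e * a)⁻¹ := eq_inv_of_mul_eq_one_left h1
    have e2 : Commute (x a) (x e * a) := (show Commute (x a) (x e) from hfb.symm).mul_right hba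
    have e3 : Commute (x a) (x a * e) := by rw [h5]; exact e2.inv_right
    apply heb
    have e4 : x a * (x a * e) = x a * e * x a := e3.eq
    have e5 : x a * (x a * e) = x a * (e * x a) := by rw [e4]; group
    exact (mul_left_cancel e5).symm
  · have i1 := inv_eq_of_mul_eq_one_left (h.sq _ ha)
    have i2 := inv_eq_of_mul_eq_one_left (h.sq _ he)
    have i3 := inv_eq_of_mul_eq_one_left (h.sq _ hb)
    have i4 := inv_eq_of_mul_eq_one_left (h.sq _ hfL)
    rw [map_mul, map_mul, map_mul, hxx, hxx, mul_inv_rev, mul_inv_rev, mul_inv_rev, i1, i2, i3, i4]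

/-- the link property from transitivity on commuting pairs -/
theorem link_of {a₀ b₀ c₀ : F} (hc₀ : c₀ ∈ L) (h1 : c₀ * b₀ = b₀ * c₀) (h2 : c₀ * a₀ ≠ a₀ * c₀)
    (hconj : ∀ g : F, ∀ c ∈ L, g * c * g⁻¹ ∈ L)
    (htr : ∀ a ∈ L, ∀ b ∈ L, a ≠ b → a * b = b * a → ∃ g : F, g * b₀ * g⁻¹ = a ∧ g * a₀ * g⁻¹ = b) :
    ∀ a ∈ L, ∀ b ∈ L, a ≠ b → a * b = b * a → ∃ c ∈ L, c * a = a * c ∧ c * b ≠ b * c := by
  intro a ha b hb hab hc
  obtain ⟨g, rfl, rfl⟩ := htr a ha b hb hab hc
  refine ⟨g * c₀ * g⁻¹, hconj g c₀ hc₀, ?_, ?_⟩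
  · calc g * c₀ * g⁻¹ * (g * b₀ * g⁻¹) = g * (c₀ * b₀) * g⁻¹ := by group
      _ = g * (b₀ * c₀) * g⁻¹ := by rw [h1]
      _ = _ := by group
  · intro h3
    apply h2
    calc c₀ * a₀ = g⁻¹ * (g * c₀ * g⁻¹ * (g * a₀ * g⁻¹)) * g := by group
      _ = g⁻¹ * (g * a₀ * g⁻¹ * (g * c₀ * g⁻¹)) * g := by rw [h3]
      _ = _ := by group

/-- the result for a group generated by 3-transpositions preserved by all automorphisms -/
theorem inv3_of (h : ThreeT L) (hgen : closure L = ⊤) (haut : ∀ x : MulAut F, ∀ a ∈ L, x a ∈ L) : Inv3 F := by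
  intro x hx
  have hxx : x * x = 1 := by rw [← pow_two, ← hx, pow_orderOf_eq_one]
  rcases exists_inv (N := ⊤) h (fun _ _ _ _ => mem_top _) x.toMonoidHom (fun a => DFunLike.congr_fun hxx a)
    (haut x) with h1 | ⟨y, -, h3, hy, h4⟩
  · exfalso
    have h2 : (⊤ : Subgroup F) ≤ MonoidHom.eqLocus x.toMonoidHom (MonoidHom.id F) := by
      rw [← hgen, closure_le]
      exact h1
    have h3 : x = 1 := by
      ext a
      exact h2 (mem_top a)
    rw [h3, orderOf_one] at hx
    omega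
  · exact Bad.of_inv h3 hy h4

end Gen

section Fi22

open Cfsg.Agent.R08.AutT (T tFacts)

theorem three22 : ThreeT T := by
  have kt := H842.RadTwo.kt
  obtain ⟨a, ha, b, hb, hab, hc⟩ := kt.pair
  obtain ⟨c, hcT, hca, -⟩ := tFacts.link a ha b hb hab hc
  obtain ⟨d, hd, hdc, hda, hdc', hda'⟩ := kt.nb c hcT a ha
  refine ⟨kt.sq, ?_, ?_⟩
  · intro x hx y hy
    rcases kt.three x hx y hy with h | h
    · exact Or.inl h
    · right
      have e1 : (x * y) ^ 3 = (x * y * x) * (y * x * y) := by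
        rw [pow_succ, pow_two]
        group
      rw [e1, h]
      calc y * x * y * (y * x * y) = y * x * (y * y) * x * y := by group
        _ = y * (x * x) * y := by rw [kt.sq y hy]; group
        _ = 1 := by rw [kt.sq x hx, mul_one, kt.sq y hy]
  · refine link_of (a₀ := a) (b₀ := d) (c₀ := c) hcT hdc'.symm hca kt.conj ?_
    intro x hx y hy hxy hxy'
    exact kt.trans2 d hd a ha x hx y hy hda hxy hda' hxy'

theorem inv3_fi22_model : Inv3 Spor.Fi22 :=
  inv3_of three22 H842.RadTwo.kt.gen H842.RadTwo.kt.aut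

end Fi22

section Fi23

open Cfsg.Spor Cfsg.Agent.R08.FiTwentyThree

theorem three23 : ThreeT D := by
  have hza : (Cfsg.Agent.Fischer.Fi23Hom.gen .a : Fi23) * Cfsg.Agent.Fischer.Fi23Z.z0
      = Cfsg.Agent.Fischer.Fi23Z.z0 * Cfsg.Agent.Fischer.Fi23Hom.gen .a :=
    (mem_K_iff _).1 (Cfsg.Agent.Fischer.Fi23Class.gen_mem_K .a (by decide))
  refine ⟨fun a ha => sq_D ha, fun a ha b hb => three_D ha hb, ?_⟩
  refine link_of (a₀ := Cfsg.Agent.Fischer.Fi23Z.z0) (b₀ := Cfsg.Agent.Fischer.Fi23Hom.gen .a)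
    (c₀ := Cfsg.Agent.Fischer.Fi23Hom.gen .j) (gen_mem_D .j)
    (Cfsg.Agent.Fischer.Fi23Class.gen_comm .j .a (by decide)) (fun h => Cfsg.Agent.Fischer.Fi23Class.z0_ncomm h.symm)
    (fun g c hc => conj_mem_D hc g) ?_
  intro a ha b hb hab hc
  obtain ⟨g, rfl⟩ := isConj_iff.1 (show IsConj Cfsg.Agent.Fischer.Fi23Z.z0 b from hb)
  have h1 : g⁻¹ * a * g ∈ D ∧ g⁻¹ * a * g ≠ Cfsg.Agent.Fischer.Fi23Z.z0 ∧
      g⁻¹ * a * g * Cfsg.Agent.Fischer.Fi23Z.z0 = Cfsg.Agent.Fischer.Fi23Z.z0 * (g⁻¹ * a * g) := by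
    refine ⟨?_, ?_, ?_⟩
    · have := conj_mem_D ha g⁻¹
      rwa [inv_inv] at this
    · intro h2
      apply hab
      rw [← h2]
      group
    · calc g⁻¹ * a * g * Cfsg.Agent.Fischer.Fi23Z.z0 = g⁻¹ * (a * (g * Cfsg.Agent.Fischer.Fi23Z.z0 * g⁻¹)) * g := by
            group
        _ = g⁻¹ * (g * Cfsg.Agent.Fischer.Fi23Z.z0 * g⁻¹ * a) * g := by rw [hc]
        _ = _ := by group
  obtain ⟨k, hk, h2⟩ := commuting_iff.1 h1
  refine ⟨g * k, ?_, ?_⟩
  · calc g * k * Cfsg.Agent.Fischer.Fi23Hom.gen .a * (g * k)⁻¹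
        = g * (k * Cfsg.Agent.Fischer.Fi23Hom.gen .a * k⁻¹) * g⁻¹ := by group
      _ = g * (g⁻¹ * a * g) * g⁻¹ := by rw [h2]
      _ = a := by group
  · have h3 := (mem_K_iff k).1 hk
    calc g * k * Cfsg.Agent.Fischer.Fi23Z.z0 * (g * k)⁻¹ = g * (k * Cfsg.Agent.Fischer.Fi23Z.z0) * k⁻¹ * g⁻¹ := by group
      _ = g * (Cfsg.Agent.Fischer.Fi23Z.z0 * k) * k⁻¹ * g⁻¹ := by rw [h3]
      _ = _ := by group

theorem inv3_fi23_model : Inv3 Spor.Fi23 := by
  refine inv3_of three23 isThreeTranspositionClass.2.2 fun x a ha => ?_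
  obtain ⟨g, rfl⟩ := KFacts.FiTTh.Has.inn x
  exact conj_mem_D ha g

end Fi23

section Fi24

open Cfsg.Spor Cfsg.Agent.R08 Cfsg.Agent.R08.FiTwentyFour

theorem three24 : ThreeT L := by
  have h3 : ∀ a ∈ L, ∀ b ∈ L, a * b = b * a ∨ (a * b) ^ 3 = 1 := by
    intro x hx y hy
    rcases FiTwentyFour.three hx hy with h | h
    · exact Or.inl h
    · right
      have e1 : (x * y) ^ 3 = (x * y * x) * (y * x * y) := by
        rw [pow_succ, pow_two]
        group
      rw [e1, h]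
      calc y * x * y * (y * x * y) = y * x * (y * y) * x * y := by group
        _ = y * (x * x) * y := by rw [FiTwentyFour.sq hy]; group
        _ = 1 := by rw [FiTwentyFour.sq hx, mul_one, FiTwentyFour.sq hy]
  -- a path of length two
  obtain ⟨a₀, ha₀, b₀, hb₀, c₀, hc₀, h1, h2, hac⟩ : ∃ a₀ ∈ L, ∃ b₀ ∈ L, ∃ c₀ ∈ L, Commute b₀ a₀ ∧ Commute c₀ b₀ ∧
      ¬ Commute c₀ a₀ := by
    by_contra hcon
    push Not at hcon
    have hg : ∀ y, Fischer.Fi24Class.gen y ∈ L := FiTwentyFour.gen_mem_L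
    have hcm : ∀ y z, coxLabel Fi24.edges y z = 2 → Commute (Fischer.Fi24Class.gen y) (Fischer.Fi24Class.gen z) :=
      fun y z hyz => Fischer.Fi24Class.gen_comm y z hyz
    apply FiTwentyFour.odd (hg .l)
    have h1 : Fischer.Fi24Class.gen .l = 1 := by
      apply KFacts.FiTF.Pts.eq_one_of_comm
      intro y
      have h2 : Commute (Fischer.Fi24Class.gen y) (Fischer.Fi24Class.gen .l) := by
        by_cases hy : y = .k
        · subst hy
          exact hcon _ (hg .l) _ (hg .b) _ (hg .k) (hcm _ _ (by decide)) (hcm _ _ (by decide))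
        · by_cases hy' : y = .l
          · subst hy'; exact Commute.refl _
          · exact hcm _ _ (by
              revert hy hy'
              cases y <;> decide)
      exact h2.symm.eq
    rw [h1]
    exact one_mem _
  have hne : b₀ ≠ a₀ := by
    rintro rfl
    exact hac h2
  refine ⟨fun a ha => FiTwentyFour.sq ha, h3, link_of (a₀ := a₀) (b₀ := b₀) (c₀ := c₀) hc₀ h2 hac
    (fun g c hc => FiTwentyFour.conj hc g) ?_⟩
  intro a ha b hb hab hc
  obtain ⟨g, -, e1, e2⟩ := FiTwentyFour.trans2 hb₀ ha₀ ha hb hne h1 hab hc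
  exact ⟨g, e1, e2⟩

theorem inv3_fi24_model : Inv3 Spor.Fi24' := by
  intro x hx
  obtain ⟨g, hg⟩ := KFacts.FiTF.exists_conj x
  have hxx : x * x = 1 := by rw [← pow_two, ← hx, pow_orderOf_eq_one]
  have hgg : g * g = 1 := by
    apply H842.RadTwo.eq_one_of_comm
    intro k hk
    have h1 : x (x ⟨k, hk⟩) = ⟨k, hk⟩ := DFunLike.congr_fun hxx ⟨k, hk⟩
    have h2 := congrArg Subtype.val h1
    rw [hg, hg] at h2
    have h3 : g * (g * k * g⁻¹) * g⁻¹ = k := h2
    calc g * g * k = g * (g * k * g⁻¹) * g⁻¹ * (g * g) := by group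
      _ = k * (g * g) := by rw [h3]
  have hgi : g⁻¹ = g := inv_eq_of_mul_eq_one_left hgg
  have hgx : ∀ a, (MulAut.conj g).toMonoidHom ((MulAut.conj g).toMonoidHom a) = a := by
    intro a
    show g * (g * a * g⁻¹) * g⁻¹ = a
    rw [hgi]
    calc g * (g * a * g) * g = g * g * a * (g * g) := by group
      _ = a := by rw [hgg, one_mul, mul_one]
  rcases exists_inv (N := commutator Fi24) three24 (fun a ha b hb => FiTwentyFour.even ha hb)
    (MulAut.conj g).toMonoidHom hgx (fun a ha => FiTwentyFour.conj ha g) with h1 | ⟨y, hyN, h3, hy, h4⟩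
  · exfalso
    have h2 : g = 1 := by
      apply KFacts.FiTF.Pts.eq_one_of_comm
      intro y
      have h3 : g * Fischer.Fi24Class.gen y * g⁻¹ = Fischer.Fi24Class.gen y := h1 _ (FiTwentyFour.gen_mem_L y)
      show g * Fischer.Fi24Class.gen y = Fischer.Fi24Class.gen y * g
      calc g * Fischer.Fi24Class.gen y = g * Fischer.Fi24Class.gen y * g⁻¹ * g := by group
        _ = _ := by rw [h3]
    have h3 : x = 1 := by
      ext k
      rw [hg, h2]
      simp
    rw [h3, orderOf_one] at hx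
    omega
  · refine Bad.of_inv (y := ⟨y, hyN⟩) (Subtype.ext h3) (fun h => hy (congrArg Subtype.val h)) (Subtype.ext ?_)
    rw [hg]
    exact h4

end Fi24

universe u

variable {K : Type u} [Group K]

/-- **`Fi22`** -/
theorem inv3_fi22 (h : Spor.IsoFi22 K) : Inv3 K := Inv3.congr h.some inv3_fi22_model

/-- **`Fi23`** -/
theorem inv3_fi23 (h : Spor.IsoFi23 K) : Inv3 K := Inv3.congr h.some inv3_fi23_model

/-- **`Fi24'`** -/
theorem inv3_fi24 (h : Spor.IsoFi24' K) : Inv3 K := Inv3.congr h.some inv3_fi24_model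

end Cfsg.Agent.H465.SporB.Fi
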