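import Cfsg.Agent.H465.PiBSSporB
import Cfsg.Agent.H153.ZerosSuz
import Cfsg.Agent.H296.Fr.RowRu
import Cfsg.Agent.H109.NrCo
import Cfsg.Agent.H569.PD.Fi22
import Cfsg.Agent.H841.PB.FiTwentyThreeA
import Cfsg.Agent.H187.FiOdd.Cent
import Cfsg.Agent.H468.PW.Th
import Cfsg.Agent.H630.NHBabyC
import Cfsg.Agent.NotCT.Orders

/-!
# `Kill S` for the sporadic groups (helper465, for S3876)

The order of `S` is divisible by no `|Sz(2^(2m+1))|`, or only by `|Sz(8)|` and there are no commuting elements of orders 13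
and 5 (or 7).
-/

set_option autoImplicit false
set_option linter.unusedSectionVars false
set_option linter.style.haveILetI false

universe u

namespace Cfsg.Agent.H465.SporB

open Subgroup Cfsg

/-! ### Elements of two prime orders -/

theorem NC.of_cent {S : Type*} [Group S] [Finite S] {r s : ℕ}
    (h : ∀ y : S, orderOf y = r → ¬ s ∣ Nat.card ↥(centralizer ({y} : Set S))) : NC r s S := by
  intro y z hy hz hyz
  apply h y hy
  have h1 : z ∈ centralizer ({y} : Set S) := mem_centralizer_singleton_iff.2 hyz.symm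
  rw [← hz]
  exact Subgroup.orderOf_dvd_natCard _ h1

theorem NC.symm {S : Type*} [Group S] {r s : ℕ} (h : NC r s S) : NC s r S := fun y z hy hz hyz =>
  h z y hz hy hyz.symm

theorem NC.congr {S T : Type*} [Group S] [Group T] [Finite T] {r s : ℕ} (h : NC r s T) (e : S ≃* T) : NC r s S :=
  fun y z hy hz hyz => h (e y) (e z) (by rw [MulEquiv.orderOf_eq, hy]) (by rw [MulEquiv.orderOf_eq, hz])
    (by rw [← map_mul, hyz, map_mul])

variable {S : Type u} [Group S] [Finite S]

/-! ### No Suzuki group -/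

theorem kill_m11 (h : Spor.IsoM11 S) : Kill S := by
  have hN := NotCT.Orders.m11 h
  refine Kill.of_not_dvd (K := 5) (by rw [hN]; norm_num) fun m h1 h2 => ?_
  omega

theorem kill_m12 (h : Spor.IsoM12 S) : Kill S := by
  have hN := NotCT.Orders.m12 h
  refine Kill.of_not_dvd (K := 7) (by rw [hN]; norm_num) fun m h1 h2 => ?_
  obtain rfl : m = 1 := by omega
  rw [hN]; norm_num [szc]

theorem kill_m22 (h : Spor.IsoM22 S) : Kill S := by
  have hN := NotCT.Orders.m22 h
  refine Kill.of_not_dvd (K := 8) (by rw [hN]; norm_num) fun m h1 h2 => ?_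
  obtain rfl : m = 1 := by omega
  rw [hN]; norm_num [szc]

theorem kill_m23 (h : Spor.IsoM23 S) : Kill S := by
  have hN := NotCT.Orders.m23 h
  refine Kill.of_not_dvd (K := 8) (by rw [hN]; norm_num) fun m h1 h2 => ?_
  obtain rfl : m = 1 := by omega
  rw [hN]; norm_num [szc]

theorem kill_m24 (h : Spor.IsoM24 S) : Kill S := by
  have hN := NotCT.Orders.m24 h
  refine Kill.of_not_dvd (K := 11) (by rw [hN]; norm_num) fun m h1 h2 => ?_
  have : m ≤ 2 := by omega
  rw [hN]
  interval_cases m <;> norm_num [szc]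

theorem kill_j1 (h : Spor.IsoJ1 S) : Kill S := by
  have hN := NotCT.Orders.j1 h
  refine Kill.of_not_dvd (K := 4) (by rw [hN]; norm_num) fun m h1 h2 => ?_
  omega

theorem kill_j2 (h : Spor.IsoJ2 S) : Kill S := by
  have hN := NotCT.Orders.j2 h
  refine Kill.of_not_dvd (K := 8) (by rw [hN]; norm_num) fun m h1 h2 => ?_
  obtain rfl : m = 1 := by omega
  rw [hN]; norm_num [szc]

theorem kill_j3 (h : Spor.IsoJ3 S) : Kill S := by
  have hN := NotCT.Orders.j3 h
  refine Kill.of_not_dvd (K := 8) (by rw [hN]; norm_num) fun m h1 h2 => ?_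
  obtain rfl : m = 1 := by omega
  rw [hN]; norm_num [szc]

theorem kill_j4 (h : Spor.IsoJ4 S) : Kill S := by
  have hN := NotCT.Orders.j4 h
  refine Kill.of_not_dvd (K := 22) (by rw [hN]; norm_num) fun m h1 h2 => ?_
  have : m ≤ 4 := by omega
  rw [hN]
  interval_cases m <;> norm_num [szc]

theorem kill_hs (h : Spor.IsoHS S) : Kill S := by
  have hN := NotCT.Orders.hs h
  refine Kill.of_not_dvd (K := 10) (by rw [hN]; norm_num) fun m h1 h2 => ?_
  obtain rfl : m = 1 := by omega
  rw [hN]; norm_num [szc]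

theorem kill_he (h : Spor.IsoHe S) : Kill S := by
  have hN := NotCT.Orders.he h
  refine Kill.of_not_dvd (K := 11) (by rw [hN]; norm_num) fun m h1 h2 => ?_
  have : m ≤ 2 := by omega
  rw [hN]
  interval_cases m <;> norm_num [szc]

theorem kill_mcl (h : Spor.IsoMcL S) : Kill S := by
  have hN := NotCT.Orders.mcl h
  refine Kill.of_not_dvd (K := 8) (by rw [hN]; norm_num) fun m h1 h2 => ?_
  obtain rfl : m = 1 := by omega
  rw [hN]; norm_num [szc]

theorem kill_ly (h : Spor.IsoLy S) : Kill S := by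
  have hN := NotCT.Orders.ly h
  refine Kill.of_not_dvd (K := 9) (by rw [hN]; norm_num) fun m h1 h2 => ?_
  obtain rfl : m = 1 := by omega
  rw [hN]; norm_num [szc]

theorem kill_on (h : Spor.IsoON S) : Kill S := by
  have hN := NotCT.Orders.on h
  refine Kill.of_not_dvd (K := 10) (by rw [hN]; norm_num) fun m h1 h2 => ?_
  obtain rfl : m = 1 := by omega
  rw [hN]; norm_num [szc]

theorem kill_co2 (h : Spor.IsoCo2 S) : Kill S := by
  have hN := NotCT.Orders.co2 h
  refine Kill.of_not_dvd (K := 19) (by rw [hN]; norm_num) fun m h1 h2 => ?_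
  have : m ≤ 4 := by omega
  rw [hN]
  interval_cases m <;> norm_num [szc]

theorem kill_co3 (h : Spor.IsoCo3 S) : Kill S := by
  have hN := NotCT.Orders.co3 h
  refine Kill.of_not_dvd (K := 11) (by rw [hN]; norm_num) fun m h1 h2 => ?_
  have : m ≤ 2 := by omega
  rw [hN]
  interval_cases m <;> norm_num [szc]

theorem kill_hn (h : Spor.IsoHN S) : Kill S := by
  have hN := NotCT.Orders.hn h
  refine Kill.of_not_dvd (K := 15) (by rw [hN]; norm_num) fun m h1 h2 => ?_
  have : m ≤ 3 := by omega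
  rw [hN]
  interval_cases m <;> norm_num [szc]

theorem kill_tits (h : Lie.IsoTits S) : Kill S := by
  have hN := NotCT.Orders.tits h
  refine Kill.of_not_dvd (K := 12) (by rw [hN]; norm_num) fun m h1 h2 => ?_
  have : m ≤ 2 := by omega
  rw [hN]
  interval_cases m <;> norm_num [szc]

/-! ### `Sz(8)` -/

/-- numerical conditions for `s = 5`, `7` -/
theorem modEq_small {s a : ℕ} (h : (s = 5 ∧ (a = 2 ∨ a = 3)) ∨ (s = 7 ∧ (a = 2 ∨ a = 3))) :
    ∀ j, j ≤ a → a ≤ j + 1 → ¬ s ^ j ≡ 1 [MOD 13] := by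
  intro j h1 h2
  rcases h with ⟨rfl, rfl | rfl⟩ | ⟨rfl, rfl | rfl⟩
  · have : j = 1 ∨ j = 2 := by omega
    rcases this with rfl | rfl <;> decide
  · have : j = 2 ∨ j = 3 := by omega
    rcases this with rfl | rfl <;> decide
  · have : j = 1 ∨ j = 2 := by omega
    rcases this with rfl | rfl <;> decide
  · have : j = 2 ∨ j = 3 := by omega
    rcases this with rfl | rfl <;> decide

theorem kill_suz (h : Spor.IsoSuz S) : Kill S := by
  have hN := NotCT.Orders.suz h
  obtain ⟨e⟩ := h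
  have hfin : Finite Spor.Suz := Finite.of_equiv S e.toEquiv
  have hNC : NC 13 5 Spor.Suz := NC.of_cent fun y hy => by
    rw [H153.Zeros.card_cent_suz hy]; norm_num
  refine Kill.of_thirteen (K := 14) (by rw [hN]; norm_num) (fun m h1 h2 => ?_) (by rw [hN]; norm_num)
    (s := 5) (a := 2) (Or.inl rfl) (hNC.congr e) (by rw [hN]; norm_num) (by rw [hN]; norm_num)
    (modEq_small (Or.inl ⟨rfl, Or.inl rfl⟩))
  obtain rfl : m = 2 := by omega
  rw [hN]; norm_num [szc]

theorem kill_ru (h : Spor.IsoRu S) : Kill S := by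
  have hN := NotCT.Orders.ru h
  obtain ⟨e⟩ := h
  let f : S ≃* SporadicB.RuOrder.H := e.trans RuLat.Main.equiv
  have hfin : Finite SporadicB.RuOrder.H := Finite.of_equiv S f.toEquiv
  have hNC : NC 13 5 SporadicB.RuOrder.H := NC.of_cent fun y hy hd => by
    have h1 := hd.trans (H436.TwoRu.cent13 y hy)
    revert h1
    norm_num
  refine Kill.of_thirteen (K := 15) (by rw [hN]; norm_num) (fun m h1 h2 => ?_) (by rw [hN]; norm_num)
    (s := 5) (a := 3) (Or.inl rfl) (hNC.congr f) (by rw [hN]; norm_num) (by rw [hN]; norm_num)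
    (modEq_small (Or.inl ⟨rfl, Or.inr rfl⟩))
  have : m ≤ 3 := by omega
  rw [hN]
  interval_cases m <;> norm_num [szc]

theorem kill_co1 (h : Spor.IsoCo1 S) : Kill S := by
  have hN := NotCT.Orders.co1 h
  obtain ⟨e⟩ := h
  have hfin : Finite Spor.Co1 := Finite.of_equiv S e.toEquiv
  have hNC : NC 13 7 Spor.Co1 := NC.of_cent fun y hy hd => by
    have h1 := (hd.mul_left 2).trans (H109.Nr.Co.card_cent_co1 hy)
    revert h1
    norm_num
  refine Kill.of_thirteen (K := 22) (by rw [hN]; norm_num) (fun m h1 h2 => ?_) (by rw [hN]; norm_num)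
    (s := 7) (a := 2) (Or.inr rfl) (hNC.congr e) (by rw [hN]; norm_num) (by rw [hN]; norm_num)
    (modEq_small (Or.inr ⟨rfl, Or.inl rfl⟩))
  have : m ≤ 4 := by omega
  rw [hN]
  interval_cases m <;> norm_num [szc]

theorem kill_fi22 (h : Spor.IsoFi22 S) : Kill S := by
  have hN := NotCT.Orders.fi22 h
  obtain ⟨e⟩ := h
  have hfin : Finite Spor.Fi22 := Finite.of_equiv S e.toEquiv
  have hNC : NC 13 5 Spor.Fi22 := NC.of_cent fun y hy => by
    rw [H569.PD.Fi22.sc y hy]; norm_num
  refine Kill.of_thirteen (K := 18) (by rw [hN]; norm_num) (fun m h1 h2 => ?_) (by rw [hN]; norm_num)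
    (s := 5) (a := 2) (Or.inl rfl) (hNC.congr e) (by rw [hN]; norm_num) (by rw [hN]; norm_num)
    (modEq_small (Or.inl ⟨rfl, Or.inl rfl⟩))
  have : m ≤ 3 := by omega
  rw [hN]
  interval_cases m <;> norm_num [szc]

theorem kill_fi23 (h : Spor.IsoFi23 S) : Kill S := by
  have hN := NotCT.Orders.fi23 h
  obtain ⟨e⟩ := h
  have hfin : Finite Spor.Fi23 := Finite.of_equiv S e.toEquiv
  have hNC : NC 5 13 Spor.Fi23 := NC.of_cent fun y hy => by
    rw [H841.PB.FiTwentyThree.card_cent_five hy]; norm_num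
  refine Kill.of_thirteen (K := 19) (by rw [hN]; norm_num) (fun m h1 h2 => ?_) (by rw [hN]; norm_num)
    (s := 5) (a := 2) (Or.inl rfl) (hNC.symm.congr e) (by rw [hN]; norm_num) (by rw [hN]; norm_num)
    (modEq_small (Or.inl ⟨rfl, Or.inl rfl⟩))
  have : m ≤ 4 := by omega
  rw [hN]
  interval_cases m <;> norm_num [szc]

/-- an element of `Fi24` commuting with an element of order 5 -/
theorem nc_fi24 : NC 5 13 Spor.Fi24 := by
  intro y z hy hz hyz
  obtain ⟨g, hg⟩ := LThreeFi24.FiveConj.exists_conj_five hy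
  have h1 : (g * z * g⁻¹) * LThreeFi24.SNine.y0 = LThreeFi24.SNine.y0 * (g * z * g⁻¹) := by
    rw [← hg]
    calc g * z * g⁻¹ * (g * y * g⁻¹) = g * (z * y) * g⁻¹ := by group
      _ = g * (y * z) * g⁻¹ := by rw [hyz]
      _ = g * y * g⁻¹ * (g * z * g⁻¹) := by group
  obtain ⟨i, σ, -, -, hn⟩ := H841.Five.exists_of_comm h1
  have hc : Commute (LThreeFi24.SNine.y0 ^ i) (H841.Five.Phi σ) :=
    (show Commute LThreeFi24.SNine.y0 (H841.Five.Phi σ) from (H841.Five.Phi_comm_y0 σ).symm).pow_left i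
  have hy0 : LThreeFi24.SNine.y0 ^ 5 = 1 := by
    rw [← hg, conj_pow, ← hy, pow_orderOf_eq_one, mul_one, mul_inv_cancel]
  have hσ : σ ^ (Nat.factorial 9) = 1 := by
    have h2 : Nat.card (Equiv.Perm (Fin 9)) = Nat.factorial 9 := by
      rw [Nat.card_eq_fintype_card, Fintype.card_perm, Fintype.card_fin]
    rw [← h2]
    exact pow_card_eq_one'
  have h3 : (g * z * g⁻¹) ^ (5 * Nat.factorial 9) = 1 := by
    rw [hn, hc.mul_pow, ← pow_mul, mul_comm i, pow_mul, pow_mul _ 5, hy0, one_pow, one_pow, one_mul, mul_comm 5,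
      pow_mul, ← map_pow, hσ, map_one, one_pow]
  have h4 : z ^ (5 * Nat.factorial 9) = 1 := by
    rw [conj_pow] at h3
    have h5 := congrArg (fun w => g⁻¹ * w * g) h3
    simp only [mul_one, inv_mul_cancel] at h5
    rw [← h5]
    group
  have h5 : 13 ∣ 5 * Nat.factorial 9 := by
    rw [← hz]
    exact orderOf_dvd_of_pow_eq_one h4
  revert h5
  decide

theorem kill_fi24 (h : Spor.IsoFi24' S) : Kill S := by
  have hN := NotCT.Orders.fi24 h
  obtain ⟨e⟩ := h
  have hfin : Finite Spor.Fi24' := Finite.of_equiv S e.toEquiv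
  have hNC : NC 5 13 Spor.Fi24' := fun y z hy hz hyz =>
    nc_fi24 (y : Spor.Fi24) (z : Spor.Fi24) (by rw [orderOf_coe, hy]) (by rw [orderOf_coe, hz])
      (congrArg Subtype.val hyz)
  refine Kill.of_thirteen (K := 22) (by rw [hN]; norm_num) (fun m h1 h2 => ?_) (by rw [hN]; norm_num)
    (s := 5) (a := 2) (Or.inl rfl) (hNC.symm.congr e) (by rw [hN]; norm_num) (by rw [hN]; norm_num)
    (modEq_small (Or.inl ⟨rfl, Or.inl rfl⟩))
  have : m ≤ 4 := by omega
  rw [hN]
  interval_cases m <;> norm_num [szc]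

theorem kill_th (h : Spor.IsoTh S) : Kill S := by
  have hN := NotCT.Orders.th h
  obtain ⟨e⟩ := h
  have hfin : Finite Spor.Th := Finite.of_equiv S e.toEquiv
  have hNC : NC 7 13 Spor.Th := NC.of_cent fun y hy => by
    rw [H468.PW.ThP.card_cent hy]; norm_num
  refine Kill.of_thirteen (K := 16) (by rw [hN]; norm_num) (fun m h1 h2 => ?_) (by rw [hN]; norm_num)
    (s := 7) (a := 2) (Or.inr rfl) (hNC.symm.congr e) (by rw [hN]; norm_num) (by rw [hN]; norm_num)
    (modEq_small (Or.inr ⟨rfl, Or.inl rfl⟩))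
  have : m ≤ 3 := by omega
  rw [hN]
  interval_cases m <;> norm_num [szc]

theorem nc_b (h : Spor.IsoB S) : NC 7 13 S := by
  refine NC.of_cent fun y hy hd => ?_
  obtain ⟨t, x, ht, hx, hxt, hc⟩ := H630.Baby.exists_lift_card h (by norm_num) (by norm_num) hy
  have hfin : Finite H630.Baby.Mon := MThirteen.Row.finite
  have h2 : Nat.card ↥(LThreeB.XT x t) ∣ 4030387200 * 7 := by
    rw [← H478.SporBaby.card_cent (v := t) ht hx hxt]
    exact card_dvd_of_le inf_le_left
  have h3 := hd.trans (H630.Baby.card_dvd_XT (r := 7) hc h2)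
  revert h3
  norm_num

theorem kill_b (h : Spor.IsoB S) : Kill S := by
  have hN := NotCT.Orders.b h
  refine Kill.of_thirteen (K := 42) (by rw [hN]; norm_num) (fun m h1 h2 => ?_) (by rw [hN]; norm_num)
    (s := 7) (a := 2) (Or.inr rfl) (nc_b h).symm (by rw [hN]; norm_num) (by rw [hN]; norm_num)
    (modEq_small (Or.inr ⟨rfl, Or.inl rfl⟩))
  have : m ≤ 9 := by omega
  rw [hN]
  interval_cases m <;> norm_num [szc]

end Cfsg.Agent.H465.SporB
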