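import Cfsg.Agent.H465.PiBSMon

/-!
# The row of the Monster, `2 ∈ π`, `3 ∉ π` (helper465, for S3876)

* `Kill' S` : data against the Suzuki groups with the centralizers of the `r`-central elements of order `r`;
* `row_of'` : `Row π S`;
* `kill_m` : the Monster.
-/

set_option autoImplicit false
set_option linter.unusedSectionVars false
set_option linter.style.haveILetI false

universe u

namespace Cfsg.Agent.H465.SporB

open Subgroup Cfsg Cfsg.Agent.H469.PiBS

/-- all Suzuki groups are excluded, with the centralizers of the `r`-central elements -/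
def Kill' (S : Type*) [Group S] : Prop := ∀ m, 1 ≤ m → szc m ∣ Nat.card S →
  ∃ (r s a b c : ℕ) (w : ℕ → ℕ), r.Prime ∧ s.Prime ∧ r ≠ s ∧ r ∣ szc m ∧ s ∣ szc m ∧
    ¬ r ^ (b + 1) ∣ Nat.card S ∧ (∀ k, 1 ≤ k → k ≤ b → ¬ s ^ (w k + 1) ∣ r ^ k - 1) ∧
    (∀ m', 1 ≤ m' → szc m' ∣ Nat.card S → r ∣ szc m' → ¬ s ^ (c + 1) ∣ szc m') ∧
    s ^ a ∣ Nat.card S ∧ ¬ s ^ (a + 1) ∣ Nat.card S ∧ (∀ i, 1 ≤ i → i ≤ a → ¬ r ∣ s ^ i - 1) ∧
    ∀ y : S, orderOf y = r → ¬ r ∣ (centralizer ({y} : Set S)).index →
      ¬ s ^ (a - ((∑ i ∈ Finset.range b, w (i + 1)) + b * c)) ∣ Nat.card ↥(centralizer ({y} : Set S))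

section

variable {π : Set ℕ} {S : Type u} [Group S] [Finite S] {A : Subgroup (MulAut S)} {x : MulAut S} {l : ℕ}

/-- **numerical contradiction** -/
theorem false_of_kill' (h : Hyp π A x l) (h3 : 3 ∉ π) (hK : Kill' S) {L : Subgroup S} (hL : ¬ Group.IsSolvable L)
    (hLπ : IsPiSubgroup π L) : False := by
  obtain ⟨m, hm, hmd⟩ := exists_szc hL fun hd => h3 (hLπ 3 Nat.prime_three hd)
  obtain ⟨r, s, a, b, c, w, hr, hs, hrs, hrm, hsm, hb, hw, hc, ha, ha', hn, hcen⟩ :=
    hK m hm (hmd.trans (card_subgroup_dvd_card L))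
  have hrπ : r ∈ π := hLπ r hr (hrm.trans hmd)
  have hsπ : s ∈ π := hLπ s hs (hsm.trans hmd)
  obtain ⟨H, hH⟩ := h.exists_hall
  have hHS : Nat.card H ∣ Nat.card S := card_subgroup_dvd_card H
  have hrH : r ∣ Nat.card H := by
    have h1 : r ∣ Nat.card S := (hrm.trans hmd).trans (card_subgroup_dvd_card L)
    rw [← H.card_mul_index] at h1
    exact (hr.dvd_mul.1 h1).resolve_right (hH.2 r hr hrπ)
  have haH : s ^ a ∣ Nat.card H := by
    rw [← H.card_mul_index] at ha
    exact (Nat.Coprime.pow_left _ ((Nat.Prime.coprime_iff_not_dvd hs).2 (hH.2 s hs hsπ))).dvd_of_dvd_mul_right ha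
  obtain ⟨y, hy, hyi, hys⟩ := main_central (H := H) hr hs hrs hrH (fun hd => h3 (hH.1 3 Nat.prime_three hd))
    (fun hd => hb (hd.trans hHS)) w hw (fun m' hm' hd => hc m' hm' (hd.trans hHS)) haH
    (fun hd => ha' (hd.trans hHS)) hn
  -- the centralizer in `S`
  have hle : (centralizer ({y} : Set H)).map H.subtype ≤ centralizer ({(y : S)} : Set S) := by
    rintro _ ⟨g, hg, rfl⟩
    rw [mem_centralizer_singleton_iff]
    exact congrArg Subtype.val (mem_centralizer_singleton_iff.1 hg)
  refine hcen (y : S) (by rw [orderOf_coe, hy]) (fun hd => ?_) ?_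
  · have h1 : r ∣ ((centralizer ({y} : Set H)).map H.subtype).index := hd.trans (index_dvd_of_le hle)
    have h2 : ((centralizer ({y} : Set H)).map H.subtype).index = (centralizer ({y} : Set H)).index * H.index := by
      rw [index_map_subtype]
    rw [h2] at h1
    rcases hr.dvd_mul.1 h1 with h3 | h3
    · exact hyi h3
    · exact hH.2 r hr hrπ h3
  · refine hys.trans ?_
    rw [← card_map_of_injective (K := centralizer ({y} : Set H)) H.subtype_injective]
    exact card_dvd_of_le hle

/-- **The rows with `3 ∉ π`**, second version. -/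
theorem row_of' (hs : IsSimpleGroup S) (hna : ¬ IsMulCommutative S) (h3 : 3 ∉ π) (hOI : OI S) (hG : Guest S)
    (hI : Inv3 S) (hK : Kill' S) : Row π S := by
  intro A x l h
  exfalso
  rcases h.prime.eq_two_or_odd with h2 | ho
  · exact false_of_inv3 h (center_eq_bot hs hna) h3 (hI x (h.ord.trans h2))
  · have hl : 5 ≤ l := by
      have h4 : l ≠ 3 := fun h5 => h3 (h5 ▸ h.lpi)
      have h6 : l ≠ 1 := h.prime.one_lt.ne'
      omega
    obtain ⟨L, hL, hLπ⟩ := exists_nonsolvable h hs hna hl hOI hG
    exact false_of_kill' h h3 hK hL hLπ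

end

/-- centralizers along an isomorphism -/
theorem centralizer_congr {S T : Type*} [Group S] [Group T] (f : S ≃* T) (y : S) :
    (centralizer ({y} : Set S)).map f.toMonoidHom = centralizer ({f y} : Set T) := by
  ext x
  constructor
  · rintro ⟨g, hg, rfl⟩
    rw [mem_centralizer_singleton_iff]
    change f g * f y = f y * f g
    rw [← map_mul, ← map_mul, mem_centralizer_singleton_iff.1 hg]
  · intro hx
    refine ⟨f.symm x, mem_centralizer_singleton_iff.2 (f.injective ?_), f.apply_symm_apply x⟩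
    rw [map_mul, map_mul, f.apply_symm_apply]
    exact mem_centralizer_singleton_iff.1 hx

/-- **The Monster.** -/
theorem kill_m {S : Type u} [Group S] [Finite S] (h : Spor.IsoM S) : Kill' S := by
  have hN := NotCT.Orders.m h
  obtain ⟨e⟩ := h
  obtain ⟨e'⟩ := MonsterP.Equiv.equiv
  let f : S ≃* ↥MonsterX.InstData.M.G := e.trans e'
  have hone : ∀ m, 1 ≤ m → szc m ∣ Nat.card S → m = 1 ∨ m = 2 := by
    intro m hm hd
    have h1 : 4 * m + 2 < 47 := le_of_szc_dvd (K := 47) (by rw [hN]; norm_num) hd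
    have h2 : m ≤ 11 := by omega
    rw [hN] at hd
    clear h1 hN
    interval_cases m
    · exact Or.inl rfl
    · exact Or.inr rfl
    all_goals
      exfalso
      revert hd
      norm_num [szc]
  have htr : ∀ y : S, Nat.card ↥(centralizer ({y} : Set S)) = Nat.card ↥(centralizer ({f y} : Set ↥MonsterX.InstData.M.G)) ∧
      (centralizer ({y} : Set S)).index = (centralizer ({f y} : Set ↥MonsterX.InstData.M.G)).index := by
    intro y
    rw [← centralizer_congr f y]
    refine ⟨(card_map_of_injective f.injective).symm, ?_⟩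
    exact (Subgroup.index_map_equiv _ f).symm
  intro m hm hd
  rcases hone m hm hd with rfl | rfl
  · refine ⟨13, 7, 6, 3, 1, fun k => if k = 2 then 1 else 0, by norm_num, by norm_num, by norm_num, by norm_num [szc],
      by norm_num [szc], by rw [hN]; norm_num, ?_, ?_, by rw [hN]; norm_num, by rw [hN]; norm_num, ?_, ?_⟩
    · intro k hk1 hk2
      interval_cases k <;> norm_num
    · intro m' hm' hd' h13
      rcases hone m' hm' hd' with rfl | rfl
      · norm_num [szc]
      · exfalso
        revert h13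
        norm_num [szc]
    · intro i hi1 hi2
      interval_cases i <;> norm_num
    · intro y hy hyi hd2
      rw [(htr y).2] at hyi
      rw [(htr y).1] at hd2
      refine Mon.no_seven (y := f y) (by rw [MulEquiv.orderOf_eq, hy]) hyi (Dvd.dvd.trans ?_ hd2)
      simp
  · refine ⟨41, 5, 9, 1, 2, fun _ => 1, by norm_num, by norm_num, by norm_num, by norm_num [szc],
      by norm_num [szc], by rw [hN]; norm_num, ?_, ?_, by rw [hN]; norm_num, by rw [hN]; norm_num, ?_, ?_⟩
    · intro k hk1 hk2
      interval_cases k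
      norm_num
    · intro m' hm' hd' h41
      rcases hone m' hm' hd' with rfl | rfl
      · exfalso
        revert h41
        norm_num [szc]
      · norm_num [szc]
    · intro i hi1 hi2
      interval_cases i <;> norm_num
    · intro y hy hyi hd2
      rw [(htr y).1] at hd2
      refine Mon.no_five (y := f y) (by rw [MulEquiv.orderOf_eq, hy]) (Dvd.dvd.trans ?_ hd2)
      simp

end Cfsg.Agent.H465.SporB
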