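import Cfsg.Agent.H465.PiBSKill
import Cfsg.Agent.H465.PiBSKillM
import Cfsg.Agent.H465.PiBSFi
import Cfsg.Agent.H465.PiBSB
import Cfsg.Agent.H256.OddInner
import Cfsg.Agent.H799.PiBS.MathieuA
import Cfsg.Agent.H799.PiBS.MathieuB
import Cfsg.Agent.H799.PiBS.JankoA
import Cfsg.Agent.H799.PiBS.JankoC
import Cfsg.Agent.H799.PiBS.JankoD
import Cfsg.Agent.H799.PiBS.HS
import Cfsg.Agent.H799.PiBS.He
import Cfsg.Agent.H799.PiBS.McL
import Cfsg.Agent.H799.PiBS.ONan
import Cfsg.Agent.H799.PiBS.Suz
import Cfsg.Agent.H443.PiS.Th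
import Cfsg.Agent.H443.PiS.HN
import Cfsg.Agent.H518.PiB.CoRows
import Cfsg.Agent.H518.PiB.LyInv
import Cfsg.Agent.H518.PiB.MInv
import Cfsg.Agent.H518.PiB.TitsRow

/-!
# The rows of the sporadic groups and of the Tits group, `2 ∈ π`, `3 ∉ π` (helper465, S3876, SPORADIC B)

* `inv3_sporadic` : the involutory automorphisms of a sporadic group;
* `row_sporadic_of`, `row_tits` : the rows, with the statement of S3829 (`Guest`) as a hypothesis.
-/

set_option autoImplicit false

universe u

namespace Cfsg.Agent.H465.SporB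

open Subgroup Cfsg Cfsg.Agent.H469.PiBS

section

variable {S : Type u} [Group S] [Finite S]

/-- **The involutory automorphisms of the sporadic groups.** -/
theorem inv3_sporadic [IsSimpleGroup S] (hRu : Spor.IsoRu S → Inv3 S) (h : IsSporadicGroup S) : Inv3 S := by
  rcases h with h | h | h | h | h | h | h | h | h | h | h | h | h | h | h | h | h | h | h | h | h | h | h | h | h | h
  · exact H799.PiBS.inv3_m11 h
  · exact H799.PiBS.inv3_m12 h
  · exact H799.PiBS.inv3_m22 h
  · exact H799.PiBS.inv3_m23 h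
  · exact H799.PiBS.inv3_m24 h
  · exact H799.PiBS.inv3_j1 h
  · exact H799.PiBS.inv3_j2 h
  · exact H799.PiBS.J3.inv3_j3 h
  · exact H799.PiBS.J4.inv3_j4 h
  · exact H518.PiB.inv3_co1 h
  · exact H518.PiB.inv3_co2 h
  · exact H518.PiB.inv3_co3 h
  · exact H799.PiBS.McL.inv3_mcl h
  · exact H799.PiBS.HS.inv3_hs h
  · exact H799.PiBS.Suz.inv3_suz h
  · exact H799.PiBS.He.inv3_he h
  · exact hRu h
  · exact H799.PiBS.ON.inv3_on h
  · exact H518.PiB.inv3_ly h
  · exact Fi.inv3_fi22 h
  · exact Fi.inv3_fi23 h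
  · exact Fi.inv3_fi24 h
  · exact H443.PiS.inv3_hn h
  · exact H443.PiS.inv3_th h
  · exact BB.inv3_b h
  · exact H518.PiB.inv3_m BB.inv3_b_model h

/-- **The rows of the sporadic groups.** -/
theorem row_sporadic_of {π : Set ℕ} [hs : IsSimpleGroup S] (hna : ¬ IsMulCommutative S)
    (hRu : Spor.IsoRu S → Inv3 S) (h3 : 3 ∉ π) (hG : Guest S) (h : IsSporadicGroup S) : Row π S := by
  have hI := inv3_sporadic hRu h
  have hOI : OI S := H256.OddInner.sporadic h
  have key : Kill S → Row π S := row_of hs hna h3 hOI hG hI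
  rcases h with h | h | h | h | h | h | h | h | h | h | h | h | h | h | h | h | h | h | h | h | h | h | h | h | h | h
  · exact key (kill_m11 h)
  · exact key (kill_m12 h)
  · exact key (kill_m22 h)
  · exact key (kill_m23 h)
  · exact key (kill_m24 h)
  · exact key (kill_j1 h)
  · exact key (kill_j2 h)
  · exact key (kill_j3 h)
  · exact key (kill_j4 h)
  · exact key (kill_co1 h)
  · exact key (kill_co2 h)
  · exact key (kill_co3 h)
  · exact key (kill_mcl h)
  · exact key (kill_hs h)
  · exact key (kill_suz h)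
  · exact key (kill_he h)
  · exact key (kill_ru h)
  · exact key (kill_on h)
  · exact key (kill_ly h)
  · exact key (kill_fi22 h)
  · exact key (kill_fi23 h)
  · exact key (kill_fi24 h)
  · exact key (kill_hn h)
  · exact key (kill_th h)
  · exact key (kill_b h)
  · exact row_of' hs hna h3 hOI hG hI (kill_m h)

omit [Finite S] in
theorem oi_aux {G : Type*} [Group G] {T : Subgroup G} (e : S ≃* T)
    (h : (MulAut.conj : T →* MulAut T).range.index ∣ 2) : OI S :=
  H256.OddInner.OI.congr e (H256.OddInner.OI.of_le_two ((Nat.dvd_prime Nat.prime_two).1 h))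

omit [Finite S] in
theorem oi_tits (h : Lie.IsoTits S) : OI S := by
  obtain ⟨e⟩ := Cfsg.Agent.CpAutTits.Row.exists_equiv h
  exact oi_aux e Cfsg.Agent.TitsK.tdata.index_inn

/-- **The row of the Tits group.** -/
theorem row_tits {π : Set ℕ} (hs : IsSimpleGroup S) (hna : ¬ IsMulCommutative S) (h3 : 3 ∉ π) (hG : Guest S)
    (h : Lie.IsoTits S) : Row π S := by
  intro A x l hy
  exfalso
  rcases hy.prime.eq_two_or_odd with h2 | ho
  · exact H518.PiB.Tits.false_tits h h3 hy h2
  · have hl : 5 ≤ l := by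
      have h4 : l ≠ 3 := fun h5 => h3 (h5 ▸ hy.lpi)
      have h6 : l ≠ 1 := hy.prime.one_lt.ne'
      omega
    obtain ⟨L, hL, hLπ⟩ := exists_nonsolvable hy hs hna hl (oi_tits h) hG
    exact hL (H518.PiB.Tits.solvable_of (H518.PiB.Tits.tc h) fun hd => h3 (hLπ 3 Nat.prime_three hd))

end

end Cfsg.Agent.H465.SporB
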