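import Cfsg.Agent.H799.PiBS.Inv3
import Cfsg.Agent.H842.RadTwoA

/-!
# Involutions of an extraspecial 2-group and triality (helper465, S3876, SPORADIC B)

`bad_all` : `G` has a subgroup `C` of odd index with a normal subgroup `Q` and a central involution `z ∈ Q`, `Q` is
extraspecial with centre `⟨z⟩` and `C` is irreducible on `Q/⟨z⟩`, `τ` of order three is inverted by an element of `Q` and
`z ≠ τ z τ⁻¹ ∈ Q`, and the involutions of `C` outside `Q` are bad: then all involutions are bad.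
-/

set_option autoImplicit false

namespace Cfsg.Agent.H465.SporB.Tau

open Subgroup Cfsg Cfsg.Agent.H799.PiBS

section

variable {G : Type*} [Group G]

/-- `w` moves `z` and `w³` fixes `z` -/
theorem three_dvd {w z : G} (h1 : w * z ≠ z * w) (h3 : w ^ 3 * z = z * w ^ 3) : 3 ∣ orderOf w := by
  by_contra h
  have h4 : Nat.Coprime 3 (orderOf w) := (Nat.prime_three.coprime_iff_not_dvd).2 h
  obtain ⟨m, hm⟩ := exists_pow_eq_self_of_coprime h4
  apply h1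
  have h5 : Commute (w ^ 3) z := h3
  have h6 := h5.pow_left m
  rwa [hm] at h6

/-- the data -/
structure Data (C Q : Subgroup G) (z τ e : G) : Prop where
  le : Q ≤ C
  zQ : z ∈ Q
  z_ne : z ≠ 1
  z_sq : z * z = 1
  cen : ∀ g ∈ C, g * z = z * g
  comm : ∀ x ∈ Q, ∀ y ∈ Q, x * y = y * x ∨ x * y = y * x * z
  nrm : ∀ g ∈ C, ∀ q ∈ Q, g * q * g⁻¹ ∈ Q
  center : ∀ x ∈ Q, (∀ y ∈ Q, x * y = y * x) → x = 1 ∨ x = z
  irr : ∀ N : Subgroup G, N ≤ Q → (∀ g ∈ C, ∀ n ∈ N, g * n * g⁻¹ ∈ N) → (∀ n ∈ N, n = 1 ∨ n = z) ∨ N = Q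
  t3 : τ * τ * τ = 1
  tz : τ * z * τ⁻¹ ∈ Q
  tz_ne : τ * z * τ⁻¹ ≠ z
  eQ : e ∈ Q
  e_inv : e * τ * e⁻¹ = τ⁻¹

variable {C Q : Subgroup G} {z τ e : G} (D : Data C Q z τ e)
include D

/-- `τ⁻¹ z τ = z (τ z τ⁻¹)` -/
theorem tau_inv : τ⁻¹ * z * τ = z * (τ * z * τ⁻¹) := by
  obtain ⟨c, hc⟩ : ∃ c, c = τ * z * τ⁻¹ := ⟨_, rfl⟩
  have hcQ : c ∈ Q := hc ▸ D.tz
  rw [← hc]
  have h1 : τ⁻¹ * z * τ = e * c * e⁻¹ := by
    have h2 : τ⁻¹ * z * τ = e * τ * e⁻¹ * z * (e * τ * e⁻¹)⁻¹ := by rw [D.e_inv, inv_inv]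
    rw [h2, hc]
    have h3 : e⁻¹ * z * e = z := by
      have h4 := D.cen e (D.le D.eQ)
      calc e⁻¹ * z * e = e⁻¹ * (z * e) := by group
        _ = e⁻¹ * (e * z) := by rw [h4]
        _ = z := by group
    calc e * τ * e⁻¹ * z * (e * τ * e⁻¹)⁻¹ = e * τ * (e⁻¹ * z * e) * τ⁻¹ * e⁻¹ := by group
      _ = e * (τ * z * τ⁻¹) * e⁻¹ := by rw [h3]; group
  rw [h1]
  rcases D.comm e D.eQ c hcQ with h2 | h2
  · exfalso
    have h3 : e * c * e⁻¹ = c := by rw [h2]; group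
    rw [h3] at h1
    -- `τ⁻¹ z τ = τ z τ⁻¹`
    apply D.tz_ne
    have h4 : τ⁻¹ = τ * τ := by
      rw [inv_eq_iff_mul_eq_one, ← mul_assoc]
      exact D.t3
    have h5 : τ * τ * z * (τ * τ)⁻¹ = τ * z * τ⁻¹ := by
      rw [← hc, ← h1, ← h4, inv_inv]
    calc τ * z * τ⁻¹ = τ⁻¹ * (τ * τ * z * (τ * τ)⁻¹) * τ := by group
      _ = τ⁻¹ * (τ * z * τ⁻¹) * τ := by rw [h5]
      _ = z := by group
  · rw [h2]
    have h3 := D.cen e⁻¹ (C.inv_mem (D.le D.eQ))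
    have h4 := D.cen c (D.le hcQ)
    calc c * e * z * e⁻¹ = c * e * (z * e⁻¹) := by group
      _ = c * e * (e⁻¹ * z) := by rw [h3]
      _ = c * z := by group
      _ = z * c := h4

/-- an element of `Q` not commuting with `τ z τ⁻¹` is bad -/
theorem bad_of_ne {u : G} (hu : u ∈ Q) (h : u * (τ * z * τ⁻¹) ≠ τ * z * τ⁻¹ * u) : Bad (MulAut.conj u) := by
  have hti := tau_inv D
  obtain ⟨c, hc⟩ : ∃ c, c = τ * z * τ⁻¹ := ⟨_, rfl⟩
  have hcQ : c ∈ Q := hc ▸ D.tz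
  rw [← hc] at h hti
  have huz := D.cen u (D.le hu)
  have hcz := D.cen c (D.le hcQ)
  have hzi : z⁻¹ = z := inv_eq_of_mul_eq_one_left D.z_sq
  have h1 : u * c = c * u * z := (D.comm u hu c hcQ).resolve_left h
  have h1' : u * c * u⁻¹ = c * z := by
    rw [h1]
    have h3 := D.cen u⁻¹ (C.inv_mem (D.le hu))
    calc c * u * z * u⁻¹ = c * u * (z * u⁻¹) := by group
      _ = c * u * (u⁻¹ * z) := by rw [h3]
      _ = c * z := by group
  have h2 : u⁻¹ * c * u = c * z := by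
    have h3 : c * u = u * c * z := by
      calc c * u = c * u * z * z⁻¹ := by group
        _ = u * c * z := by rw [← h1, hzi]
    calc u⁻¹ * c * u = u⁻¹ * (c * u) := by group
      _ = u⁻¹ * (u * c * z) := by rw [h3]
      _ = c * z := by group
  have hcc : c * c = 1 := by
    rw [hc]
    calc τ * z * τ⁻¹ * (τ * z * τ⁻¹) = τ * (z * z) * τ⁻¹ := by group
      _ = 1 := by rw [D.z_sq]; group
  have hct : τ⁻¹ * c * τ = z := by rw [hc]; group
  have htc : τ * c * τ⁻¹ = z * c := by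
    have h4 : τ⁻¹ = τ * τ := by
      rw [inv_eq_iff_mul_eq_one, ← mul_assoc]
      exact D.t3
    have h5 : τ⁻¹ * z * τ = τ * c * τ⁻¹ := by
      rw [hc]
      calc τ⁻¹ * z * τ = τ * τ * z * (τ * τ)⁻¹ := by rw [← h4]; group
        _ = τ * (τ * z * τ⁻¹) * τ⁻¹ := by group
    rw [← h5, hti]
  obtain ⟨w, hw⟩ : ∃ w, w = u * τ * u⁻¹ * τ⁻¹ := ⟨_, rfl⟩
  -- the action of `w`
  have w1 : w * z * w⁻¹ = c := by
    have e1 : w * z * w⁻¹ = u * (τ * (u⁻¹ * (τ⁻¹ * z * τ) * u) * τ⁻¹) * u⁻¹ := by rw [hw]; group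
    rw [e1, hti]
    have e2 : u⁻¹ * (z * c) * u = c := by
      calc u⁻¹ * (z * c) * u = (u⁻¹ * z * u) * (u⁻¹ * c * u) := by group
        _ = z * (c * z) := by
            rw [h2]
            congr 1
            calc u⁻¹ * z * u = u⁻¹ * (z * u) := by group
              _ = u⁻¹ * (u * z) := by rw [huz]
              _ = z := by group
        _ = z * (z * c) := by rw [hcz]
        _ = z * z * c := by group
        _ = c := by rw [D.z_sq, one_mul]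
    rw [e2, htc]
    calc u * (z * c) * u⁻¹ = (u * z) * u⁻¹ * (u * c * u⁻¹) := by group
      _ = z * (c * z) := by rw [h1', huz]; group
      _ = z * (z * c) := by rw [hcz]
      _ = z * z * c := by group
      _ = c := by rw [D.z_sq, one_mul]
  have w2 : w * c * w⁻¹ = c * z := by
    have e1 : w * c * w⁻¹ = u * (τ * (u⁻¹ * (τ⁻¹ * c * τ) * u) * τ⁻¹) * u⁻¹ := by rw [hw]; group
    rw [e1, hct]
    have e2 : u⁻¹ * z * u = z := by
      calc u⁻¹ * z * u = u⁻¹ * (z * u) := by group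
        _ = u⁻¹ * (u * z) := by rw [huz]
        _ = z := by group
    rw [e2, ← hc, h1']
  have w3 : w * (c * z) * w⁻¹ = z := by
    calc w * (c * z) * w⁻¹ = (w * c * w⁻¹) * (w * z * w⁻¹) := by group
      _ = c * z * c := by rw [w1, w2]
      _ = z * c * c := by rw [hcz]
      _ = z * (c * c) := by group
      _ = z := by rw [hcc, mul_one]
  refine ⟨τ, ?_⟩
  have e : MulAut.conj u τ * τ⁻¹ = w := by
    rw [MulAut.conj_apply, hw]
  rw [e]
  refine three_dvd (z := z) (fun h5 => ?_) ?_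
  · apply D.tz_ne
    rw [← hc, ← w1, h5]
    group
  · have h5 : w ^ 3 * z * (w ^ 3)⁻¹ = z := by
      have h6 : w ^ 3 * z * (w ^ 3)⁻¹ = w * (w * (w * z * w⁻¹) * w⁻¹) * w⁻¹ := by
        rw [pow_succ, pow_two]
        group
      rw [h6, w1, w2, w3]
    rwa [mul_inv_eq_iff_eq_mul] at h5

/-- the elements of `Q ∖ ⟨z⟩` are bad -/
theorem bad_of_mem {u : G} (hu : u ∈ Q) (h1 : u ≠ 1) (hz : u ≠ z) : Bad (MulAut.conj u) := by
  obtain ⟨c, hc⟩ : ∃ c, c = τ * z * τ⁻¹ := ⟨_, rfl⟩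
  have hcQ : c ∈ Q := hc ▸ D.tz
  let N : Subgroup G := Q ⊓ centralizer {x | ∃ g ∈ C, x = g * c * g⁻¹}
  have hN : ∀ x, x ∈ N ↔ x ∈ Q ∧ ∀ g ∈ C, (g * c * g⁻¹) * x = x * (g * c * g⁻¹) := by
    intro x
    refine ⟨fun h => ⟨h.1, fun g hg => mem_centralizer_iff.1 h.2 _ ⟨g, hg, rfl⟩⟩, fun h => ⟨h.1, ?_⟩⟩
    refine mem_centralizer_iff.2 ?_
    rintro _ ⟨g, hg, rfl⟩
    exact h.2 g hg
  by_cases hc' : ∀ g ∈ C, (g * c * g⁻¹) * u = u * (g * c * g⁻¹)
  · exfalso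
    have hNn : ∀ g ∈ C, ∀ n ∈ N, g * n * g⁻¹ ∈ N := by
      intro g hg n hn
      rw [hN] at hn ⊢
      refine ⟨D.nrm g hg n hn.1, fun k hk => ?_⟩
      have h3 := hn.2 (g⁻¹ * k) (C.mul_mem (C.inv_mem hg) hk)
      calc k * c * k⁻¹ * (g * n * g⁻¹) = g * (g⁻¹ * k * c * (g⁻¹ * k)⁻¹ * n) * g⁻¹ := by group
        _ = g * (n * (g⁻¹ * k * c * (g⁻¹ * k)⁻¹)) * g⁻¹ := by rw [h3]
        _ = _ := by group
    rcases D.irr N inf_le_left hNn with h2 | h2
    · rcases h2 u ((hN u).2 ⟨hu, hc'⟩) with h3 | h3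
      · exact h1 h3
      · exact hz h3
    · have h6 : ∀ y ∈ Q, c * y = y * c := by
        intro y hy
        have h4 : y ∈ N := by rw [h2]; exact hy
        have h5 := ((hN y).1 h4).2 1 C.one_mem
        rwa [one_mul, inv_one, mul_one] at h5
      rcases D.center c hcQ h6 with h3 | h3
      · apply D.z_ne
        calc z = τ⁻¹ * (τ * z * τ⁻¹) * τ := by group
          _ = 1 := by rw [← hc, h3]; group
      · exact D.tz_ne (hc ▸ h3)
  · push Not at hc'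
    obtain ⟨g, hg, h2⟩ := hc'
    have h3 : g⁻¹ * u * g ∈ Q := by
      have := D.nrm g⁻¹ (C.inv_mem hg) u hu
      rwa [inv_inv] at this
    refine (bad_of_ne D h3 ?_).inner (isConj_iff.2 ⟨g, by group⟩)
    rw [← hc]
    intro h4
    apply h2
    calc g * c * g⁻¹ * u = g * (c * (g⁻¹ * u * g)) * g⁻¹ := by group
      _ = g * (g⁻¹ * u * g * c) * g⁻¹ := by rw [h4]
      _ = _ := by group

/-- `z` is bad -/
theorem bad_z : Bad (MulAut.conj z) := by
  refine (bad_of_mem D D.tz ?_ D.tz_ne).inner (isConj_iff.2 ⟨τ⁻¹, by group⟩)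
  intro h
  apply D.z_ne
  calc z = τ⁻¹ * (τ * z * τ⁻¹) * τ := by group
    _ = 1 := by rw [h]; group

/-- **All involutions are bad.** -/
theorem bad_all [Finite G] (hodd : Odd C.index)
    (hC : ∀ u ∈ C, u * u = 1 → u ∉ Q → Bad (MulAut.conj u)) {u : G} (hu : u * u = 1) (h1 : u ≠ 1) :
    Bad (MulAut.conj u) := by
  obtain ⟨g, hg⟩ := H842.RadTwo.exists_conj_mem hodd hu
  suffices h : Bad (MulAut.conj (g * u * g⁻¹)) from h.inner (isConj_iff.2 ⟨g⁻¹, by group⟩)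
  have h2 : g * u * g⁻¹ * (g * u * g⁻¹) = 1 := by
    calc g * u * g⁻¹ * (g * u * g⁻¹) = g * (u * u) * g⁻¹ := by group
      _ = 1 := by rw [hu]; group
  have h3 : g * u * g⁻¹ ≠ 1 := by
    intro h
    apply h1
    calc u = g⁻¹ * (g * u * g⁻¹) * g := by group
      _ = 1 := by rw [h]; group
  by_cases hQ : g * u * g⁻¹ ∈ Q
  · by_cases hz : g * u * g⁻¹ = z
    · rw [hz]
      exact bad_z D
    · exact bad_of_mem D hQ h3 hz
  · exact hC _ hg h2 hQ

end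

end Cfsg.Agent.H465.SporB.Tau
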