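import Cfsg.Agent.H465.WrSyl
import Cfsg.Agent.H465.LFour
import Cfsg.Agent.H465.OrdTwo
import Cfsg.Agent.LargeExtra.W2.LFour.PslFacts
import Cfsg.Agent.ClassicalGeometry.SLTwoFour
import Cfsg.Agent.OddHalf.D6.QThree.U43Tw
import Cfsg.Agent.KFacts.MM.InvM22
import Cfsg.Agent.CpAutJThree.Row
import Cfsg.Agent.KFacts.J2.Facts

/-!
# No quasithin group of even characteristic has a maximal `2`-local `S₄ wr 2` over a Sylow group (helper465, S1829)
-/

set_option autoImplicit false

namespace Cfsg.Agent.H465.QtkeWr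

open Cfsg Cfsg.Agent.H465.Wr Subgroup

universe u

/-- every involution `v` with `64 ∣ |C(v)|` is central -/
def Excl (K : Type*) [Group K] : Prop :=
  ∀ v : K, orderOf v = 2 → 64 ∣ Nat.card (centralizer ({v} : Set K)) → 128 ∣ Nat.card (centralizer ({v} : Set K))

theorem card_cent_equiv {K L : Type*} [Group K] [Group L] (e : K ≃* L) (v : K) :
    Nat.card (centralizer ({v} : Set K)) = Nat.card (centralizer ({e v} : Set L)) := by
  refine Nat.card_congr ⟨fun x => ⟨e x.1, ?_⟩, fun y => ⟨e.symm y.1, ?_⟩, fun x => ?_, fun y => ?_⟩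
  · rw [mem_centralizer_singleton_iff]
    have h := mem_centralizer_singleton_iff.1 x.2
    rw [← map_mul, h, map_mul]
  · rw [mem_centralizer_singleton_iff]
    have h := mem_centralizer_singleton_iff.1 y.2
    apply e.injective
    rw [map_mul, map_mul, e.apply_symm_apply, h]
  · exact Subtype.ext (e.symm_apply_apply _)
  · exact Subtype.ext (e.apply_symm_apply _)

theorem card_cent_conj {K : Type*} [Group K] {u v : K} (h : IsConj u v) :
    Nat.card (centralizer ({u} : Set K)) = Nat.card (centralizer ({v} : Set K)) := by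
  obtain ⟨g, hg⟩ := isConj_iff.1 h
  have := card_cent_equiv (MulAut.conj g) u
  rw [MulAut.conj_apply, hg] at this
  exact this

theorem Excl.of_equiv {K L : Type*} [Group K] [Group L] (e : K ≃* L) (h : Excl L) : Excl K := by
  intro v hv h64
  rw [card_cent_equiv e] at h64 ⊢
  exact h (e v) (by rw [MulEquiv.orderOf_eq, hv]) h64

theorem excl_of_one {K : Type*} [Group K] [Finite K] (h128 : 128 ∣ Nat.card K)
    (h : ∀ u v : K, orderOf u = 2 → orderOf v = 2 → IsConj u v) : Excl K := by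
  have hp : Fact (Nat.Prime 2) := ⟨Nat.prime_two⟩
  intro v hv _
  obtain ⟨P⟩ : Nonempty (Sylow 2 K) := inferInstance
  have hP : 2 ^ 7 ∣ Nat.card P := P.pow_dvd_card_of_pow_dvd_card (by norm_num; exact h128)
  have hPn : Nontrivial (P : Subgroup K) := by
    rw [← Finite.one_lt_card_iff_nontrivial]
    exact lt_of_lt_of_le (by norm_num) (Nat.le_of_dvd Nat.card_pos hP)
  have hc : Nontrivial (center (P : Subgroup K)) := P.isPGroup'.center_nontrivial
  have hc2 : IsPGroup 2 (center (P : Subgroup K)) := P.isPGroup'.to_subgroup _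
  have h2 : 2 ∣ Nat.card (center (P : Subgroup K)) := by
    rcases hc2.card_eq_or_dvd with h1 | h1
    · have := Finite.one_lt_card_iff_nontrivial.2 hc
      omega
    · exact h1
  obtain ⟨z, hz⟩ := exists_prime_orderOf_dvd_card' 2 h2
  set z' : K := ((z : (P : Subgroup K)) : K) with hz'
  have hzo : orderOf z' = 2 := by
    rw [hz', orderOf_coe, orderOf_coe, hz]
  rw [← card_cent_conj (h z' v hzo hv)]
  have hle : (P : Subgroup K) ≤ centralizer ({z'} : Set K) := by
    intro x hx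
    rw [mem_centralizer_singleton_iff]
    have h3 := mem_center_iff.1 z.2 ⟨x, hx⟩
    exact congrArg Subtype.val h3
  have h4 : (128 : ℕ) = 2 ^ 7 := by norm_num
  rw [h4]
  exact hP.trans (card_dvd_of_le hle)

theorem excl_psl {F : Type} [Field F] [Fintype F] (ho : Odd (Fintype.card F))
    (h128 : 128 ∣ Nat.card (Matrix.ProjectiveSpecialLinearGroup (Fin 2) F)) :
    Excl (Matrix.ProjectiveSpecialLinearGroup (Fin 2) F) :=
  excl_of_one h128 fun u v hu hv => ClassicalGeometry.SLTwoFour.psl_isConj ho u v hu hv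

theorem sq_one {K : Type*} [Group K] {v : K} (h : orderOf v = 2) : v * v = 1 ∧ v ≠ 1 := by
  constructor
  · rw [← pow_two, ← h]
    exact pow_orderOf_eq_one v
  · rintro rfl
    rw [orderOf_one] at h
    omega

theorem isConj_of {K : Type*} [Group K] {z u v : K} (hu : ∃ g, g * z * g⁻¹ = u) (hv : ∃ g, g * z * g⁻¹ = v) :
    IsConj u v := (isConj_iff.2 hu).symm.trans (isConj_iff.2 hv)

theorem charP_three {F : Type} [Field F] [Fintype F] (hF : Fintype.card F = 9) : CharP F 3 := by
  obtain ⟨p, hp⟩ := CharP.exists F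
  obtain ⟨n, hprime, hn⟩ := FiniteField.card F p
  rw [hF] at hn
  have h1 : p ∣ 3 ^ 2 := by
    rw [show (3 : ℕ) ^ 2 = 9 from by norm_num, hn]
    exact dvd_pow_self p n.ne_zero
  have h2 := hprime.dvd_of_dvd_pow h1
  have h3 := (Nat.prime_dvd_prime_iff_eq hprime (by norm_num)).1 h2
  rwa [h3] at hp

theorem isConj_of_equiv {K L : Type*} [Group K] [Group L] (e : K ≃* L) {u v : K} (h : IsConj (e u) (e v)) :
    IsConj u v := by
  obtain ⟨g, hg⟩ := isConj_iff.1 h
  refine isConj_iff.2 ⟨e.symm g, e.injective ?_⟩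
  rw [map_mul, map_mul, map_inv, e.apply_symm_apply, hg]

theorem excl_psu {F : Type} [Field F] [Fintype F] (hF : Fintype.card F = 9) [Finite (PSU 4 F 3)]
    (h128 : 128 ∣ Nat.card (PSU 4 F 3)) : Excl (PSU 4 F 3) := by
  have := charP_three hF
  exact excl_of_one h128 fun u v hu hv => isConj_of
    (OddHalf.D6.QThree.U43Tw.one_class hF u (sq_one hu).1 (sq_one hu).2)
    (OddHalf.D6.QThree.U43Tw.one_class hF v (sq_one hv).1 (sq_one hv).2)

theorem mathieu_conj {K : Subgroup (Equiv.Perm GolayPt)} {z : Equiv.Perm GolayPt}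
    (h : ∀ u ∈ K, u * u = 1 → u ≠ 1 → ∃ g ∈ K, u = g * z * g⁻¹) (u v : K) (hu : orderOf u = 2) (hv : orderOf v = 2) :
    IsConj u v := by
  have key : ∀ w : K, orderOf w = 2 → ∃ g : K, (w : Equiv.Perm GolayPt) = g.1 * z * g.1⁻¹ := by
    intro w hw
    obtain ⟨h1, h2⟩ := sq_one hw
    obtain ⟨g, hg, e⟩ := h w w.2 (congrArg Subtype.val h1) (fun h3 => h2 (Subtype.ext h3))
    exact ⟨⟨g, hg⟩, e⟩
  obtain ⟨g, hg⟩ := key u hu
  obtain ⟨k, hk⟩ := key v hv
  rw [isConj_iff]
  refine ⟨k * g⁻¹, Subtype.ext ?_⟩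
  change k.1 * g.1⁻¹ * u.1 * (k.1 * g.1⁻¹)⁻¹ = v.1
  rw [hg, hk]
  group

theorem excl_m22 {K : Type*} [Group K] [Finite K] (h128 : 128 ∣ Nat.card K) (h : Spor.IsoM22 K) : Excl K := by
  obtain ⟨e⟩ := h
  refine excl_of_one h128 fun u v hu hv => ?_
  have h1 := mathieu_conj (fun w hw h2 h1 => KFacts.MM.InvM22.inv22 w hw h2 h1) (e u) (e v)
    (by rw [MulEquiv.orderOf_eq, hu]) (by rw [MulEquiv.orderOf_eq, hv])
  exact isConj_of_equiv e h1

theorem excl_m23 {K : Type*} [Group K] [Finite K] (h128 : 128 ∣ Nat.card K) (h : Spor.IsoM23 K) : Excl K := by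
  obtain ⟨e⟩ := h
  refine excl_of_one h128 fun u v hu hv => ?_
  have h1 := mathieu_conj (fun w hw h2 h1 => KFacts.MM.InvM22.inv23 w hw h2 h1) (e u) (e v)
    (by rw [MulEquiv.orderOf_eq, hu]) (by rw [MulEquiv.orderOf_eq, hv])
  exact isConj_of_equiv e h1

theorem excl_j3 {K : Type*} [Group K] [Finite K] (h128 : 128 ∣ Nat.card K) (h : Spor.IsoJ3 K) : Excl K :=
  excl_of_one h128 (CpAutJThree.base h).2.2.1

theorem excl_j2 {K : Type*} [Group K] [Finite K] (h : Spor.IsoJ2 K) : Excl K := by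
  obtain ⟨t, u, Q, v, ρ, D⟩ := KFacts.J2.Facts.exists_dat_of h
  intro x hx h64
  rcases D.F.cover x hx with h1 | h1
  · rw [← card_cent_conj h1, D.cardC]
    norm_num
  · rw [← card_cent_conj h1, D.card_cent_u] at h64
    norm_num at h64

/-! ### the main theorem -/

theorem Wr.map {M G : Type*} [Group M] [Group G] {f : S4 × S4 →* M} {s : M} (h : Wr f s) (φ : M →* G)
    (hφ : Function.Injective φ) : Wr (φ.comp f) (φ s) where
  inj := hφ.comp h.inj
  ss := by rw [← map_mul, h.ss, map_one]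
  sf a b := by
    change φ s * φ (f (a, b)) = φ (f (b, a)) * φ s
    rw [← map_mul, h.sf, map_mul]
  ns x hx := h.ns x (hφ hx)

theorem orderOf_c {G : Type*} [Group G] {f : S4 × S4 →* G} {s : G} (h : Wr f s) : orderOf (f (c, 1)) = 2 := by
  rw [orderOf_injective f h.inj]
  have hp : Fact (Nat.Prime 2) := ⟨Nat.prime_two⟩
  apply orderOf_eq_prime
  · decide +kernel
  · decide +kernel

theorem false_of_excl {G : Type*} [Group G] [Finite G] {f : S4 × S4 →* G} {s : G} (h : Wr f s)
    (h256 : ¬ 256 ∣ Nat.card G) (hE : Excl G) : False :=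
  not_central h h256 (hE _ (orderOf_c h) (card_B_dvd h))

theorem card_block {M : Type*} [Group M] (e : M ≃* blockStabilizerS4wr2) : Nat.card M = 1152 := by
  obtain ⟨f, s, h, hW⟩ := isWr_block
  have h1 := card_WK h ⊤
  rw [WK_top, hW, card_top, card_top] at h1
  rw [Nat.card_congr e.toEquiv, h1]
  have h2 : Nat.card S4 = 24 := by
    rw [Nat.card_eq_fintype_card]
    decide +kernel
  rw [h2]

theorem main (T : OrdDiv.OrderTable.{u}) {G : Type u} [Group G] [Finite G] (hL : IsOnQTKEList G) (P : Sylow 2 G)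
    (M : Subgroup G) (hPM : (P : Subgroup G) ≤ M) (e : M ≃* blockStabilizerS4wr2) : False := by
  have hM : Nat.card M = 1152 := card_block e
  have h1152 : 1152 ∣ Nat.card G := hM ▸ card_subgroup_dvd_card M
  have h256 : ¬ 256 ∣ Nat.card G := by
    intro h
    have h1 : 2 ^ 8 ∣ Nat.card P := P.pow_dvd_card_of_pow_dvd_card (by norm_num; exact h)
    have h2 := h1.trans (card_dvd_of_le hPM)
    rw [hM] at h2
    norm_num at h2
  have h128 : 128 ∣ Nat.card G := Dvd.dvd.trans (by norm_num) h1152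
  obtain ⟨f₀, s₀, h₀, -⟩ := isWr_block
  have h := Wr.map h₀ (M.subtype.comp e.symm.toMonoidHom) (M.subtype_injective.comp e.symm.injective)
  have hS := OrdTwo.list T hL h1152 h256
  rcases hS with ⟨F, _, _, ho, ⟨e'⟩⟩ | ⟨F, _, _, hF, ⟨e'⟩⟩ | ⟨F, _, _, hF, ⟨e'⟩⟩ | h' | h' | h' | h'
  · exact false_of_excl h h256 (Excl.of_equiv e' (excl_psl ho (by rw [← Nat.card_congr e'.toEquiv]; exact h128)))
  · obtain ⟨e2⟩ := LargeExtra.W2.LFour.PslFacts.psl_congr F hF
    exact LFour.no_wr (Wr.map h (e'.trans e2.symm).toMonoidHom (e'.trans e2.symm).injective)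
  · have : Finite (PSU 4 F 3) := Finite.of_equiv G e'.toEquiv
    exact false_of_excl h h256 (Excl.of_equiv e' (excl_psu hF (by rw [← Nat.card_congr e'.toEquiv]; exact h128)))
  · exact false_of_excl h h256 (excl_m22 h128 h')
  · exact false_of_excl h h256 (excl_m23 h128 h')
  · exact false_of_excl h h256 (excl_j2 h')
  · exact false_of_excl h h256 (excl_j3 h128 h')

end Cfsg.Agent.H465.QtkeWr
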