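import Mathlib
import Cfsg.Prelude.Def_QuasithinSetup

/-!
# `S₄ wr 2` as a local subgroup (helper465)
-/

set_option autoImplicit false
set_option linter.dupNamespace false

namespace Cfsg.Agent.H465.Wr

open Equiv
open scoped Pointwise

abbrev S4 := Equiv.Perm (Fin 4)

/-- `G` contains a copy of `S₄ wr 2`. -/
structure Wr {G : Type*} [Group G] (f : S4 × S4 →* G) (s : G) : Prop where
  inj : Function.Injective f
  ss : s * s = 1
  sf : ∀ a b, s * f (a, b) = f (b, a) * s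
  ns : ∀ x, f x ≠ s

/-- the subgroup `S₄ wr 2` -/
def W {G : Type*} [Group G] {f : S4 × S4 →* G} {s : G} (h : Wr f s) : Subgroup G where
  carrier := {g | (∃ x, g = f x) ∨ ∃ x, g = f x * s}
  one_mem' := Or.inl ⟨1, (map_one f).symm⟩
  mul_mem' := by
    rintro a b (⟨x, rfl⟩ | ⟨x, rfl⟩) (⟨y, rfl⟩ | ⟨y, rfl⟩)
    · exact Or.inl ⟨x * y, (map_mul f x y).symm⟩
    · exact Or.inr ⟨x * y, by rw [map_mul, mul_assoc]⟩
    · refine Or.inr ⟨x * (y.2, y.1), ?_⟩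
      rw [map_mul, mul_assoc, mul_assoc, ← h.sf]
    · refine Or.inl ⟨x * (y.2, y.1), ?_⟩
      rw [map_mul, mul_assoc, ← mul_assoc s, h.sf y.1 y.2, mul_assoc, h.ss, mul_one]
  inv_mem' := by
    rintro a (⟨x, rfl⟩ | ⟨x, rfl⟩)
    · exact Or.inl ⟨x⁻¹, (map_inv f x).symm⟩
    · refine Or.inr ⟨(x.2⁻¹, x.1⁻¹), ?_⟩
      have hs : s⁻¹ = s := inv_eq_of_mul_eq_one_left h.ss
      rw [mul_inv_rev, hs, ← map_inv]
      exact h.sf x.1⁻¹ x.2⁻¹

theorem smul_pair {X : Type*} (σ : Equiv.Perm X) (A B : Set X) :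
    σ • ({A, B} : Set (Set X)) = {σ • A, σ • B} := by
  show (fun C => σ • C) '' ({A, B} : Set (Set X)) = _
  rw [Set.image_pair]

theorem isWr_block : ∃ (f : S4 × S4 →* Cfsg.blockStabilizerS4wr2) (s : Cfsg.blockStabilizerS4wr2),
    ∃ h : Wr f s, W h = ⊤ := by
  classical
  set R1 : Set (Fin 4 ⊕ Fin 4) := Set.range Sum.inl with hR1
  set R2 : Set (Fin 4 ⊕ Fin 4) := Set.range Sum.inr with hR2
  have hf : ∀ x : S4 × S4, Equiv.Perm.sumCongrHom (Fin 4) (Fin 4) x ∈ Cfsg.blockStabilizerS4wr2 := by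
    rintro ⟨a, b⟩
    rw [Cfsg.blockStabilizerS4wr2, MulAction.mem_stabilizer_iff, smul_pair]
    have h1 : (Equiv.Perm.sumCongrHom (Fin 4) (Fin 4) (a, b)) • R1 = R1 := by
      ext x
      rw [Set.mem_smul_set]
      constructor
      · rintro ⟨y, ⟨z, rfl⟩, rfl⟩
        exact ⟨a z, rfl⟩
      · rintro ⟨z, rfl⟩
        exact ⟨Sum.inl (a⁻¹ z), ⟨_, rfl⟩, by simp [Equiv.Perm.smul_def]⟩
    have h2 : (Equiv.Perm.sumCongrHom (Fin 4) (Fin 4) (a, b)) • R2 = R2 := by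
      ext x
      rw [Set.mem_smul_set]
      constructor
      · rintro ⟨y, ⟨z, rfl⟩, rfl⟩
        exact ⟨b z, rfl⟩
      · rintro ⟨z, rfl⟩
        exact ⟨Sum.inr (b⁻¹ z), ⟨_, rfl⟩, by simp [Equiv.Perm.smul_def]⟩
    rw [h1, h2]
  let sw : Equiv.Perm (Fin 4 ⊕ Fin 4) := Equiv.sumComm (Fin 4) (Fin 4)
  have hsw1 : sw • R1 = R2 := by
    ext x
    rw [Set.mem_smul_set]
    constructor
    · rintro ⟨y, ⟨z, rfl⟩, rfl⟩
      exact ⟨z, rfl⟩
    · rintro ⟨z, rfl⟩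
      exact ⟨Sum.inl z, ⟨_, rfl⟩, rfl⟩
  have hsw2 : sw • R2 = R1 := by
    ext x
    rw [Set.mem_smul_set]
    constructor
    · rintro ⟨y, ⟨z, rfl⟩, rfl⟩
      exact ⟨z, rfl⟩
    · rintro ⟨z, rfl⟩
      exact ⟨Sum.inr z, ⟨_, rfl⟩, rfl⟩
  have hs : sw ∈ Cfsg.blockStabilizerS4wr2 := by
    rw [Cfsg.blockStabilizerS4wr2, MulAction.mem_stabilizer_iff, smul_pair, hsw1, hsw2, Set.pair_comm]
  let f : S4 × S4 →* Cfsg.blockStabilizerS4wr2 :=
    (Equiv.Perm.sumCongrHom (Fin 4) (Fin 4)).codRestrict _ hf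
  let s : Cfsg.blockStabilizerS4wr2 := ⟨sw, hs⟩
  have hW : Wr f s := by
    refine ⟨?_, ?_, ?_, ?_⟩
    · intro x y hxy
      exact Equiv.Perm.sumCongrHom_injective (congrArg Subtype.val hxy)
    · apply Subtype.ext
      ext x
      rcases x with x | x <;> rfl
    · intro a b
      apply Subtype.ext
      ext x
      rcases x with x | x <;> rfl
    · rintro ⟨a, b⟩ hx
      have := congrArg (fun σ : Cfsg.blockStabilizerS4wr2 => (σ : Equiv.Perm (Fin 4 ⊕ Fin 4)) (Sum.inl 0)) hx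
      exact Sum.inl_ne_inr this
  refine ⟨f, s, hW, ?_⟩
  rw [eq_top_iff]
  rintro ⟨σ, hσ⟩ -
  have hσ' := hσ
  rw [Cfsg.blockStabilizerS4wr2, MulAction.mem_stabilizer_iff, smul_pair] at hσ'
  have key : ∀ τ : Equiv.Perm (Fin 4 ⊕ Fin 4), τ • R1 = R1 → ∃ x : S4 × S4,
      Equiv.Perm.sumCongrHom (Fin 4) (Fin 4) x = τ := by
    intro τ hτ
    have h1 : Set.MapsTo τ R1 R1 := by
      intro x hx
      rw [← hτ]
      exact ⟨x, hx, rfl⟩
    exact Equiv.Perm.mem_sumCongrHom_range_of_perm_mapsTo_inl h1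
  have h3 : σ • R1 ∈ ({R1, R2} : Set (Set (Fin 4 ⊕ Fin 4))) := by
    rw [← hσ']
    exact Set.mem_insert _ _
  rcases h3 with h3 | h3
  · obtain ⟨x, hx⟩ := key σ h3
    exact Or.inl ⟨x, Subtype.ext hx.symm⟩
  · have h4 : (σ * sw) • R2 = R2 := by
      rw [mul_smul, hsw2]
      exact h3
    have h5 : (sw * σ) • R1 = R1 := by
      rw [mul_smul]
      have : σ • R1 = R2 := h3
      rw [this, hsw2]
    obtain ⟨x, hx⟩ := key _ h5
    refine Or.inr ⟨(x.2, x.1), ?_⟩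
    apply Subtype.ext
    show σ = (Equiv.Perm.sumCongrHom (Fin 4) (Fin 4) (x.2, x.1)) * sw
    have h6 : σ = sw * Equiv.Perm.sumCongrHom (Fin 4) (Fin 4) x := by
      rw [hx, ← mul_assoc]
      have : sw * sw = 1 := by
        ext y
        rcases y with y | y <;> rfl
      rw [this, one_mul]
    rw [h6]
    ext y
    rcases y with y | y <;> rfl

end Cfsg.Agent.H465.Wr
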