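import Mathlib
import Cfsg.Agent.H465.Wr

/-!
# A non-central involution of a Sylow subgroup of type `D₈ wr 2` (helper465)
-/

set_option autoImplicit false
set_option linter.dupNamespace false

namespace Cfsg.Agent.H465.Wr

open Equiv Subgroup

variable {G : Type*} [Group G] {f : S4 × S4 →* G} {s : G}

/-- `K wr 2` -/
def WK (h : Wr f s) (K : Subgroup S4) : Subgroup G where
  carrier := {g | (∃ x : S4 × S4, x.1 ∈ K ∧ x.2 ∈ K ∧ g = f x) ∨ ∃ x : S4 × S4, x.1 ∈ K ∧ x.2 ∈ K ∧ g = f x * s}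
  one_mem' := Or.inl ⟨1, one_mem _, one_mem _, (map_one f).symm⟩
  mul_mem' := by
    rintro a b (⟨x, h1, h2, rfl⟩ | ⟨x, h1, h2, rfl⟩) (⟨y, h3, h4, rfl⟩ | ⟨y, h3, h4, rfl⟩)
    · exact Or.inl ⟨x * y, mul_mem h1 h3, mul_mem h2 h4, (map_mul f x y).symm⟩
    · exact Or.inr ⟨x * y, mul_mem h1 h3, mul_mem h2 h4, by rw [map_mul, mul_assoc]⟩
    · refine Or.inr ⟨x * (y.2, y.1), mul_mem h1 h4, mul_mem h2 h3, ?_⟩
      rw [map_mul, mul_assoc, mul_assoc, ← h.sf]
    · refine Or.inl ⟨x * (y.2, y.1), mul_mem h1 h4, mul_mem h2 h3, ?_⟩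
      rw [map_mul, mul_assoc, ← mul_assoc s, h.sf y.1 y.2, mul_assoc, h.ss, mul_one]
  inv_mem' := by
    rintro a (⟨x, h1, h2, rfl⟩ | ⟨x, h1, h2, rfl⟩)
    · exact Or.inl ⟨x⁻¹, inv_mem h1, inv_mem h2, (map_inv f x).symm⟩
    · refine Or.inr ⟨(x.2⁻¹, x.1⁻¹), inv_mem h2, inv_mem h1, ?_⟩
      have hs : s⁻¹ = s := inv_eq_of_mul_eq_one_left h.ss
      rw [mul_inv_rev, hs, ← map_inv]
      exact h.sf x.1⁻¹ x.2⁻¹

theorem WK_top (h : Wr f s) : WK h ⊤ = W h := by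
  ext g
  constructor
  · rintro (⟨x, -, -, rfl⟩ | ⟨x, -, -, rfl⟩)
    · exact Or.inl ⟨x, rfl⟩
    · exact Or.inr ⟨x, rfl⟩
  · rintro (⟨x, rfl⟩ | ⟨x, rfl⟩)
    · exact Or.inl ⟨x, mem_top _, mem_top _, rfl⟩
    · exact Or.inr ⟨x, mem_top _, mem_top _, rfl⟩

theorem ns' (h : Wr f s) (x y : S4 × S4) : f x ≠ f y * s := by
  intro hxy
  apply h.ns (y⁻¹ * x)
  rw [map_mul, map_inv, hxy]
  group

theorem card_WK (h : Wr f s) (K : Subgroup S4) : Nat.card (WK h K) = 2 * (Nat.card K * Nat.card K) := by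
  classical
  let φ : (K × K) ⊕ (K × K) → WK h K := fun x => match x with
    | Sum.inl x => ⟨f (x.1, x.2), Or.inl ⟨_, x.1.2, x.2.2, rfl⟩⟩
    | Sum.inr x => ⟨f (x.1, x.2) * s, Or.inr ⟨_, x.1.2, x.2.2, rfl⟩⟩
  have hinj : Function.Injective φ := by
    rintro (⟨a, b⟩ | ⟨a, b⟩) (⟨a', b'⟩ | ⟨a', b'⟩) hab
    · have h1 : f (a, b) = f (a', b') := congrArg Subtype.val hab
      have h2 := h.inj h1
      rw [Prod.mk.injEq] at h2
      rw [Subtype.ext h2.1, Subtype.ext h2.2]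
    · exact absurd (congrArg Subtype.val hab) (ns' h _ _)
    · exact absurd (congrArg Subtype.val hab).symm (ns' h _ _)
    · have h1 : f (a, b) * s = f (a', b') * s := congrArg Subtype.val hab
      have h2 := h.inj (mul_right_cancel h1)
      rw [Prod.mk.injEq] at h2
      rw [Subtype.ext h2.1, Subtype.ext h2.2]
  have hsurj : Function.Surjective φ := by
    rintro ⟨g, (⟨x, h1, h2, rfl⟩ | ⟨x, h1, h2, rfl⟩)⟩
    · exact ⟨Sum.inl (⟨x.1, h1⟩, ⟨x.2, h2⟩), rfl⟩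
    · exact ⟨Sum.inr (⟨x.1, h1⟩, ⟨x.2, h2⟩), rfl⟩
  rw [← Nat.card_congr (Equiv.ofBijective φ ⟨hinj, hsurj⟩), Nat.card_sum, Nat.card_prod]
  ring

/-- the central involution of the dihedral group -/
def c : S4 := swap 0 1 * swap 2 3

/-- the dihedral group of order 8 -/
def D : Subgroup S4 := centralizer ({c} : Set S4)

theorem mem_D {x : S4} : x ∈ D ↔ c * x = x * c := by
  rw [D, mem_centralizer_singleton_iff]
  exact eq_comm

instance decD : DecidablePred (· ∈ D) := fun _ => decidable_of_iff _ mem_D.symm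

theorem card_D : Nat.card D = 8 := by
  rw [Nat.card_eq_fintype_card, Fintype.card_subtype]
  decide +kernel

theorem c_mem : c ∈ D := mem_D.2 rfl

theorem c_sq : c * c = 1 := by decide +kernel

theorem c_ne : c ≠ 1 := by decide +kernel

theorem center_D : ∀ x : S4, x ∈ D → (∀ y : S4, y ∈ D → x * y = y * x) → x = 1 ∨ x = c := by
  have h : ∀ x : S4, c * x = x * c → (∀ y : S4, c * y = y * c → x * y = y * x) → x = 1 ∨ x = c := by decide +kernel
  exact fun x hx hy => h x (mem_D.1 hx) fun y hy' => hy y (mem_D.2 hy')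

theorem roots_c : Nat.card {x : D // (x : S4) * x = c} = 2 := by
  rw [Nat.card_eq_fintype_card]
  decide +kernel

theorem roots_one : Nat.card {x : D // (x : S4) * x = 1} = 6 := by
  rw [Nat.card_eq_fintype_card]
  decide +kernel

/-- `D₈ × D₈` -/
def B (f : S4 × S4 →* G) : Subgroup G := (D.prod D).map f

theorem mem_B {g : G} : g ∈ B f ↔ ∃ a b, a ∈ D ∧ b ∈ D ∧ g = f (a, b) := by
  constructor
  · rintro ⟨⟨a, b⟩, h, rfl⟩
    exact ⟨a, b, (Subgroup.mem_prod.1 h).1, (Subgroup.mem_prod.1 h).2, rfl⟩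
  · rintro ⟨a, b, h1, h2, rfl⟩
    exact ⟨(a, b), Subgroup.mem_prod.2 ⟨h1, h2⟩, rfl⟩

theorem card_B (h : Wr f s) : Nat.card (B f) = 64 := by
  have h1 : Nat.card (B f) = Nat.card (D.prod D) := (Nat.card_congr ((D.prod D).equivMapOfInjective f h.inj).toEquiv).symm
  rw [h1, Nat.card_congr (Subgroup.prodEquiv D D).toEquiv, Nat.card_prod, card_D]

theorem card_P (h : Wr f s) : Nat.card (WK h D) = 128 := by
  rw [card_WK, card_D]

theorem B_le (h : Wr f s) : B f ≤ WK h D := by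
  intro g hg
  obtain ⟨a, b, ha, hb, rfl⟩ := mem_B.1 hg
  exact Or.inl ⟨(a, b), ha, hb, rfl⟩

/-- the number of square roots in `D₈ × D₈` -/
noncomputable def rt (f : S4 × S4 →* G) (g : G) : ℕ := Nat.card {x : B f // (x : G) * x = g}

theorem rt_eq (h : Wr f s) (a b : S4) : rt f (f (a, b)) =
    Nat.card {x : D // (x : S4) * x = a} * Nat.card {x : D // (x : S4) * x = b} := by
  classical
  rw [← Nat.card_prod]
  refine (Nat.card_congr ?_).symm
  refine Equiv.ofBijective (fun x => ⟨⟨f (x.1.1, x.2.1), mem_B.2 ⟨_, _, x.1.1.2, x.2.1.2, rfl⟩⟩, ?_⟩) ⟨?_, ?_⟩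
  · show f (x.1.1, x.2.1) * f (x.1.1, x.2.1) = f (a, b)
    rw [← map_mul, Prod.mk_mul_mk, x.1.2, x.2.2]
  · rintro ⟨⟨x, hx⟩, ⟨y, hy⟩⟩ ⟨⟨x', hx'⟩, ⟨y', hy'⟩⟩ hxy
    have h1 : f ((x : S4), (y : S4)) = f ((x' : S4), (y' : S4)) := congrArg (fun z => ((z.1 : B f) : G)) hxy
    have h2 := h.inj h1
    rw [Prod.mk.injEq] at h2
    have h3 : x = x' := Subtype.ext h2.1
    have h4 : y = y' := Subtype.ext h2.2
    subst h3 h4
    rfl
  · rintro ⟨⟨g, hg⟩, hx⟩
    obtain ⟨x, y, hx', hy', rfl⟩ := mem_B.1 hg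
    have h1 : f (x, y) * f (x, y) = f (a, b) := hx
    rw [← map_mul] at h1
    have h2 := h.inj h1
    rw [Prod.mk_mul_mk, Prod.mk.injEq] at h2
    exact ⟨(⟨⟨x, hx'⟩, h2.1⟩, ⟨⟨y, hy'⟩, h2.2⟩), rfl⟩

theorem rt_conj {q : G} (hq : q ∈ normalizer ((B f : Subgroup G) : Set G)) (g : G) :
    rt f (q * g * q⁻¹) = rt f g := by
  classical
  refine (Nat.card_congr ?_).symm
  refine Equiv.ofBijective (fun x => ⟨⟨q * x.1 * q⁻¹, (mem_normalizer_iff.1 hq _).1 x.1.2⟩, ?_⟩) ⟨?_, ?_⟩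
  · show q * x.1 * q⁻¹ * (q * x.1 * q⁻¹) = q * g * q⁻¹
    have : q * (x.1 : G) * q⁻¹ * (q * x.1 * q⁻¹) = q * ((x.1 : G) * x.1) * q⁻¹ := by group
    rw [this, x.2]
  · rintro ⟨⟨x, hx⟩, hx'⟩ ⟨⟨y, hy⟩, hy'⟩ hxy
    have h1 : q * x * q⁻¹ = q * y * q⁻¹ := congrArg (fun z => ((z.1 : B f) : G)) hxy
    have h2 : x = y := by simpa using h1
    subst h2
    rfl
  · rintro ⟨⟨x, hx⟩, hx'⟩
    have hx'' : x * x = q * g * q⁻¹ := hx'
    refine ⟨⟨⟨q⁻¹ * x * q, ?_⟩, ?_⟩, ?_⟩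
    · rw [mem_normalizer_iff.1 hq]
      have : q * (q⁻¹ * x * q) * q⁻¹ = x := by group
      rwa [this]
    · show q⁻¹ * x * q * (q⁻¹ * x * q) = g
      have : q⁻¹ * x * q * (q⁻¹ * x * q) = q⁻¹ * (x * x) * q := by group
      rw [this, hx'']
      group
    · apply Subtype.ext
      apply Subtype.ext
      show q * (q⁻¹ * x * q) * q⁻¹ = x
      group

/-- the centre of the Sylow subgroup -/
theorem center_P (h : Wr f s) {x : G} (hx : x ∈ WK h D) (hc : ∀ y ∈ WK h D, x * y = y * x) :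
    x = 1 ∨ x = f (c, c) := by
  rcases hx with ⟨⟨a, b⟩, ha, hb, rfl⟩ | ⟨⟨a, b⟩, ha, hb, rfl⟩
  · have h1 : ∀ y, y ∈ D → a * y = y * a := by
      intro y hy
      have h2 := hc (f (y, 1)) (Or.inl ⟨(y, 1), hy, one_mem _, rfl⟩)
      rw [← map_mul, ← map_mul] at h2
      have h3 := h.inj h2
      rw [Prod.mk_mul_mk, Prod.mk_mul_mk, Prod.mk.injEq] at h3
      exact h3.1
    have h4 := hc s (Or.inr ⟨1, one_mem _, one_mem _, by rw [map_one, one_mul]⟩)
    have h5 : f (a, b) = f (b, a) := by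
      have h6 := h.sf a b
      rw [← h4] at h6
      exact mul_right_cancel h6
    have h7 := h.inj h5
    rw [Prod.mk.injEq] at h7
    obtain ⟨h8, -⟩ := h7
    subst h8
    rcases center_D a ha h1 with h9 | h9
    · left
      rw [h9]
      exact map_one f
    · right
      rw [h9]
  · exfalso
    have h2 := hc (f (c, 1)) (Or.inl ⟨(c, 1), c_mem, one_mem _, rfl⟩)
    rw [mul_assoc, h.sf, ← mul_assoc, ← mul_assoc, ← map_mul, ← map_mul] at h2
    have h3 := h.inj (mul_right_cancel h2)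
    rw [Prod.mk_mul_mk, Prod.mk_mul_mk, Prod.mk.injEq] at h3
    have h4 : a * 1 = c * a := h3.1
    rw [mul_one] at h4
    exact c_ne (mul_eq_right.1 h4.symm)

theorem fix_w (h : Wr f s) {q : G} (hqn : q ∈ normalizer ((B f : Subgroup G) : Set G))
    (hqv : q * f (c, 1) * q⁻¹ = f (c, 1)) : q * f (c, c) * q⁻¹ = f (c, c) := by
  have hwv' : rt f (f (c, c)) = 4 := by rw [rt_eq h, roots_c]
  have hv2 : rt f (f (1, c)) = 12 := by rw [rt_eq h, roots_c, roots_one]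
  have h2 : q * f (c, c) * q⁻¹ ∈ B f := (mem_normalizer_iff.1 hqn _).1 (mem_B.2 ⟨c, c, c_mem, c_mem, rfl⟩)
  -- central in `B`
  have h3 : ∀ g ∈ B f, (q * f (c, c) * q⁻¹) * g = g * (q * f (c, c) * q⁻¹) := by
    intro g hg
    have h4 : q⁻¹ * g * q ∈ B f := by
      have := (mem_normalizer_iff.1 (inv_mem hqn) g).1 hg
      simpa using this
    obtain ⟨a, b, ha, hb, hab⟩ := mem_B.1 h4
    have h5 : f (c, c) * (q⁻¹ * g * q) = (q⁻¹ * g * q) * f (c, c) := by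
      rw [hab, ← map_mul, ← map_mul, Prod.mk_mul_mk, Prod.mk_mul_mk, mem_D.1 ha, mem_D.1 hb]
    calc (q * f (c, c) * q⁻¹) * g = q * (f (c, c) * (q⁻¹ * g * q)) * q⁻¹ := by group
      _ = q * ((q⁻¹ * g * q) * f (c, c)) * q⁻¹ := by rw [h5]
      _ = _ := by group
  obtain ⟨a, b, ha, hb, hab⟩ := mem_B.1 h2
  have h6 : a = 1 ∨ a = c := by
    refine center_D a ha fun y hy => ?_
    have h7 := h3 _ (mem_B.2 ⟨y, 1, hy, one_mem _, rfl⟩)
    rw [hab, ← map_mul, ← map_mul] at h7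
    have := h.inj h7
    rw [Prod.mk_mul_mk, Prod.mk_mul_mk, Prod.mk.injEq] at this
    exact this.1
  have h7 : b = 1 ∨ b = c := by
    refine center_D b hb fun y hy => ?_
    have h7 := h3 _ (mem_B.2 ⟨1, y, one_mem _, hy, rfl⟩)
    rw [hab, ← map_mul, ← map_mul] at h7
    have := h.inj h7
    rw [Prod.mk_mul_mk, Prod.mk_mul_mk, Prod.mk.injEq] at this
    exact this.2
  have h8 : rt f (q * f (c, c) * q⁻¹) = 4 := by rw [rt_conj hqn, hwv']
  rcases h6 with h6 | h6 <;> rcases h7 with h7 | h7 <;> rw [h6, h7] at hab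
  · exfalso
    have h10 : q * f (c, c) * q⁻¹ = 1 := by rw [hab]; exact map_one f
    have hw1 : f (c, c) = 1 := by
      have h9 : q * f (c, c) = q := by
        rw [mul_inv_eq_one] at h10
        exact h10
      exact mul_eq_left.1 h9
    have := h.inj (hw1.trans (map_one f).symm)
    exact c_ne (congrArg Prod.fst this)
  · exfalso
    rw [hab, hv2] at h8
    norm_num at h8
  · exfalso
    have h9 : q * f (c, c) * q⁻¹ = q * f (c, 1) * q⁻¹ := by rw [hab, hqv]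
    have h10 : f (c, c) = f (c, 1) := by simpa using h9
    have := h.inj h10
    exact c_ne (congrArg Prod.snd this)
  · exact hab

theorem v_ne (h : Wr f s) : f (c, 1) ≠ 1 := fun h0 => c_ne (congrArg Prod.fst (h.inj (h0.trans (map_one f).symm)))

theorem w_ne (h : Wr f s) : f (c, c) ≠ 1 := fun h0 => c_ne (congrArg Prod.fst (h.inj (h0.trans (map_one f).symm)))

theorem v_ne_w (h : Wr f s) : f (c, 1) ≠ f (c, c) := fun h0 => c_ne (congrArg Prod.snd (h.inj h0)).symm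

/-- a `2`-subgroup of order 128 centralizing `v` and containing `B` -/
theorem not_le [Finite G] (h : Wr f s) (h128 : ¬ 256 ∣ Nat.card G) (Q : Subgroup G) (hQcard : Nat.card Q = 128)
    (hBQ : B f ≤ Q) (hQv : ∀ q ∈ Q, q * f (c, 1) * q⁻¹ = f (c, 1)) : False := by
  -- `B` is normal in `Q`
  have hidx : ((B f).subgroupOf Q).index = 2 := by
    have h2 : Nat.card ((B f).subgroupOf Q) * ((B f).subgroupOf Q).index = Nat.card Q := card_mul_index _
    have h3 : Nat.card ((B f).subgroupOf Q) = 64 := by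
      rw [Nat.card_congr (subgroupOfEquivOfLe hBQ).toEquiv, card_B h]
    rw [h3, hQcard] at h2
    omega
  have hnorm : Q ≤ normalizer ((B f : Subgroup G) : Set G) := by
    have : ((B f).subgroupOf Q).Normal := normal_of_index_eq_two hidx
    exact (normal_subgroupOf_iff_le_normalizer hBQ).1 this
  have hfix : ∀ q ∈ Q, q * f (c, c) * q⁻¹ = f (c, c) := fun q hq => fix_w h (hnorm hq) (hQv q hq)
  -- both `v` and `w` are central in `Q`
  have hQ2 : IsPGroup 2 Q := IsPGroup.of_card (n := 7) (by rw [hQcard]; norm_num)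
  let Q1 : Sylow 2 G := hQ2.toSylow (by
    intro hdiv
    have h2 : Nat.card Q * Q.index = Nat.card G := card_mul_index Q
    obtain ⟨m, hm⟩ := hdiv
    apply h128
    rw [← h2, hQcard, hm]
    exact ⟨m, by ring⟩)
  have hPp : IsPGroup 2 (WK h D) := IsPGroup.of_card (n := 7) (by rw [card_P h]; norm_num)
  let P1 : Sylow 2 G := hPp.toSylow (by
    intro hdiv
    have h2 : Nat.card (WK h D) * (WK h D).index = Nat.card G := card_mul_index _
    obtain ⟨m, hm⟩ := hdiv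
    apply h128
    rw [← h2, card_P h, hm]
    exact ⟨m, by ring⟩)
  obtain ⟨g, hg⟩ := MulAction.exists_smul_eq G Q1 P1
  have hg' : ∀ x : G, x ∈ Q ↔ g * x * g⁻¹ ∈ WK h D := by
    intro x
    have h2 : g * x * g⁻¹ ∈ (g • Q1 : Sylow 2 G) ↔ x ∈ Q := by
      rw [← SetLike.mem_coe, Sylow.coe_smul, ← MulAut.conj_apply, ← MulAut.smul_def, Set.smul_mem_smul_set_iff]
      rfl
    rw [← h2, hg]
    rfl
  have hcent : ∀ u ∈ Q, (∀ q ∈ Q, q * u * q⁻¹ = u) → g * u * g⁻¹ = 1 ∨ g * u * g⁻¹ = f (c, c) := by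
    intro u hu huq
    refine center_P h ((hg' u).1 hu) fun y hy => ?_
    have h2 : g⁻¹ * y * g ∈ Q := by
      rw [hg']
      have : g * (g⁻¹ * y * g) * g⁻¹ = y := by group
      rwa [this]
    have h3 := huq _ h2
    have h4 : (g⁻¹ * y * g) * u = u * (g⁻¹ * y * g) := by
      rw [mul_inv_eq_iff_eq_mul] at h3
      exact h3
    calc g * u * g⁻¹ * y = g * (u * (g⁻¹ * y * g)) * g⁻¹ := by group
      _ = g * ((g⁻¹ * y * g) * u) * g⁻¹ := by rw [h4]
      _ = _ := by group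
  have hvQ : f (c, 1) ∈ Q := hBQ (mem_B.2 ⟨c, 1, c_mem, one_mem _, rfl⟩)
  have hwQ : f (c, c) ∈ Q := hBQ (mem_B.2 ⟨c, c, c_mem, c_mem, rfl⟩)
  have e1 : g * f (c, 1) * g⁻¹ = f (c, c) := by
    refine (hcent _ hvQ hQv).resolve_left fun h0 => v_ne h ?_
    rw [mul_inv_eq_one] at h0
    exact mul_eq_left.1 h0
  have e2 : g * f (c, c) * g⁻¹ = f (c, c) := by
    refine (hcent _ hwQ hfix).resolve_left fun h0 => w_ne h ?_
    rw [mul_inv_eq_one] at h0
    exact mul_eq_left.1 h0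
  have e3 : f (c, 1) = f (c, c) := by
    have : g * f (c, 1) * g⁻¹ = g * f (c, c) * g⁻¹ := e1.trans e2.symm
    simpa using this
  exact v_ne_w h e3

theorem B_le_cent : B f ≤ centralizer ({f (c, 1)} : Set G) := by
  intro g hg
  obtain ⟨a, b, ha, hb, rfl⟩ := mem_B.1 hg
  rw [mem_centralizer_singleton_iff, ← map_mul, ← map_mul, Prod.mk_mul_mk, Prod.mk_mul_mk, mem_D.1 ha,
    one_mul, mul_one]

theorem card_map_sub {H : Subgroup G} (K : Subgroup H) : Nat.card (K.map H.subtype) = Nat.card K :=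
  (Nat.card_congr (K.equivMapOfInjective _ (subtype_injective H)).toEquiv).symm

theorem exists_syl [Finite G] {C A : Subgroup G} (hA : IsPGroup 2 A) (hAC : A ≤ C) (hd : 2 ^ 7 ∣ Nat.card C)
    (h8 : ¬ 2 ^ 8 ∣ Nat.card G) : ∃ Q : Subgroup G, A ≤ Q ∧ Q ≤ C ∧ Nat.card Q = 2 ^ 7 := by
  have hB2' : IsPGroup 2 (A.subgroupOf C) := hA.comap_of_injective _ (Subtype.val_injective)
  obtain ⟨Q0, hQ0⟩ := hB2'.exists_le_sylow
  refine ⟨(Q0 : Subgroup C).map C.subtype, fun g hg => ⟨⟨g, hAC hg⟩, hQ0 hg, rfl⟩, map_subtype_le _, ?_⟩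
  have h1 : 2 ^ 7 ∣ Nat.card Q0 := Q0.pow_dvd_card_of_pow_dvd_card hd
  rw [card_map_sub]
  obtain ⟨n, hn⟩ := IsPGroup.iff_card.1 Q0.isPGroup'
  have h2 : Nat.card ((Q0 : Subgroup C).map C.subtype) ∣ Nat.card G := card_subgroup_dvd_card _
  rw [card_map_sub] at h2
  rw [hn] at h1 h2 ⊢
  have h3 : 7 ≤ n := (Nat.pow_dvd_pow_iff_le_right (by norm_num : 1 < 2)).1 h1
  have h4 : n < 8 := by
    by_contra h4
    exact h8 (dvd_trans (pow_dvd_pow 2 (by omega)) h2)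
  have : n = 7 := by omega
  rw [this]

/-- **`f (c, 1)` is not `2`-central.** -/
theorem not_central [Finite G] (h : Wr f s) (h128 : ¬ 256 ∣ Nat.card G) :
    ¬ 128 ∣ Nat.card (centralizer ({f (c, 1)} : Set G)) := by
  intro hd
  have hB2 : IsPGroup 2 (B f) := IsPGroup.of_card (n := 6) (by rw [card_B h]; norm_num)
  obtain ⟨Q, h1, h2, h3⟩ := exists_syl hB2 B_le_cent (by rw [show (2 : ℕ) ^ 7 = 128 from by norm_num]; exact hd)
    (by rw [show (2 : ℕ) ^ 8 = 256 from by norm_num]; exact h128)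
  refine not_le h h128 Q (by rw [h3]; norm_num) h1 fun q hq => ?_
  have := mem_centralizer_singleton_iff.1 (h2 hq)
  rw [mul_inv_eq_iff_eq_mul]
  exact this

theorem card_B_dvd [Finite G] (h : Wr f s) : 64 ∣ Nat.card (centralizer ({f (c, 1)} : Set G)) := by
  rw [← card_B h]
  exact card_dvd_of_le B_le_cent

end Cfsg.Agent.H465.Wr
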